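import Mathlib
import Cfsg.Agent.Lib.Helper38.SLCard

set_option autoImplicit false
set_option linter.unusedSectionVars false

namespace Cfsg.Agent.Lib.Helper42.SL2Odd

open Matrix

section sol
variable {F : Type*} [Field F] [Fintype F]

/-- solutions of the norm equation with trace parameter `t` -/
abbrev Sol (t : F) : Type _ := {p : F × F // p.1 ^ 2 + t * p.1 * p.2 + p.2 ^ 2 = 1}

lemma card_sq_eq_one (h2 : (2 : F) ≠ 0) : Nat.card {u : F // u ^ 2 = 1} = 2 := by
  have hs : {u : F | u ^ 2 = 1} = {1, -1} := by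
    ext u
    simp only [Set.mem_ofPred_eq, Set.mem_insert_iff, Set.mem_singleton_iff]
    constructor
    · intro h
      have h1 : (u - 1) * (u + 1) = 0 := by linear_combination h
      rcases mul_eq_zero.mp h1 with h | h
      · left; linear_combination h
      · right; linear_combination h
    · rintro (rfl | rfl) <;> ring
  have hne : (1 : F) ≠ -1 := by
    intro h
    apply h2
    linear_combination h
  have h4 : Nat.card {u : F // u ^ 2 = 1} = ({u : F | u ^ 2 = 1}).ncard := Nat.card_coe_set_eq _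
  rw [h4, hs]
  exact Set.ncard_pair hne

lemma card_sol_parabolic (h2 : (2 : F) ≠ 0) (t : F) (ht : t ^ 2 = 4) :
    Nat.card (Sol t) = 2 * Fintype.card F := by
  set ε : F := t / 2 with hε
  have htε : t = 2 * ε := by rw [hε]; field_simp
  have hε2 : ε ^ 2 = 1 := by
    have h4 : (4 : F) ≠ 0 := by
      have : (4 : F) = 2 * 2 := by norm_num
      rw [this]
      exact mul_ne_zero h2 h2
    have : 4 * ε ^ 2 = 4 * 1 := by rw [hε]; field_simp; linear_combination ht
    exact mul_left_cancel₀ h4 this
  let e : Sol t ≃ F × {u : F // u ^ 2 = 1} :=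
    { toFun := fun p => (p.1.2, ⟨p.1.1 + ε * p.1.2, by
        have h := p.2
        linear_combination h - p.1.1 * p.1.2 * htε + p.1.2 ^ 2 * hε2⟩)
      invFun := fun q => ⟨(q.2.1 - ε * q.1, q.1), by
        have hu := q.2.2
        show (q.2.1 - ε * q.1) ^ 2 + t * (q.2.1 - ε * q.1) * q.1 + q.1 ^ 2 = 1
        linear_combination hu + (q.2.1 * q.1 - ε * q.1 ^ 2) * htε - q.1 ^ 2 * hε2⟩
      left_inv := by
        rintro ⟨⟨a, b⟩, hp⟩
        apply Subtype.ext
        show (a + ε * b - ε * b, b) = (a, b)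
        rw [add_sub_cancel_right]
      right_inv := by
        rintro ⟨b, ⟨u, hu⟩⟩
        apply Prod.ext
        · rfl
        · apply Subtype.ext
          show u - ε * b + ε * b = u
          rw [sub_add_cancel] }
  rw [Nat.card_congr e, Nat.card_prod, card_sq_eq_one h2, Nat.card_eq_fintype_card, mul_comm]

lemma card_sol_split (t : F) (ht : t ^ 2 ≠ 4) (r : F) (hr : r ^ 2 - t * r + 1 = 0) :
    Nat.card (Sol t) = Fintype.card F - 1 := by
  classical
  have hmul : ∀ a b : F, (a + r * b) * (a + (t - r) * b) = a ^ 2 + t * a * b + b ^ 2 := by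
    intro a b
    linear_combination (-b ^ 2) * hr
  have hne : 2 * r - t ≠ 0 := by
    intro h
    apply ht
    linear_combination (2 * r - t) * h - 4 * hr
  let f : Sol t → Fˣ := fun p =>
    Units.mkOfMulEqOne (p.1.1 + r * p.1.2) (p.1.1 + (t - r) * p.1.2) (by rw [hmul]; exact p.2)
  have hf1 : ∀ p : Sol t, ((f p : Fˣ) : F) = p.1.1 + r * p.1.2 := fun p => rfl
  have hf2 : ∀ p : Sol t, (((f p)⁻¹ : Fˣ) : F) = p.1.1 + (t - r) * p.1.2 := fun p => rfl
  have hbij : Function.Bijective f := by
    constructor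
    · rintro ⟨⟨a, b⟩, hp⟩ ⟨⟨a', b'⟩, hp'⟩ hpp
      have e1 : a + r * b = a' + r * b' := by
        have := congrArg (fun u : Fˣ => (u : F)) hpp
        simpa [hf1] using this
      have e2 : a + (t - r) * b = a' + (t - r) * b' := by
        have := congrArg (fun u : Fˣ => ((u⁻¹ : Fˣ) : F)) hpp
        simpa [hf2] using this
      have e3 : (2 * r - t) * (b - b') = 0 := by linear_combination e1 - e2
      have e4 : b = b' := by
        rcases mul_eq_zero.mp e3 with h | h
        · exact absurd h hne
        · exact sub_eq_zero.mp h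
      have e5 : a = a' := by
        rw [e4] at e1
        exact add_right_cancel e1
      apply Subtype.ext
      show (a, b) = (a', b')
      rw [e4, e5]
    · intro u
      have huw : (u : F) * ((u⁻¹ : Fˣ) : F) = 1 := by
        rw [← Units.val_mul, mul_inv_cancel, Units.val_one]
      set w : F := ((u⁻¹ : Fˣ) : F) with hw
      set β : F := ((u : F) - w) / (2 * r - t) with hβ
      have e1 : (2 * r - t) * β = (u : F) - w := by
        rw [hβ]
        field_simp
      refine ⟨⟨((u : F) - r * β, β), ?_⟩, ?_⟩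
      · show ((u : F) - r * β) ^ 2 + t * ((u : F) - r * β) * β + β ^ 2 = 1
        linear_combination (-(u : F)) * e1 + β ^ 2 * hr + huw
      · apply Units.ext
        rw [hf1]
        show (u : F) - r * β + r * β = (u : F)
        rw [sub_add_cancel]
  rw [Nat.card_congr (Equiv.ofBijective f hbij), Nat.card_eq_fintype_card, Fintype.card_units]

lemma card_sol_nonsplit (h2 : (2 : F) ≠ 0) (t : F) (h : ∀ r : F, r ^ 2 - t * r + 1 ≠ 0) :
    Nat.card (Sol t) = Fintype.card F + 1 := by
  classical
  have hD : ∀ m : F, m ^ 2 + t * m + 1 ≠ 0 := fun m hm => h (-m) (by linear_combination hm)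
  let s : F → F := fun m => -(2 * m + t) / (m ^ 2 + t * m + 1)
  have hs : ∀ m : F, s m * (m ^ 2 + t * m + 1) = -(2 * m + t) := by
    intro m
    exact div_mul_cancel₀ _ (hD m)
  let Φ : Option F → Sol t := fun o =>
    match o with
    | none => ⟨(-1, 0), by ring⟩
    | some m => ⟨(1 + m * s m, s m), by
        show (1 + m * s m) ^ 2 + t * (1 + m * s m) * s m + s m ^ 2 = 1
        linear_combination (s m) * hs m⟩
  have hΦn : (Φ none).1 = (-1, 0) := rfl
  have hΦs : ∀ m, (Φ (some m)).1 = (1 + m * s m, s m) := fun m => rfl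
  have hbij : Function.Bijective Φ := by
    constructor
    · intro o o' hoo
      have hoo' := congrArg Subtype.val hoo
      rcases o with _ | m <;> rcases o' with _ | m'
      · rfl
      · exfalso
        rw [hΦn, hΦs] at hoo'
        have e1 : (-1 : F) = 1 + m' * s m' := congrArg Prod.fst hoo'
        have e2 : (0 : F) = s m' := congrArg Prod.snd hoo'
        rw [← e2] at e1
        apply h2
        linear_combination -e1
      · exfalso
        rw [hΦn, hΦs] at hoo'
        have e1 : 1 + m * s m = (-1 : F) := congrArg Prod.fst hoo'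
        have e2 : s m = (0 : F) := congrArg Prod.snd hoo'
        rw [e2] at e1
        apply h2
        linear_combination e1
      · rw [hΦs, hΦs] at hoo'
        have e1 : 1 + m * s m = 1 + m' * s m' := congrArg Prod.fst hoo'
        have e2 : s m = s m' := congrArg Prod.snd hoo'
        congr 1
        by_cases hs0 : s m = 0
        · have h1 := hs m
          have h1' := hs m'
          rw [← e2, hs0] at h1'
          rw [hs0] at h1
          have : 2 * (m - m') = 0 := by linear_combination h1 - h1'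
          exact sub_eq_zero.mp ((mul_eq_zero.mp this).resolve_left h2)
        · rw [← e2] at e1
          have : (m - m') * s m = 0 := by linear_combination e1
          exact sub_eq_zero.mp ((mul_eq_zero.mp this).resolve_right hs0)
    · rintro ⟨⟨α, β⟩, hp⟩
      have hp' : α ^ 2 + t * α * β + β ^ 2 = 1 := hp
      by_cases hβ : β = 0
      · subst hβ
        have h1 : (α - 1) * (α + 1) = 0 := by linear_combination hp'
        rcases mul_eq_zero.mp h1 with h1 | h1
        · refine ⟨some (-t / 2), ?_⟩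
          apply Subtype.ext
          rw [hΦs]
          have h3 := hs (-t / 2)
          have h4 : s (-t / 2) = 0 := by
            have : -(2 * (-t / 2) + t) = 0 := by field_simp; ring
            rw [this] at h3
            exact (mul_eq_zero.mp h3).resolve_right (hD _)
          rw [h4]
          show (1 + -t / 2 * 0, (0 : F)) = (α, 0)
          rw [mul_zero, add_zero]
          congr 1
          linear_combination -h1
        · refine ⟨none, ?_⟩
          apply Subtype.ext
          rw [hΦn]
          show ((-1 : F), (0 : F)) = (α, 0)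
          congr 1
          linear_combination -h1
      · obtain ⟨m, hmβ⟩ : ∃ m : F, m * β = α - 1 := ⟨(α - 1) / β, by field_simp⟩
        have h3 := hs m
        have h4 : β * (m ^ 2 + t * m + 1) = -(2 * m + t) := by
          have : β * (β * (m ^ 2 + t * m + 1)) = β * (-(2 * m + t)) := by
            linear_combination hp' + (m * β + α + 1 + t * β) * hmβ
          exact mul_left_cancel₀ hβ this
        have h5 : s m = β := by
          have : s m * (m ^ 2 + t * m + 1) = β * (m ^ 2 + t * m + 1) := by rw [h3, h4]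
          exact mul_right_cancel₀ (hD m) this
        refine ⟨some m, ?_⟩
        apply Subtype.ext
        rw [hΦs, h5]
        show (1 + m * β, β) = (α, β)
        congr 1
        linear_combination hmβ
  rw [← Nat.card_congr (Equiv.ofBijective Φ hbij), Nat.card_eq_fintype_card, Fintype.card_option]

end sol

section cent
variable {F : Type*} [Field F] [Fintype F]

local notation "SL2F" => Matrix.SpecialLinearGroup (Fin 2) F

omit [Fintype F] in
lemma det_eq (g : SL2F) : g 0 0 * g 1 1 - g 0 1 * g 1 0 = 1 := by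
  have := g.det_coe
  rw [Matrix.det_fin_two] at this
  exact this

omit [Fintype F] in
lemma ext_entries {x y : SL2F} (h00 : x 0 0 = y 0 0) (h01 : x 0 1 = y 0 1)
    (h10 : x 1 0 = y 1 0) (h11 : x 1 1 = y 1 1) : x = y := by
  apply Matrix.SpecialLinearGroup.ext
  intro i j
  fin_cases i <;> fin_cases j
  · exact h00
  · exact h01
  · exact h10
  · exact h11

omit [Fintype F] in
lemma mul_entries (x y : SL2F) :
    (x * y) 0 0 = x 0 0 * y 0 0 + x 0 1 * y 1 0 ∧ (x * y) 0 1 = x 0 0 * y 0 1 + x 0 1 * y 1 1 ∧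
    (x * y) 1 0 = x 1 0 * y 0 0 + x 1 1 * y 1 0 ∧ (x * y) 1 1 = x 1 0 * y 0 1 + x 1 1 * y 1 1 := by
  simp [Matrix.SpecialLinearGroup.coe_mul, Matrix.mul_apply, Fin.sum_univ_two]

omit [Fintype F] in
lemma neg_entries (x : SL2F) (i j : Fin 2) : (-x) i j = -(x i j) := rfl

omit [Fintype F] in
/-- the element `α + β g` -/
def lin (g : SL2F) (p : Sol (g 0 0 + g 1 1)) : SL2F :=
  ⟨!![p.1.1 + p.1.2 * g 0 0, p.1.2 * g 0 1; p.1.2 * g 1 0, p.1.1 + p.1.2 * g 1 1], by
    rw [Matrix.det_fin_two_of]
    have h1 := det_eq g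
    have h2 := p.2
    linear_combination h2 + p.1.2 ^ 2 * h1⟩

omit [Fintype F] in
lemma lin_entries (g : SL2F) (p : Sol (g 0 0 + g 1 1)) :
    (lin g p) 0 0 = p.1.1 + p.1.2 * g 0 0 ∧ (lin g p) 0 1 = p.1.2 * g 0 1 ∧
    (lin g p) 1 0 = p.1.2 * g 1 0 ∧ (lin g p) 1 1 = p.1.1 + p.1.2 * g 1 1 := by
  refine ⟨rfl, rfl, rfl, rfl⟩

omit [Fintype F] in
lemma lin_comm (g : SL2F) (p : Sol (g 0 0 + g 1 1)) : lin g p * g = g * lin g p := by
  obtain ⟨a00, a01, a10, a11⟩ := mul_entries (lin g p) g
  obtain ⟨b00, b01, b10, b11⟩ := mul_entries g (lin g p)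
  obtain ⟨l00, l01, l10, l11⟩ := lin_entries g p
  apply ext_entries
  · rw [a00, b00, l00, l10, l01]; ring
  · rw [a01, b01, l00, l01, l11]; ring
  · rw [a10, b10, l00, l10, l11]; ring
  · rw [a11, b11, l01, l10, l11]; ring

omit [Fintype F] in
/-- the centralizer of a non-scalar element is parametrised by solutions of the norm equation -/
theorem card_centralizer (g : SL2F) (hns : ¬ (g 0 1 = 0 ∧ g 1 0 = 0 ∧ g 0 0 = g 1 1)) :
    Nat.card (Subgroup.centralizer {g}) = Nat.card (Sol (g 0 0 + g 1 1)) := by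
  let Ψ : Sol (g 0 0 + g 1 1) → Subgroup.centralizer {g} := fun p =>
    ⟨lin g p, Subgroup.mem_centralizer_singleton_iff.mpr (lin_comm g p)⟩
  have hbij : Function.Bijective Ψ := by
    constructor
    · rintro ⟨⟨α, β⟩, hp⟩ ⟨⟨α', β'⟩, hp'⟩ hpp
      have hpp' : lin g ⟨(α, β), hp⟩ = lin g ⟨(α', β'), hp'⟩ := congrArg Subtype.val hpp
      have e00 : α + β * g 0 0 = α' + β' * g 0 0 :=
        congrArg (fun x : SL2F => x 0 0) hpp'
      have e01 : β * g 0 1 = β' * g 0 1 := congrArg (fun x : SL2F => x 0 1) hpp'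
      have e10 : β * g 1 0 = β' * g 1 0 := congrArg (fun x : SL2F => x 1 0) hpp'
      have e11 : α + β * g 1 1 = α' + β' * g 1 1 :=
        congrArg (fun x : SL2F => x 1 1) hpp'
      have hβ : β = β' := by
        by_contra hne
        have hne' : β - β' ≠ 0 := sub_ne_zero.mpr hne
        apply hns
        refine ⟨?_, ?_, ?_⟩
        · have : (β - β') * g 0 1 = 0 := by linear_combination e01
          exact (mul_eq_zero.mp this).resolve_left hne'
        · have : (β - β') * g 1 0 = 0 := by linear_combination e10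
          exact (mul_eq_zero.mp this).resolve_left hne'
        · have : (β - β') * (g 0 0 - g 1 1) = 0 := by linear_combination e00 - e11
          exact sub_eq_zero.mp ((mul_eq_zero.mp this).resolve_left hne')
      have hα : α = α' := by
        rw [hβ] at e00
        exact add_right_cancel e00
      apply Subtype.ext
      show (α, β) = (α', β')
      rw [hα, hβ]
    · rintro ⟨x, hx⟩
      have hxg : x * g = g * x := Subgroup.mem_centralizer_singleton_iff.mp hx
      obtain ⟨a00, a01, a10, a11⟩ := mul_entries x g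
      obtain ⟨b00, b01, b10, b11⟩ := mul_entries g x
      have E00 : x 0 0 * g 0 0 + x 0 1 * g 1 0 = g 0 0 * x 0 0 + g 0 1 * x 1 0 := by
        rw [← a00, ← b00, hxg]
      have E01 : x 0 0 * g 0 1 + x 0 1 * g 1 1 = g 0 0 * x 0 1 + g 0 1 * x 1 1 := by
        rw [← a01, ← b01, hxg]
      have E10 : x 1 0 * g 0 0 + x 1 1 * g 1 0 = g 1 0 * x 0 0 + g 1 1 * x 1 0 := by
        rw [← a10, ← b10, hxg]
      have hdx := det_eq x
      have hdg := det_eq g
      have hex : ∃ α β : F, x 0 0 = α + β * g 0 0 ∧ x 0 1 = β * g 0 1 ∧ x 1 0 = β * g 1 0 ∧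
          x 1 1 = α + β * g 1 1 := by
        by_cases hc : g 1 0 = 0
        · by_cases hb : g 0 1 = 0
          · have had : g 0 0 - g 1 1 ≠ 0 := by
              intro h
              exact hns ⟨hb, hc, sub_eq_zero.mp h⟩
            have hx01 : x 0 1 = 0 := by
              have : x 0 1 * (g 0 0 - g 1 1) = 0 := by
                rw [hb] at E01
                linear_combination -E01
              exact (mul_eq_zero.mp this).resolve_right had
            have hx10 : x 1 0 = 0 := by
              have : x 1 0 * (g 0 0 - g 1 1) = 0 := by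
                rw [hc] at E10
                linear_combination E10
              exact (mul_eq_zero.mp this).resolve_right had
            refine ⟨x 0 0 - (x 0 0 - x 1 1) / (g 0 0 - g 1 1) * g 0 0,
              (x 0 0 - x 1 1) / (g 0 0 - g 1 1), ?_, ?_, ?_, ?_⟩
            · ring
            · rw [hb, hx01, mul_zero]
            · rw [hc, hx10, mul_zero]
            · field_simp
              ring
          · have hx10 : x 1 0 = 0 := by
              have : g 0 1 * x 1 0 = 0 := by
                rw [hc] at E00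
                linear_combination -E00
              exact (mul_eq_zero.mp this).resolve_left hb
            refine ⟨x 0 0 - x 0 1 / g 0 1 * g 0 0, x 0 1 / g 0 1, ?_, ?_, ?_, ?_⟩
            · ring
            · field_simp
            · rw [hc, hx10, mul_zero]
            · field_simp
              linear_combination -E01
        · refine ⟨x 0 0 - x 1 0 / g 1 0 * g 0 0, x 1 0 / g 1 0, ?_, ?_, ?_, ?_⟩
          · ring
          · field_simp
            linear_combination E00
          · field_simp
          · field_simp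
            linear_combination E10
      obtain ⟨α, β, h00, h01, h10, h11⟩ := hex
      have hsol : α ^ 2 + (g 0 0 + g 1 1) * α * β + β ^ 2 = 1 := by
        rw [h00, h01, h10, h11] at hdx
        linear_combination hdx - β ^ 2 * hdg
      refine ⟨⟨(α, β), hsol⟩, ?_⟩
      apply Subtype.ext
      show lin g ⟨(α, β), hsol⟩ = x
      obtain ⟨l00, l01, l10, l11⟩ := lin_entries g ⟨(α, β), hsol⟩
      apply ext_entries
      · rw [l00, h00]
      · rw [l01, h01]
      · rw [l10, h10]
      · rw [l11, h11]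
  exact (Nat.card_congr (Equiv.ofBijective Ψ hbij)).symm

end cent

section psl
variable {F : Type*} [Field F] [Fintype F]

local notation "SL2F" => Matrix.SpecialLinearGroup (Fin 2) F
local notation "PSL2F" => Matrix.ProjectiveSpecialLinearGroup (Fin 2) F

/-- the projection `SL₂ → PSL₂` -/
abbrev proj : SL2F →* PSL2F := QuotientGroup.mk' (Subgroup.center SL2F)

omit [Fintype F] in
lemma proj_surjective : Function.Surjective (proj (F := F)) := QuotientGroup.mk'_surjective _

omit [Fintype F] in
lemma mem_center_iff' (z : SL2F) : z ∈ Subgroup.center SL2F ↔ z = 1 ∨ z = -1 := by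
  rw [Matrix.SpecialLinearGroup.mem_center_iff]
  constructor
  · rintro ⟨r, hr, hz⟩
    rw [Fintype.card_fin] at hr
    have h1 : (r - 1) * (r + 1) = 0 := by linear_combination hr
    rcases mul_eq_zero.mp h1 with h | h
    · left
      have hr1 : r = 1 := by linear_combination h
      apply Subtype.ext
      rw [← hz, hr1]
      simp
    · right
      have hr1 : r = -1 := by linear_combination h
      apply Subtype.ext
      rw [← hz, hr1, map_neg, map_one]
      rfl
  · rintro (rfl | rfl)
    · exact ⟨1, by simp, by simp⟩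
    · exact ⟨-1, by simp, by rw [map_neg, map_one]; rfl⟩

omit [Fintype F] in
lemma mem_comap_iff (g x : SL2F) :
    x ∈ (Subgroup.centralizer {proj g}).comap proj ↔ x * g = g * x ∨ x * g = -(g * x) := by
  rw [Subgroup.mem_comap, Subgroup.mem_centralizer_singleton_iff, ← map_mul, ← map_mul,
    QuotientGroup.mk'_eq_mk']
  constructor
  · rintro ⟨z, hz, h⟩
    rcases (mem_center_iff' z).mp hz with rfl | rfl
    · left
      rw [mul_one] at h
      exact h
    · right
      rw [mul_neg, mul_one] at h
      rw [← h, neg_neg]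
  · rintro (h | h)
    · exact ⟨1, one_mem _, by rw [mul_one, h]⟩
    · exact ⟨-1, (mem_center_iff' _).mpr (Or.inr rfl), by rw [mul_neg, mul_one, h, neg_neg]⟩

omit [Fintype F] in
lemma trace_zero_of_anticomm (h2 : (2 : F) ≠ 0) (g x : SL2F) (h : x * g = -(g * x)) :
    g 0 0 + g 1 1 = 0 := by
  obtain ⟨a00, a01, a10, a11⟩ := mul_entries x g
  obtain ⟨b00, b01, b10, b11⟩ := mul_entries g x
  have E00 : x 0 0 * g 0 0 + x 0 1 * g 1 0 = -(g 0 0 * x 0 0 + g 0 1 * x 1 0) := by
    rw [← a00, ← b00, h, neg_entries]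
  have E01 : x 0 0 * g 0 1 + x 0 1 * g 1 1 = -(g 0 0 * x 0 1 + g 0 1 * x 1 1) := by
    rw [← a01, ← b01, h, neg_entries]
  have E10 : x 1 0 * g 0 0 + x 1 1 * g 1 0 = -(g 1 0 * x 0 0 + g 1 1 * x 1 0) := by
    rw [← a10, ← b10, h, neg_entries]
  have E11 : x 1 0 * g 0 1 + x 1 1 * g 1 1 = -(g 1 0 * x 0 1 + g 1 1 * x 1 1) := by
    rw [← a11, ← b11, h, neg_entries]
  have hdx := det_eq x
  have h3 : 2 * (g 0 0 + g 1 1) = 0 := by
    linear_combination (-(2 * (g 0 0 + g 1 1))) * hdx + x 1 1 * E00 - x 1 0 * E01 - x 0 1 * E10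
      + x 0 0 * E11
  exact (mul_eq_zero.mp h3).resolve_left h2

omit [Fintype F] in
lemma comap_eq_centralizer (h2 : (2 : F) ≠ 0) (g : SL2F) (ht : g 0 0 + g 1 1 ≠ 0) :
    (Subgroup.centralizer {proj g}).comap proj = Subgroup.centralizer {g} := by
  ext x
  rw [mem_comap_iff, Subgroup.mem_centralizer_singleton_iff]
  constructor
  · rintro (h | h)
    · exact h
    · exact absurd (trace_zero_of_anticomm h2 g x h) ht
  · intro h
    exact Or.inl h

omit [Fintype F] in
lemma anticomm_mk (g : SL2F) (ht : g 0 0 + g 1 1 = 0) (p q r : F) (hdet : -p ^ 2 - q * r = 1)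
    (hE : 2 * g 0 0 * p + q * g 1 0 + g 0 1 * r = 0) : ∃ x : SL2F, x * g = -(g * x) := by
  let x : SL2F := ⟨!![p, q; r, -p], by rw [Matrix.det_fin_two_of]; linear_combination hdet⟩
  have x00 : x 0 0 = p := rfl
  have x01 : x 0 1 = q := rfl
  have x10 : x 1 0 = r := rfl
  have x11 : x 1 1 = -p := rfl
  refine ⟨x, ?_⟩
  obtain ⟨a00, a01, a10, a11⟩ := mul_entries x g
  obtain ⟨b00, b01, b10, b11⟩ := mul_entries g x
  apply ext_entries
  · rw [neg_entries, a00, b00, x00, x01, x10]; linear_combination hE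
  · rw [neg_entries, a01, b01, x00, x01, x11]; linear_combination q * ht
  · rw [neg_entries, a10, b10, x00, x10, x11]; linear_combination r * ht
  · rw [neg_entries, a11, b11, x01, x10, x11]; linear_combination hE - 2 * p * ht

lemma exists_sq_add_sq_eq_neg_one : ∃ P Q : F, P ^ 2 + Q ^ 2 = -1 := by
  have : CharP F (ringChar F) := ringChar.charP F
  have : NeZero (ringChar F) := ⟨CharP.char_ne_zero_of_finite F (ringChar F)⟩
  obtain ⟨a, b, hab⟩ := CharP.sq_add_sq F (ringChar F) (-1)
  exact ⟨a, b, by simpa using hab⟩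

lemma exists_anticomm (g : SL2F) (ht : g 0 0 + g 1 1 = 0) : ∃ x : SL2F, x * g = -(g * x) := by
  obtain ⟨P, Q, hPQ⟩ := exists_sq_add_sq_eq_neg_one (F := F)
  have hdg := det_eq g
  by_cases hc : g 1 0 = 0
  · by_cases hb : g 0 1 = 0
    · apply anticomm_mk g ht 0 1 (-1)
      · ring
      · rw [hc, hb]; ring
    · obtain ⟨r, hr⟩ : ∃ r : F, r * g 0 1 = -2 * g 0 0 * P + Q * (g 0 0 ^ 2 - 1) :=
        ⟨(-2 * g 0 0 * P + Q * (g 0 0 ^ 2 - 1)) / g 0 1, by field_simp⟩
      apply anticomm_mk g ht (P - Q * g 0 0) (-Q * g 0 1) r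
      · linear_combination Q * hr - hPQ
      · linear_combination hr + Q * hdg - Q * g 0 0 * ht
  · obtain ⟨q, hq⟩ : ∃ q : F, q * g 1 0 = -2 * g 0 0 * P + Q * (g 0 0 ^ 2 - 1) :=
      ⟨(-2 * g 0 0 * P + Q * (g 0 0 ^ 2 - 1)) / g 1 0, by field_simp⟩
    apply anticomm_mk g ht (P - Q * g 0 0) q (-Q * g 1 0)
    · linear_combination Q * hq - hPQ
    · linear_combination hq + Q * hdg - Q * g 0 0 * ht

lemma card_comap_trace_zero (h2 : (2 : F) ≠ 0) (g : SL2F) (ht : g 0 0 + g 1 1 = 0) :
    Nat.card ((Subgroup.centralizer {proj g}).comap proj) =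
      2 * Nat.card (Subgroup.centralizer {g}) := by
  obtain ⟨x₀, hx₀⟩ := exists_anticomm g ht
  set A : Set SL2F := (Subgroup.centralizer {g} : Set SL2F) with hA
  set B : Set SL2F := (fun x => x₀ * x) '' A with hB
  have hAB : (((Subgroup.centralizer {proj g}).comap proj : Subgroup SL2F) : Set SL2F) = A ∪ B := by
    ext x
    rw [SetLike.mem_coe, mem_comap_iff, Set.mem_union, hA, SetLike.mem_coe,
      Subgroup.mem_centralizer_singleton_iff, hB, Set.mem_image]
    constructor
    · rintro (h | h)
      · exact Or.inl h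
      · right
        refine ⟨x₀⁻¹ * x, ?_, by group⟩
        rw [SetLike.mem_coe, Subgroup.mem_centralizer_singleton_iff]
        have h3 : x₀⁻¹ * g = -(g * x₀⁻¹) := by
          have : g * x₀⁻¹ = -(x₀⁻¹ * g) := by
            calc g * x₀⁻¹ = x₀⁻¹ * (x₀ * g) * x₀⁻¹ := by group
              _ = -(x₀⁻¹ * g) := by rw [hx₀]; simp [mul_assoc]
          rw [this, neg_neg]
        calc x₀⁻¹ * x * g = x₀⁻¹ * (x * g) := by group
          _ = x₀⁻¹ * (-(g * x)) := by rw [h]
          _ = -(x₀⁻¹ * g) * x := by simp [mul_assoc]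
          _ = g * (x₀⁻¹ * x) := by rw [h3, neg_neg, mul_assoc]
    · rintro (h | ⟨y, hy, rfl⟩)
      · exact Or.inl h
      · right
        rw [SetLike.mem_coe, Subgroup.mem_centralizer_singleton_iff] at hy
        calc x₀ * y * g = x₀ * (y * g) := by group
          _ = x₀ * g * y := by rw [hy, mul_assoc]
          _ = -(g * (x₀ * y)) := by rw [hx₀, neg_mul, mul_assoc]
  have hdisj : Disjoint A B := by
    rw [Set.disjoint_left]
    rintro x hxA ⟨y, hy, rfl⟩
    rw [hA, SetLike.mem_coe, Subgroup.mem_centralizer_singleton_iff] at hxA hy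
    have h3 : x₀ * y * g = -(g * (x₀ * y)) := by
      calc x₀ * y * g = x₀ * (y * g) := by group
        _ = x₀ * g * y := by rw [hy, mul_assoc]
        _ = -(g * (x₀ * y)) := by rw [hx₀, neg_mul, mul_assoc]
    rw [hxA] at h3
    have h4 : (1 : SL2F) = -1 := by
      calc (1 : SL2F) = (g * (x₀ * y))⁻¹ * (g * (x₀ * y)) := by group
        _ = (g * (x₀ * y))⁻¹ * (-(g * (x₀ * y))) := by rw [← h3]
        _ = -1 := by rw [mul_neg, inv_mul_cancel]
    have h5 : ((1 : SL2F) 0 0 : F) = (-1 : SL2F) 0 0 := by rw [← h4]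
    rw [neg_entries] at h5
    have h6 : ((1 : SL2F) 0 0 : F) = 1 := by simp
    rw [h6] at h5
    apply h2
    linear_combination h5
  have hBcard : B.ncard = A.ncard := by
    rw [hB]
    exact Set.ncard_image_of_injective _ (mul_right_injective x₀)
  have e1 : Nat.card ((Subgroup.centralizer {proj g}).comap proj) =
      (((Subgroup.centralizer {proj g}).comap proj : Subgroup SL2F) : Set SL2F).ncard :=
    Nat.card_coe_set_eq _
  have e2 : Nat.card (Subgroup.centralizer {g}) = A.ncard := Nat.card_coe_set_eq _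
  rw [e1, e2, hAB, Set.ncard_union_eq hdisj (Set.toFinite _) (Set.toFinite _), hBcard]
  ring

lemma index_mul_card_comap (g : SL2F) :
    (Subgroup.centralizer {proj g}).index * Nat.card ((Subgroup.centralizer {proj g}).comap proj) =
      Fintype.card F * (Fintype.card F ^ 2 - 1) := by
  rw [← Subgroup.index_comap_of_surjective _ proj_surjective, Subgroup.index_mul_card]
  exact Cfsg.Agent.Lib.Helper38.SLCard.card_SL2

end psl

section index
variable {F : Type*} [Field F] [Fintype F]

local notation "SL2F" => Matrix.SpecialLinearGroup (Fin 2) F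
local notation "PSL2F" => Matrix.ProjectiveSpecialLinearGroup (Fin 2) F

lemma two_ne_zero_of_odd (hodd : ¬ 2 ∣ Fintype.card F) : (2 : F) ≠ 0 := by
  intro h
  apply hodd
  have h1 : ringChar F = 2 := CharP.ringChar_of_prime_eq_zero Nat.prime_two (by exact_mod_cast h)
  exact Nat.dvd_of_mod_eq_zero (FiniteField.even_card_of_char_two h1)

lemma sq_sub_one (n : ℕ) (hn : 1 ≤ n) : n ^ 2 - 1 = (n - 1) * (n + 1) := by
  obtain ⟨m, rfl⟩ : ∃ m, n = m + 1 := ⟨n - 1, by omega⟩
  rw [Nat.add_sub_cancel]
  have : (m + 1) ^ 2 = m * (m + 1 + 1) + 1 := by ring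
  rw [this, Nat.add_sub_cancel]

omit [Fintype F] in
lemma index_scalar (g : SL2F) (hs : g 0 1 = 0 ∧ g 1 0 = 0 ∧ g 0 0 = g 1 1) :
    (Subgroup.centralizer {proj g}).index = 1 := by
  have hc : g ∈ Subgroup.center SL2F := by
    rw [Subgroup.mem_center_iff]
    intro x
    obtain ⟨a00, a01, a10, a11⟩ := mul_entries x g
    obtain ⟨b00, b01, b10, b11⟩ := mul_entries g x
    obtain ⟨h01, h10, h00⟩ := hs
    apply ext_entries
    · rw [a00, b00, h01, h10]; ring
    · rw [a01, b01, h01, h00]; ring
    · rw [a10, b10, h10, h00]; ring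
    · rw [a11, b11, h01, h10]; ring
  have h1 : proj g = 1 := (QuotientGroup.eq_one_iff g).mpr hc
  rw [h1]
  have : Subgroup.centralizer ({1} : Set PSL2F) = ⊤ := by
    ext x
    simp [Subgroup.mem_centralizer_singleton_iff]
  rw [this, Subgroup.index_top]

omit [Fintype F] in
lemma not_scalar_of_trace (g : SL2F) (ht : (g 0 0 + g 1 1) ^ 2 ≠ 4) :
    ¬ (g 0 1 = 0 ∧ g 1 0 = 0 ∧ g 0 0 = g 1 1) := by
  rintro ⟨h01, h10, h00⟩
  apply ht
  have hd := det_eq g
  rw [h01, h00] at hd
  rw [h00]
  linear_combination 4 * hd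

lemma index_parabolic (h2 : (2 : F) ≠ 0) (g : SL2F)
    (hns : ¬ (g 0 1 = 0 ∧ g 1 0 = 0 ∧ g 0 0 = g 1 1)) (ht : (g 0 0 + g 1 1) ^ 2 = 4) :
    (Subgroup.centralizer {proj g}).index = (Fintype.card F ^ 2 - 1) / 2 := by
  have ht0 : g 0 0 + g 1 1 ≠ 0 := by
    intro h
    rw [h] at ht
    have : (2 : F) * 2 = 0 := by linear_combination -ht
    exact h2 (mul_self_eq_zero.mp this)
  have h1 := index_mul_card_comap g
  rw [comap_eq_centralizer h2 g ht0, card_centralizer g hns, card_sol_parabolic h2 _ ht] at h1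
  have hq : 0 < Fintype.card F := Fintype.card_pos
  have h3 : (Subgroup.centralizer {proj g}).index * 2 = Fintype.card F ^ 2 - 1 := by
    apply Nat.eq_of_mul_eq_mul_right hq
    rw [← mul_comm (Fintype.card F) (Fintype.card F ^ 2 - 1), ← h1]
    ring
  omega

lemma index_split (h2 : (2 : F) ≠ 0) (g : SL2F) (ht0 : g 0 0 + g 1 1 ≠ 0)
    (ht : (g 0 0 + g 1 1) ^ 2 ≠ 4) (r : F) (hr : r ^ 2 - (g 0 0 + g 1 1) * r + 1 = 0) :
    (Subgroup.centralizer {proj g}).index = Fintype.card F * (Fintype.card F + 1) := by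
  have h1 := index_mul_card_comap g
  rw [comap_eq_centralizer h2 g ht0, card_centralizer g (not_scalar_of_trace g ht),
    card_sol_split _ ht r hr] at h1
  have hq : 2 ≤ Fintype.card F := Fintype.one_lt_card
  rw [sq_sub_one _ (by omega)] at h1
  apply Nat.eq_of_mul_eq_mul_right (show 0 < Fintype.card F - 1 by omega)
  rw [h1]
  ring

lemma index_nonsplit (h2 : (2 : F) ≠ 0) (g : SL2F) (ht0 : g 0 0 + g 1 1 ≠ 0)
    (hr : ∀ r : F, r ^ 2 - (g 0 0 + g 1 1) * r + 1 ≠ 0) :
    (Subgroup.centralizer {proj g}).index = Fintype.card F * (Fintype.card F - 1) := by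
  have ht : (g 0 0 + g 1 1) ^ 2 ≠ 4 := by
    intro h
    apply hr ((g 0 0 + g 1 1) / 2)
    field_simp
    linear_combination -h
  have h1 := index_mul_card_comap g
  rw [comap_eq_centralizer h2 g ht0, card_centralizer g (not_scalar_of_trace g ht),
    card_sol_nonsplit h2 _ hr] at h1
  have hq : 2 ≤ Fintype.card F := Fintype.one_lt_card
  rw [sq_sub_one _ (by omega)] at h1
  apply Nat.eq_of_mul_eq_mul_right (show 0 < Fintype.card F + 1 by omega)
  rw [h1]
  ring

lemma index_trace_zero (h2 : (2 : F) ≠ 0) (g : SL2F) (ht : g 0 0 + g 1 1 = 0) :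
    (Fintype.card F % 4 = 1 →
      (Subgroup.centralizer {proj g}).index = Fintype.card F * (Fintype.card F + 1) / 2) ∧
    (Fintype.card F % 4 = 3 →
      (Subgroup.centralizer {proj g}).index = Fintype.card F * (Fintype.card F - 1) / 2) := by
  have ht4 : (g 0 0 + g 1 1) ^ 2 ≠ 4 := by
    rw [ht]
    intro h
    have : (2 : F) * 2 = 0 := by linear_combination -h
    exact h2 (mul_self_eq_zero.mp this)
  have h1 := index_mul_card_comap g
  rw [card_comap_trace_zero h2 g ht, card_centralizer g (not_scalar_of_trace g ht4)] at h1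
  have hq : 2 ≤ Fintype.card F := Fintype.one_lt_card
  rw [sq_sub_one _ (by omega)] at h1
  constructor
  · intro hq4
    have hsq : IsSquare (-1 : F) := FiniteField.isSquare_neg_one_iff.mpr (by omega)
    obtain ⟨r, hr⟩ := hsq
    have hr' : r ^ 2 - (g 0 0 + g 1 1) * r + 1 = 0 := by
      linear_combination (-1 : F) * hr - r * ht
    rw [card_sol_split _ ht4 r hr'] at h1
    have h3 : (Subgroup.centralizer {proj g}).index * 2 =
        Fintype.card F * (Fintype.card F + 1) := by
      apply Nat.eq_of_mul_eq_mul_right (show 0 < Fintype.card F - 1 by omega)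
      rw [mul_assoc, h1]
      ring
    omega
  · intro hq4
    have hsq : ¬ IsSquare (-1 : F) := by
      rw [FiniteField.isSquare_neg_one_iff]
      omega
    have hr' : ∀ r : F, r ^ 2 - (g 0 0 + g 1 1) * r + 1 ≠ 0 := by
      intro r hr
      apply hsq
      exact ⟨r, by linear_combination (-1 : F) * hr - r * ht⟩
    rw [card_sol_nonsplit h2 _ hr'] at h1
    have h3 : (Subgroup.centralizer {proj g}).index * 2 =
        Fintype.card F * (Fintype.card F - 1) := by
      apply Nat.eq_of_mul_eq_mul_right (show 0 < Fintype.card F + 1 by omega)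
      rw [mul_assoc, h1]
      ring
    omega

/-- every class size of `PSL₂(q)`, `q` odd, is one of the listed values -/
theorem index_classification (h2 : (2 : F) ≠ 0) (g' : PSL2F) :
    (Subgroup.centralizer {g'}).index = 1 ∨
    (Subgroup.centralizer {g'}).index = (Fintype.card F ^ 2 - 1) / 2 ∨
    (Subgroup.centralizer {g'}).index = Fintype.card F * (Fintype.card F + 1) ∨
    (Subgroup.centralizer {g'}).index = Fintype.card F * (Fintype.card F - 1) ∨
    ((Fintype.card F % 4 = 1 →
      (Subgroup.centralizer {g'}).index = Fintype.card F * (Fintype.card F + 1) / 2) ∧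
    (Fintype.card F % 4 = 3 →
      (Subgroup.centralizer {g'}).index = Fintype.card F * (Fintype.card F - 1) / 2)) := by
  obtain ⟨g, rfl⟩ := proj_surjective g'
  by_cases hs : g 0 1 = 0 ∧ g 1 0 = 0 ∧ g 0 0 = g 1 1
  · exact Or.inl (index_scalar g hs)
  · by_cases ht0 : g 0 0 + g 1 1 = 0
    · exact Or.inr (Or.inr (Or.inr (Or.inr (index_trace_zero h2 g ht0))))
    · by_cases ht4 : (g 0 0 + g 1 1) ^ 2 = 4
      · exact Or.inr (Or.inl (index_parabolic h2 g hs ht4))
      · by_cases hr : ∃ r : F, r ^ 2 - (g 0 0 + g 1 1) * r + 1 = 0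
        · obtain ⟨r, hr⟩ := hr
          exact Or.inr (Or.inr (Or.inl (index_split h2 g ht0 ht4 r hr)))
        · push Not at hr
          exact Or.inr (Or.inr (Or.inr (Or.inl (index_nonsplit h2 g ht0 hr))))

omit [Fintype F] in
lemma exists_index_one : ∃ g' : PSL2F, (Subgroup.centralizer {g'}).index = 1 := by
  refine ⟨1, ?_⟩
  have : Subgroup.centralizer ({1} : Set PSL2F) = ⊤ := by
    ext x
    simp [Subgroup.mem_centralizer_singleton_iff]
  rw [this, Subgroup.index_top]

lemma exists_index_parabolic (h2 : (2 : F) ≠ 0) :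
    ∃ g' : PSL2F, (Subgroup.centralizer {g'}).index = (Fintype.card F ^ 2 - 1) / 2 := by
  let g : SL2F := ⟨!![1, 1; 0, 1], by simp [Matrix.det_fin_two_of]⟩
  have hg00 : g 0 0 = 1 := rfl
  have hg01 : g 0 1 = 1 := rfl
  have hg11 : g 1 1 = 1 := rfl
  refine ⟨proj g, index_parabolic h2 g ?_ ?_⟩
  · rintro ⟨h, -, -⟩
    rw [hg01] at h
    exact one_ne_zero h
  · rw [hg00, hg11]
    norm_num

lemma exists_index_trace_zero (h2 : (2 : F) ≠ 0) :
    ∃ g' : PSL2F, (Fintype.card F % 4 = 1 →
      (Subgroup.centralizer {g'}).index = Fintype.card F * (Fintype.card F + 1) / 2) ∧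
    (Fintype.card F % 4 = 3 →
      (Subgroup.centralizer {g'}).index = Fintype.card F * (Fintype.card F - 1) / 2) := by
  let g : SL2F := ⟨!![0, -1; 1, 0], by simp [Matrix.det_fin_two_of]⟩
  have hg00 : g 0 0 = 0 := rfl
  have hg11 : g 1 1 = 0 := rfl
  exact ⟨proj g, index_trace_zero h2 g (by rw [hg00, hg11, add_zero])⟩

lemma exists_index_split (h2 : (2 : F) ≠ 0) (h6 : 6 ≤ Fintype.card F) :
    ∃ g' : PSL2F, (Subgroup.centralizer {g'}).index = Fintype.card F * (Fintype.card F + 1) := by
  classical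
  obtain ⟨u, hu⟩ := IsCyclic.exists_generator (α := Fˣ)
  have hord : orderOf u = Nat.card Fˣ := orderOf_eq_card_of_forall_mem_zpowers hu
  rw [Nat.card_eq_fintype_card, Fintype.card_units] at hord
  set a : F := (u : F) with ha
  set b : F := ((u⁻¹ : Fˣ) : F) with hb
  have hab : a * b = 1 := by
    rw [ha, hb, ← Units.val_mul, mul_inv_cancel, Units.val_one]
  have ha4 : a ^ 4 ≠ 1 := by
    intro h
    have h1 : u ^ 4 = 1 := by
      apply Units.ext
      rw [Units.val_pow_eq_pow_val, Units.val_one]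
      exact h
    have h3 := orderOf_dvd_of_pow_eq_one h1
    have h4 := Nat.le_of_dvd (by norm_num) h3
    omega
  let g : SL2F := ⟨!![a, 0; 0, b], by
    rw [Matrix.det_fin_two_of]
    linear_combination hab⟩
  have hg00 : g 0 0 = a := rfl
  have hg11 : g 1 1 = b := rfl
  refine ⟨proj g, index_split h2 g ?_ ?_ a ?_⟩
  · rw [hg00, hg11]
    intro h
    apply ha4
    linear_combination (a ^ 2 - 1) * a * h - (a ^ 2 - 1) * hab
  · rw [hg00, hg11]
    intro h
    apply ha4
    have h1 : (a - b) ^ 2 = 0 := by linear_combination h - 4 * hab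
    have h3 : a - b = 0 := by simpa using h1
    linear_combination (a ^ 2 + 1) * a * h3 + (a ^ 2 + 1) * hab
  · rw [hg00, hg11]
    linear_combination (-1 : F) * hab

lemma exists_index_nonsplit (h2 : (2 : F) ≠ 0) (h4 : 4 ≤ Fintype.card F) :
    ∃ g' : PSL2F, (Subgroup.centralizer {g'}).index = Fintype.card F * (Fintype.card F - 1) := by
  classical
  have hchar : ringChar F ≠ 2 := by
    intro h
    apply h2
    have := ringChar.Nat.cast_ringChar (R := F)
    rw [h] at this
    exact_mod_cast this
  obtain ⟨d, hd⟩ := FiniteField.exists_nonsquare hchar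
  obtain ⟨m, hm0, hmd⟩ : ∃ m : F, m ≠ 0 ∧ m ^ 2 + d ≠ 0 := by
    by_cases hd1 : 1 + d = 0
    · obtain ⟨m, hm⟩ : ∃ m : F, m ∉ ({0, 1, -1} : Finset F) := by
        by_contra hcon
        push Not at hcon
        have hsub : (Finset.univ : Finset F) ⊆ {0, 1, -1} := fun a _ => hcon a
        have h1 := Finset.card_le_card hsub
        have h3 : ({0, 1, -1} : Finset F).card ≤ 3 := Finset.card_le_three
        rw [Finset.card_univ] at h1
        omega
      simp only [Finset.mem_insert, Finset.mem_singleton, not_or] at hm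
      obtain ⟨hm0, hm1, hm2⟩ := hm
      refine ⟨m, hm0, ?_⟩
      intro h
      have h5 : (m - 1) * (m + 1) = 0 := by linear_combination h - hd1
      rcases mul_eq_zero.mp h5 with h5 | h5
      · exact hm1 (by linear_combination h5)
      · exact hm2 (by linear_combination h5)
    · refine ⟨1, one_ne_zero, ?_⟩
      rw [one_pow]
      exact hd1
  have hden : m ^ 2 - d ≠ 0 := by
    intro h
    apply hd
    exact ⟨m, by linear_combination -h⟩
  obtain ⟨x, hx⟩ : ∃ x : F, x * (m ^ 2 - d) = m ^ 2 + d := ⟨(m ^ 2 + d) / (m ^ 2 - d), by field_simp⟩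
  obtain ⟨y, hy⟩ : ∃ y : F, y * (m ^ 2 - d) = 2 * m := ⟨2 * m / (m ^ 2 - d), by field_simp⟩
  have hx0 : x ≠ 0 := by
    rintro rfl
    rw [zero_mul] at hx
    exact hmd hx.symm
  have hy0 : y ≠ 0 := by
    rintro rfl
    rw [zero_mul] at hy
    exact (mul_ne_zero h2 hm0) hy.symm
  have hxy : x ^ 2 - d * y ^ 2 = 1 := by
    have h5 : (m ^ 2 - d) ^ 2 * (x ^ 2 - d * y ^ 2) = (m ^ 2 - d) ^ 2 * 1 := by
      linear_combination (x * (m ^ 2 - d) + m ^ 2 + d) * hx
        - d * (y * (m ^ 2 - d) + 2 * m) * hy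
    exact mul_left_cancel₀ (pow_ne_zero 2 hden) h5
  let g : SL2F := ⟨!![x, d * y; y, x], by
    rw [Matrix.det_fin_two_of]
    linear_combination hxy⟩
  have hg00 : g 0 0 = x := rfl
  have hg11 : g 1 1 = x := rfl
  refine ⟨proj g, index_nonsplit h2 g ?_ ?_⟩
  · rw [hg00, hg11]
    intro h
    have : 2 * x = 0 := by linear_combination h
    exact hx0 ((mul_eq_zero.mp this).resolve_left h2)
  · rw [hg00, hg11]
    intro r hr
    apply hd
    refine ⟨(r - x) / y, ?_⟩
    field_simp
    linear_combination (-1 : F) * hr - hxy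

end index

end Cfsg.Agent.Lib.Helper42.SL2Odd
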