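import Mathlib

/-!
# The spectrum of the small Ree groups by counting: statement file (S1159)

`q = 3^(2m+1)`, `r = 3^(m+1)`.  `Raw` = the local facts in the exact shape of the frozen
statements (over an ambient group `Γ` with subgroups `R`, `D`, `Up`); `Ax` = the same facts
in a clean form for the group `G = ↥R`.  Every piece is a `Prop` below; `spec_of_pieces`
assembles them.
-/

set_option autoImplicit false

namespace Cfsg.Agent.Lib.Helper42.ReeSpStmt

universe u v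

/-- `q = 3^(2m+1)` -/
abbrev qq (m : ℕ) : ℕ := 3 ^ (2 * m + 1)

/-- `r = 3^(m+1)`, so `r² = 3q` -/
abbrev rr (m : ℕ) : ℕ := 3 ^ (m + 1)

/-- the clean axioms: `U` a TI Sylow 3-subgroup, `H` the cyclic torus of order `q - 1`,
`A` a cyclic subgroup of order `(q+1)/4`, `K` the field with `q` elements. -/
structure Ax (G : Type u) [Group G] (U H A : Subgroup G) (K : Type v) [Field K] [Fintype K]
    (m : ℕ) : Prop where
  hm : 1 ≤ m
  cardK : Fintype.card K = qq m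
  card : Nat.card G = qq m ^ 3 * (qq m - 1) * (qq m ^ 3 + 1)
  cardU : Nat.card U = qq m ^ 3
  ti : ∀ g : G, (∃ u ∈ U, u ≠ 1 ∧ g * u * g⁻¹ ∈ U) → ∀ u ∈ U, g * u * g⁻¹ ∈ U
  notNormal : ¬ U.Normal
  exp9 : ∀ u ∈ U, u ^ 9 = 1
  ex9 : ∃ u ∈ U, orderOf u = 9
  cycH : IsCyclic H
  cardH : Nat.card H = qq m - 1
  normH : ∀ h ∈ H, ∀ u ∈ U, h * u * h⁻¹ ∈ U
  fpf : ∀ h ∈ H, h ≠ 1 → Odd (orderOf h) → ∀ u ∈ U, u * h = h * u → u = 1
  centH : ∀ x ∈ H, x ≠ 1 → Odd (orderOf x) → ∀ g : G, g * x = x * g → g ∈ H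
  invo : ∀ s : G, orderOf s = 2 →
    Nonempty (↥(Subgroup.centralizer ({s} : Set G)) ≃*
      Multiplicative (ZMod 2) × Matrix.ProjectiveSpecialLinearGroup (Fin 2) K)
  invConj : ∀ s s' : G, orderOf s = 2 → orderOf s' = 2 → ∃ x : G, x * s * x⁻¹ = s'
  cycA : IsCyclic A
  cardA : Nat.card A = (qq m + 1) / 4
  centA : ∀ x ∈ A, x ≠ 1 →
    Subgroup.centralizer ({x} : Set G) = Subgroup.centralizer (A : Set G)
  cardCA : Nat.card ↥(Subgroup.centralizer (A : Set G)) = qq m + 1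
  commCA : ∀ x ∈ Subgroup.centralizer (A : Set G), ∀ y ∈ Subgroup.centralizer (A : Set G),
    x * y = y * x
  no4 : ∀ x ∈ Subgroup.centralizer (A : Set G), orderOf x ≠ 4
  cycSyl : ∀ (p : ℕ) [Fact p.Prime], 3 < p → ∀ P : Sylow p G, IsCyclic ↥(P : Subgroup G)
  rep : ∃ ρ : G →* GL (Fin 7) K, Function.Injective ρ

/-! ## conclusions of the pieces -/

/-- the Sylow 3-normalizer is `U H`, of order `q³(q-1)`; 3-elements are conjugate into `U` -/
def SylNC (G : Type u) [Group G] (U H : Subgroup G) (m : ℕ) : Prop :=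
  Nat.card ↥(Subgroup.normalizer (U : Set G)) = qq m ^ 3 * (qq m - 1) ∧
  (∀ g ∈ Subgroup.normalizer (U : Set G), ∃ u ∈ U, ∃ h ∈ H, g = u * h) ∧
  (∀ g : G, (∃ k : ℕ, g ^ 3 ^ k = 1) → ∃ x : G, x * g * x⁻¹ ∈ U)

/-- 3-singular elements have order 3, 6 or 9 -/
def ThreeC (G : Type u) [Group G] : Prop :=
  ∀ g : G, 3 ∣ orderOf g → orderOf g = 3 ∨ orderOf g = 6 ∨ orderOf g = 9

/-- orders of the elements of even order -/
def EvenC (G : Type u) [Group G] (m : ℕ) : Prop :=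
  ∀ g : G, 2 ∣ orderOf g →
    orderOf g ∣ 6 ∨ orderOf g ∣ qq m - 1 ∨ orderOf g ∣ (qq m + 1) / 2

/-- an element whose order has an odd prime divisor dividing `q - 1` is conjugate into `H` -/
def OddHC (G : Type u) [Group G] (H : Subgroup G) (m : ℕ) : Prop :=
  ∀ (g : G) (p : ℕ), p.Prime → p ≠ 2 → p ∣ orderOf g → p ∣ qq m - 1 →
    ∃ x : G, x * g * x⁻¹ ∈ H

/-- an element whose order has an odd prime divisor dividing `q + 1` is conjugate into `C(A)` -/
def OddAC (G : Type u) [Group G] (A : Subgroup G) (m : ℕ) : Prop :=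
  ∀ (g : G) (p : ℕ), p.Prime → p ≠ 2 → p ∣ orderOf g → p ∣ qq m + 1 →
    ∃ x : G, x * g * x⁻¹ ∈ Subgroup.centralizer (A : Set G)

/-- elements of orders 6, 9, `q - 1`, `(q+1)/2` exist -/
def ExistC (G : Type u) [Group G] (m : ℕ) : Prop :=
  (∃ g : G, orderOf g = 6) ∧ (∃ g : G, orderOf g = 9) ∧ (∃ g : G, orderOf g = qq m - 1) ∧
    (∃ g : G, orderOf g = (qq m + 1) / 2)

/-- the elements of the third kind: nonidentity, of order prime to `q(q²-1)` -/
def P3 (G : Type u) [Group G] (m : ℕ) (g : G) : Prop :=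
  g ≠ 1 ∧ Nat.Coprime (orderOf g) (qq m * (qq m ^ 2 - 1))

/-- representation piece 1: centralizers of elements of prime order `p ∣ q²-q+1` are abelian -/
def RC1C (G : Type u) [Group G] (m : ℕ) : Prop :=
  ∀ (x : G) (p : ℕ), p.Prime → p ≠ 3 → orderOf x = p → p ∣ qq m ^ 2 - qq m + 1 →
    ∀ a b : G, a * x = x * a → b * x = x * b → a * b = b * a

/-- representation piece 2: `|N(⟨x⟩) : C(x)|` divides 6 for such `x` -/
def RC2C (G : Type u) [Group G] (m : ℕ) : Prop :=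
  ∀ (x : G) (p : ℕ), p.Prime → p ≠ 3 → orderOf x = p → p ∣ qq m ^ 2 - qq m + 1 →
    Nat.card ↥(Subgroup.normalizer (Subgroup.zpowers x : Set G)) ∣
      6 * Nat.card ↥(Subgroup.centralizer ({x} : Set G))

/-- the centralizers of the elements of the third kind -/
def HallC (G : Type u) [Group G] (m : ℕ) : Prop :=
  ∀ g : G, P3 G m g →
    (∀ a ∈ Subgroup.centralizer ({g} : Set G), ∀ b ∈ Subgroup.centralizer ({g} : Set G),
      a * b = b * a) ∧
    IsCyclic ↥(Subgroup.centralizer ({g} : Set G)) ∧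
    Nat.card ↥(Subgroup.centralizer ({g} : Set G)) ∣ qq m ^ 2 - qq m + 1 ∧
    (∀ y ∈ Subgroup.centralizer ({g} : Set G), y ≠ 1 →
      Subgroup.centralizer ({y} : Set G) = Subgroup.centralizer ({g} : Set G)) ∧
    Nat.card ↥(Subgroup.normalizer (Subgroup.centralizer ({g} : Set G) : Set G)) ∣
      6 * Nat.card ↥(Subgroup.centralizer ({g} : Set G))

/-- nonidentity elements of odd order conjugate into `H` -/
def T1 (G : Type u) [Group G] (H : Subgroup G) (g : G) : Prop :=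
  g ≠ 1 ∧ Odd (orderOf g) ∧ ∃ x : G, x * g * x⁻¹ ∈ H

/-- nonidentity elements of odd order conjugate into `C(A)` -/
def T2 (G : Type u) [Group G] (A : Subgroup G) (g : G) : Prop :=
  g ≠ 1 ∧ Odd (orderOf g) ∧ ∃ x : G, x * g * x⁻¹ ∈ Subgroup.centralizer (A : Set G)

/-- `|N(H)| = 2(q-1)` -/
def NHC (G : Type u) [Group G] (H : Subgroup G) (m : ℕ) : Prop :=
  Nat.card ↥(Subgroup.normalizer (H : Set G)) = 2 * (qq m - 1)

/-- `|N(A)| = 6(q+1)` -/
def NAC (G : Type u) [Group G] (A : Subgroup G) (m : ℕ) : Prop :=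
  Nat.card ↥(Subgroup.normalizer (A : Set G)) = 6 * (qq m + 1)

/-- number of nonidentity 3-elements -/
def C3C (G : Type u) [Group G] (m : ℕ) : Prop :=
  Nat.card {g : G // g ≠ 1 ∧ g ^ 9 = 1} = (qq m ^ 3 + 1) * (qq m ^ 3 - 1)

/-- number of involutions -/
def C2C (G : Type u) [Group G] (m : ℕ) : Prop :=
  Nat.card {g : G // orderOf g = 2} = qq m ^ 2 * (qq m ^ 2 - qq m + 1)

/-- number of elements of order 6 -/
def C6C (G : Type u) [Group G] (m : ℕ) : Prop :=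
  Nat.card {g : G // orderOf g = 6} = (qq m ^ 3 + 1) * qq m ^ 2 * (qq m - 1)

/-- number of elements of the first kind -/
def CT1C (G : Type u) [Group G] (H : Subgroup G) (m : ℕ) : Prop :=
  4 * Nat.card {g : G // T1 G H g} = (qq m - 3) * qq m ^ 3 * (qq m ^ 3 + 1)

/-- number of elements of the second kind -/
def CT2C (G : Type u) [Group G] (A : Subgroup G) (m : ℕ) : Prop :=
  24 * Nat.card {g : G // T2 G A g} =
    (qq m - 3) * qq m ^ 3 * (qq m - 1) * (qq m ^ 2 - qq m + 1)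

/-- number of elements of even order -/
def CEC (G : Type u) [Group G] (H A : Subgroup G) : Prop :=
  Nat.card {g : G // 2 ∣ orderOf g} =
    Nat.card {g : G // orderOf g = 2} + Nat.card {g : G // orderOf g = 6} +
      Nat.card {g : G // T1 G H g} + 3 * Nat.card {g : G // T2 G A g}

/-- the partition of the group -/
def CPC (G : Type u) [Group G] (H A : Subgroup G) (m : ℕ) : Prop :=
  Nat.card G = 1 + Nat.card {g : G // g ≠ 1 ∧ g ^ 9 = 1} + Nat.card {g : G // 2 ∣ orderOf g} +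
    Nat.card {g : G // T1 G H g} + Nat.card {g : G // T2 G A g} +
    Nat.card {g : G // P3 G m g}

/-- the number of elements of the third kind -/
def CountC (G : Type u) [Group G] (m : ℕ) : Prop :=
  3 * Nat.card {g : G // P3 G m g} = qq m ^ 4 * (qq m ^ 2 - 1) * (qq m - 2)

/-- orbit decomposition of the elements of the third kind -/
def OrbC (G : Type u) [Group G] (m : ℕ) : Prop :=
  ∃ (k : ℕ) (c n : Fin k → ℕ) (C : Fin k → Subgroup G),
    (∀ i, IsCyclic ↥(C i)) ∧ (∀ i, Nat.card ↥(C i) = c i) ∧ (∀ i, 1 < c i) ∧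
    (∀ i, n i ∣ 6) ∧ (∀ i, n i * c i ∣ Nat.card G) ∧
    ∏ i, c i = qq m ^ 2 - qq m + 1 ∧
    ∑ i, (c i - 1) * (Nat.card G / (n i * c i)) = Nat.card {g : G // P3 G m g} ∧
    ∀ g : G, P3 G m g → ∃ (i : Fin k) (x : G), x * g * x⁻¹ ∈ C i

/-- the two cyclic Hall subgroups of orders `q ± r + 1` -/
def FinC (G : Type u) [Group G] (m : ℕ) : Prop :=
  ∃ C₁ C₂ : Subgroup G, IsCyclic ↥C₁ ∧ IsCyclic ↥C₂ ∧ Nat.card ↥C₁ = qq m + rr m + 1 ∧
    Nat.card ↥C₂ = qq m - rr m + 1 ∧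
    ∀ g : G, P3 G m g → ∃ x : G, x * g * x⁻¹ ∈ C₁ ∨ x * g * x⁻¹ ∈ C₂

/-- the spectrum -/
def Spec (G : Type u) [Group G] (m : ℕ) : Prop :=
  ∀ d : ℕ, (∃ g : G, orderOf g = d) ↔
    (d ∣ 6 ∨ d ∣ 9 ∨ d ∣ qq m - 1 ∨ d ∣ (qq m + 1) / 2 ∨ d ∣ qq m - rr m + 1 ∨
      d ∣ qq m + rr m + 1)

/-! ## the abstract pieces (each `∀ G U H A K m, Ax G U H A K m → …`) -/

/-- TISYL: TI Sylow subgroups: their number is `≡ 1` modulo their order -/
def TISyl : Prop :=
  ∀ (G : Type u) [Group G] [Finite G] (p : ℕ) [Fact p.Prime] (P : Sylow p G),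
    (∀ g : G, (∃ x ∈ (P : Subgroup G), x ≠ 1 ∧ g * x * g⁻¹ ∈ (P : Subgroup G)) →
      ∀ x ∈ (P : Subgroup G), g * x * g⁻¹ ∈ (P : Subgroup G)) →
    Nat.card (Sylow p G) % Nat.card ↥(P : Subgroup G) = 1 % Nat.card ↥(P : Subgroup G)

/-- SYL -/
def Syl : Prop :=
  ∀ (G : Type u) [Group G] [Finite G] (U H A : Subgroup G) (K : Type v) [Field K] [Fintype K]
    (m : ℕ), Ax G U H A K m → TISyl.{u} → SylNC G U H m

/-- THREE -/
def Three : Prop :=
  ∀ (G : Type u) [Group G] [Finite G] (U H A : Subgroup G) (K : Type v) [Field K] [Fintype K]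
    (m : ℕ), Ax G U H A K m → SylNC G U H m → ThreeC G

/-- EVEN -/
def EvenP : Prop :=
  ∀ (G : Type u) [Group G] [Finite G] (U H A : Subgroup G) (K : Type v) [Field K] [Fintype K]
    (m : ℕ), Ax G U H A K m → EvenC G m

/-- ODDH -/
def OddH : Prop :=
  ∀ (G : Type u) [Group G] [Finite G] (U H A : Subgroup G) (K : Type v) [Field K] [Fintype K]
    (m : ℕ), Ax G U H A K m → OddHC G H m

/-- ODDA -/
def OddA : Prop :=
  ∀ (G : Type u) [Group G] [Finite G] (U H A : Subgroup G) (K : Type v) [Field K] [Fintype K]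
    (m : ℕ), Ax G U H A K m → OddAC G A m

/-- EXIST -/
def Exist : Prop :=
  ∀ (G : Type u) [Group G] [Finite G] (U H A : Subgroup G) (K : Type v) [Field K] [Fintype K]
    (m : ℕ), Ax G U H A K m → ExistC G m

/-- RC1 (linear algebra, no `Ax`) -/
def RC1 : Prop :=
  ∀ (G : Type u) [Group G] [Finite G] (K : Type v) [Field K] [Fintype K] (m : ℕ),
    Fintype.card K = qq m → (∃ ρ : G →* GL (Fin 7) K, Function.Injective ρ) → RC1C G m

/-- RC2 (linear algebra, no `Ax`) -/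
def RC2 : Prop :=
  ∀ (G : Type u) [Group G] [Finite G] (K : Type v) [Field K] [Fintype K] (m : ℕ),
    Fintype.card K = qq m → (∃ ρ : G →* GL (Fin 7) K, Function.Injective ρ) → RC2C G m

/-- HALL -/
def Hall : Prop :=
  ∀ (G : Type u) [Group G] [Finite G] (U H A : Subgroup G) (K : Type v) [Field K] [Fintype K]
    (m : ℕ), Ax G U H A K m → ThreeC G → EvenC G m → OddHC G H m → OddAC G A m →
      RC1C G m → RC2C G m → HallC G m

/-- NH -/
def NH : Prop :=
  ∀ (G : Type u) [Group G] [Finite G] (U H A : Subgroup G) (K : Type v) [Field K] [Fintype K]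
    (m : ℕ), Ax G U H A K m → TISyl.{u} → NHC G H m

/-- NA -/
def NA : Prop :=
  ∀ (G : Type u) [Group G] [Finite G] (U H A : Subgroup G) (K : Type v) [Field K] [Fintype K]
    (m : ℕ), Ax G U H A K m → TISyl.{u} → NAC G A m

/-- C3 -/
def C3 : Prop :=
  ∀ (G : Type u) [Group G] [Finite G] (U H A : Subgroup G) (K : Type v) [Field K] [Fintype K]
    (m : ℕ), Ax G U H A K m → SylNC G U H m → C3C G m

/-- C2 -/
def C2 : Prop :=
  ∀ (G : Type u) [Group G] [Finite G] (U H A : Subgroup G) (K : Type v) [Field K] [Fintype K]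
    (m : ℕ), Ax G U H A K m → C2C G m

/-- C6 -/
def C6 : Prop :=
  ∀ (G : Type u) [Group G] [Finite G] (U H A : Subgroup G) (K : Type v) [Field K] [Fintype K]
    (m : ℕ), Ax G U H A K m → SylNC G U H m → ThreeC G → C2C G m → C6C G m

/-- CT1 -/
def CT1 : Prop :=
  ∀ (G : Type u) [Group G] [Finite G] (U H A : Subgroup G) (K : Type v) [Field K] [Fintype K]
    (m : ℕ), Ax G U H A K m → NHC G H m → CT1C G H m

/-- CT2 -/
def CT2 : Prop :=
  ∀ (G : Type u) [Group G] [Finite G] (U H A : Subgroup G) (K : Type v) [Field K] [Fintype K]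
    (m : ℕ), Ax G U H A K m → NAC G A m → CT2C G A m

/-- CE -/
def CE : Prop :=
  ∀ (G : Type u) [Group G] [Finite G] (U H A : Subgroup G) (K : Type v) [Field K] [Fintype K]
    (m : ℕ), Ax G U H A K m → ThreeC G → EvenC G m → OddHC G H m → OddAC G A m → CEC G H A

/-- CP -/
def CP : Prop :=
  ∀ (G : Type u) [Group G] [Finite G] (U H A : Subgroup G) (K : Type v) [Field K] [Fintype K]
    (m : ℕ), Ax G U H A K m → SylNC G U H m → ThreeC G → OddHC G H m → OddAC G A m →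
      CPC G H A m

/-- ORB -/
def Orb : Prop :=
  ∀ (G : Type u) [Group G] [Finite G] (U H A : Subgroup G) (K : Type v) [Field K] [Fintype K]
    (m : ℕ), Ax G U H A K m → HallC G m → OrbC G m

/-- DIO (pure arithmetic) -/
def Dio : Prop :=
  ∀ (m : ℕ), 1 ≤ m → ∀ (k : ℕ) (c n : Fin k → ℕ) (T : ℕ),
    (∀ i, 1 < c i) → (∀ i, n i ∣ 6) →
    (∀ i, n i * c i ∣ qq m ^ 3 * (qq m - 1) * (qq m ^ 3 + 1)) →
    ∏ i, c i = qq m ^ 2 - qq m + 1 →
    ∑ i, (c i - 1) * (qq m ^ 3 * (qq m - 1) * (qq m ^ 3 + 1) / (n i * c i)) = T →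
    3 * T = qq m ^ 4 * (qq m ^ 2 - 1) * (qq m - 2) →
    ∃ i j : Fin k, c i = qq m + rr m + 1 ∧ c j = qq m - rr m + 1 ∧ ∀ l, l = i ∨ l = j

/-- ASM -/
def Asm : Prop :=
  ∀ (G : Type u) [Group G] [Finite G] (U H A : Subgroup G) (K : Type v) [Field K] [Fintype K]
    (m : ℕ), Ax G U H A K m → ThreeC G → EvenC G m → OddHC G H m → OddAC G A m →
      ExistC G m → FinC G m → Spec G m

/-! ## the raw facts (exact shapes of the frozen statements) and the translation pieces -/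

/-- the local facts about `R ≤ Γ` in the shape of the frozen statements S1069, S1155, S1150,
S1114, S1151, S1101, S1154, S1073, S1152, S1157, S2359, S1156, with `D` the diagonal subgroup
and `Up` the positive unipotent subgroup of the ambient group, plus the normalization of
`Up ⊓ R` by `D ⊓ R` and a faithful 7-dimensional representation. -/
structure Raw {Γ : Type u} [Group Γ] (R D Up : Subgroup Γ) (K : Type v) [Field K] [Fintype K]
    (m : ℕ) : Prop where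
  hm : 1 ≤ m
  cardK : Fintype.card K = 3 ^ (2 * m + 1)
  s1069 : Nat.card ↥R =
    (3 ^ (2 * m + 1)) ^ 3 * (3 ^ (2 * m + 1) - 1) * ((3 ^ (2 * m + 1)) ^ 3 + 1)
  s1155 : ∀ P Q : Sylow 3 ↥R, P ≠ Q → (P : Subgroup ↥R) ⊓ (Q : Subgroup ↥R) = ⊥
  s1150 : IsCyclic ↥(D ⊓ R)
  s1114 : Nat.card ↥(D ⊓ R) = 3 ^ (2 * m + 1) - 1
  s1151 : ∀ h ∈ D ⊓ R, h ≠ 1 → Odd (orderOf h) →
    (Up ⊓ R) ⊓ Subgroup.centralizer {h} = ⊥
  s1101 : Nat.card ↥(Up ⊓ R) = (3 ^ (2 * m + 1)) ^ 3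
  s1154 : Nat.card {u : ↥(Up ⊓ R) // orderOf u = 3} = (3 ^ (2 * m + 1)) ^ 2 - 1
  s1073 : IsSimpleGroup ↥R
  norm : ∀ h ∈ D ⊓ R, ∀ u ∈ Up ⊓ R, h * u * h⁻¹ ∈ Up
  s1152 : ∀ a : ↥R, (a : Γ) ∈ D → a ≠ 1 → a * a = 1 →
    Nonempty (↥(Subgroup.centralizer {a}) ≃*
      Multiplicative (ZMod 2) × Matrix.ProjectiveSpecialLinearGroup (Fin 2) K) ∧
      ∀ S : Sylow 2 ↥R, Nat.card S = 8 ∧ ∀ x ∈ S, x * x = 1
  s1157 : ∀ S : Sylow 2 ↥R,
    Subgroup.centralizer ((S : Subgroup ↥R) : Set ↥R) = S ∧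
      Nat.card (Subgroup.normalizer ((S : Subgroup ↥R) : Set ↥R)) = 168
  s2359 : ∀ (H : Subgroup ↥R), IsCyclic H →
    (Nat.card H = (3 ^ (2 * m + 1) - 1) / 2 →
      IsCyclic ↥(Subgroup.centralizer (H : Set ↥R)) ∧
        Nat.card ↥(Subgroup.centralizer (H : Set ↥R)) = 3 ^ (2 * m + 1) - 1 ∧
        ∀ A : Subgroup ↥R, A ≤ H → A ≠ ⊥ →
          Subgroup.centralizer (A : Set ↥R) = Subgroup.centralizer (H : Set ↥R)) ∧
    (Nat.card H = (3 ^ (2 * m + 1) + 1) / 4 →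
      IsMulCommutative ↥(Subgroup.centralizer (H : Set ↥R)) ∧
        Nat.card ↥(Subgroup.centralizer (H : Set ↥R)) = 3 ^ (2 * m + 1) + 1 ∧
        (∀ x ∈ Subgroup.centralizer (H : Set ↥R), orderOf x ≠ 4) ∧
        ∀ A : Subgroup ↥R, A ≤ H → A ≠ ⊥ →
          Subgroup.centralizer (A : Set ↥R) = Subgroup.centralizer (H : Set ↥R))
  s1156 : ∀ (p : ℕ) [Fact p.Prime], 3 < p → ∀ P : Sylow p ↥R, IsCyclic ↥(P : Subgroup ↥R)
  rep : ∃ ρ : ↥R →* GL (Fin 7) K, Function.Injective ρ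

/-- `U¹ = Up ⊓ R` as a subgroup of `R` -/
abbrev Usub {Γ : Type u} [Group Γ] (R Up : Subgroup Γ) : Subgroup ↥R := (Up ⊓ R).subgroupOf R

/-- `H¹ = D ⊓ R` as a subgroup of `R` -/
abbrev Hsub {Γ : Type u} [Group Γ] (R D : Subgroup Γ) : Subgroup ↥R := (D ⊓ R).subgroupOf R

/-- conclusion of TRA -/
def TRaC (G : Type u) [Group G] (U H : Subgroup G) (m : ℕ) : Prop :=
  Nat.card U = qq m ^ 3 ∧
  (∀ g : G, (∃ u ∈ U, u ≠ 1 ∧ g * u * g⁻¹ ∈ U) → ∀ u ∈ U, g * u * g⁻¹ ∈ U) ∧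
  ¬ U.Normal ∧ IsCyclic H ∧ Nat.card H = qq m - 1 ∧
  (∀ h ∈ H, ∀ u ∈ U, h * u * h⁻¹ ∈ U) ∧
  (∀ h ∈ H, h ≠ 1 → Odd (orderOf h) → ∀ u ∈ U, u * h = h * u → u = 1)

/-- TRA: order, TI, non-normality of `U`; `H` cyclic of order `q-1`, normalizing `U`, fpf -/
def TRa : Prop :=
  ∀ {Γ : Type u} [Group Γ] (R D Up : Subgroup Γ) (K : Type v) [Field K] [Fintype K] (m : ℕ),
    Raw R D Up K m → TRaC ↥R (Usub R Up) (Hsub R D) m

/-- TR9: exponent 9 and an element of order 9 -/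
def TR9 : Prop :=
  ∀ {Γ : Type u} [Group Γ] (R D Up : Subgroup Γ) (K : Type v) [Field K] [Fintype K] (m : ℕ),
    Raw R D Up K m →
      (∀ u ∈ Usub R Up, u ^ 9 = 1) ∧ ∃ u ∈ Usub R Up, orderOf u = 9

/-- conclusion of TRI -/
def TRiC (G : Type u) [Group G] (K : Type v) [Field K] [Fintype K] : Prop :=
  (∀ s : G, orderOf s = 2 →
    Nonempty (↥(Subgroup.centralizer ({s} : Set G)) ≃*
      Multiplicative (ZMod 2) × Matrix.ProjectiveSpecialLinearGroup (Fin 2) K)) ∧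
  (∀ s s' : G, orderOf s = 2 → orderOf s' = 2 → ∃ x : G, x * s * x⁻¹ = s')

/-- TRI: all involutions are conjugate, with centralizer `Z₂ × PSL₂(q)` -/
def TRi : Prop :=
  ∀ {Γ : Type u} [Group Γ] (R D Up : Subgroup Γ) (K : Type v) [Field K] [Fintype K] (m : ℕ),
    Raw R D Up K m → TRiC ↥R K

/-- TRH: centralizers of the nonidentity elements of odd order of `H` -/
def TRh : Prop :=
  ∀ {Γ : Type u} [Group Γ] (R D Up : Subgroup Γ) (K : Type v) [Field K] [Fintype K] (m : ℕ),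
    Raw R D Up K m →
      ∀ x ∈ Hsub R D, x ≠ 1 → Odd (orderOf x) → ∀ g : ↥R, g * x = x * g → g ∈ Hsub R D

/-- conclusion of TRAA -/
def TRAC (G : Type u) [Group G] (m : ℕ) : Prop :=
  ∃ A : Subgroup G, IsCyclic A ∧ Nat.card A = (qq m + 1) / 4 ∧
    (∀ x ∈ A, x ≠ 1 →
      Subgroup.centralizer ({x} : Set G) = Subgroup.centralizer (A : Set G)) ∧
    Nat.card ↥(Subgroup.centralizer (A : Set G)) = qq m + 1 ∧
    (∀ x ∈ Subgroup.centralizer (A : Set G), ∀ y ∈ Subgroup.centralizer (A : Set G),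
      x * y = y * x) ∧
    ∀ x ∈ Subgroup.centralizer (A : Set G), orderOf x ≠ 4

/-- TRAA: the cyclic subgroup `A` of order `(q+1)/4` -/
def TRA : Prop :=
  ∀ {Γ : Type u} [Group Γ] (R D Up : Subgroup Γ) (K : Type v) [Field K] [Fintype K] (m : ℕ),
    Raw R D Up K m → TRiC ↥R K → TRAC ↥R m

/-! ## assembly -/

theorem three_le_qq (m : ℕ) : 3 ≤ qq m := by
  calc 3 = 3 ^ 1 := by norm_num
    _ ≤ 3 ^ (2 * m + 1) := Nat.pow_le_pow_right (by norm_num) (by omega)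

/-- the count of the elements of the third kind from the other counts -/
theorem count_of {G : Type u} [Group G] {U H A : Subgroup G} {K : Type v} [Field K]
    [Fintype K] {m : ℕ} (hax : Ax G U H A K m) (h3 : C3C G m) (h2 : C2C G m) (h6 : C6C G m)
    (ht1 : CT1C G H m) (ht2 : CT2C G A m) (he : CEC G H A) (hp : CPC G H A m) :
    CountC G m := by
  unfold CountC
  unfold C3C at h3
  unfold C2C at h2
  unfold C6C at h6
  unfold CT1C at ht1
  unfold CT2C at ht2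
  unfold CEC at he
  unfold CPC at hp
  have hcard := hax.card
  obtain ⟨a, ha⟩ : ∃ a, qq m = a + 3 := ⟨qq m - 3, by have := three_le_qq m; omega⟩
  rw [ha] at hcard h3 h2 h6 ht1 ht2 ⊢
  have e1 : a + 3 - 1 = a + 2 := by omega
  have e2 : a + 3 - 2 = a + 1 := by omega
  have e0 : a + 3 - 3 = a := by omega
  have e3 : (a + 3) ^ 3 - 1 = a ^ 3 + 9 * a ^ 2 + 27 * a + 26 := by
    apply Nat.sub_eq_of_eq_add; ring
  have e4 : (a + 3) ^ 2 - (a + 3) = a ^ 2 + 5 * a + 6 := by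
    apply Nat.sub_eq_of_eq_add; ring
  have e5 : (a + 3) ^ 2 - 1 = a ^ 2 + 6 * a + 8 := by
    apply Nat.sub_eq_of_eq_add; ring
  rw [e1] at hcard h6 ht2
  rw [e3] at h3
  rw [e4] at h2 ht2
  rw [e0] at ht1 ht2
  rw [e5, e2]
  rw [hcard, h3, he, h2, h6] at hp
  nlinarith [hp, ht1, ht2]

/-- the two cyclic Hall subgroups from the orbit decomposition and the arithmetic -/
theorem fin_of {G : Type u} [Group G] {U H A : Subgroup G} {K : Type v} [Field K]
    [Fintype K] {m : ℕ} (hax : Ax G U H A K m) (ho : OrbC G m) (hd : Dio)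
    (hc : CountC G m) : FinC G m := by
  obtain ⟨k, c, n, C, hcyc, hcard, h1, hn, hdv, hprod, hsum, hcov⟩ := ho
  simp only [hax.card] at hdv hsum
  obtain ⟨i, j, hi, hj, hall⟩ := hd m hax.hm k c n _ h1 hn hdv hprod hsum hc
  refine ⟨C i, C j, hcyc i, hcyc j, by rw [hcard, hi], by rw [hcard, hj], ?_⟩
  intro g hg
  obtain ⟨l, x, hx⟩ := hcov g hg
  rcases hall l with rfl | rfl
  · exact ⟨x, Or.inl hx⟩
  · exact ⟨x, Or.inr hx⟩

/-- the spectrum from the clean axioms and the abstract pieces -/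
theorem spec_of_ax (pTI : TISyl.{u}) (pSyl : Syl.{u, v}) (pThree : Three.{u, v})
    (pEven : EvenP.{u, v}) (pOddH : OddH.{u, v}) (pOddA : OddA.{u, v})
    (pExist : Exist.{u, v}) (pRC1 : RC1.{u, v}) (pRC2 : RC2.{u, v}) (pHall : Hall.{u, v})
    (pNH : NH.{u, v}) (pNA : NA.{u, v}) (pC3 : C3.{u, v}) (pC2 : C2.{u, v})
    (pC6 : C6.{u, v}) (pCT1 : CT1.{u, v}) (pCT2 : CT2.{u, v}) (pCE : CE.{u, v})
    (pCP : CP.{u, v}) (pOrb : Orb.{u, v}) (pDio : Dio) (pAsm : Asm.{u, v})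
    {G : Type u} [Group G] [Finite G] {U H A : Subgroup G} {K : Type v} [Field K]
    [Fintype K] {m : ℕ} (hax : Ax G U H A K m) : Spec G m := by
  have hS := pSyl G U H A K m hax pTI
  have h3 := pThree G U H A K m hax hS
  have hE := pEven G U H A K m hax
  have hH := pOddH G U H A K m hax
  have hA := pOddA G U H A K m hax
  have hX := pExist G U H A K m hax
  have hr1 := pRC1 G K m hax.cardK hax.rep
  have hr2 := pRC2 G K m hax.cardK hax.rep
  have hHall := pHall G U H A K m hax h3 hE hH hA hr1 hr2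
  have hNH := pNH G U H A K m hax pTI
  have hNA := pNA G U H A K m hax pTI
  have hc := count_of hax (pC3 G U H A K m hax hS) (pC2 G U H A K m hax)
    (pC6 G U H A K m hax hS h3 (pC2 G U H A K m hax)) (pCT1 G U H A K m hax hNH) (pCT2 G U H A K m hax hNA)
    (pCE G U H A K m hax h3 hE hH hA) (pCP G U H A K m hax hS h3 hH hA)
  have hF := fin_of hax (pOrb G U H A K m hax hHall) pDio hc
  exact pAsm G U H A K m hax h3 hE hH hA hX hF

/-- the clean axioms from the raw facts -/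
theorem ax_of_raw (pa : TRa.{u, v}) (p9 : TR9.{u, v}) (pi : TRi.{u, v}) (ph : TRh.{u, v})
    (pA : TRA.{u, v}) {Γ : Type u} [Group Γ] {R D Up : Subgroup Γ} {K : Type v} [Field K]
    [Fintype K] {m : ℕ} (hraw : Raw R D Up K m) :
    ∃ A : Subgroup ↥R, Ax ↥R (Usub R Up) (Hsub R D) A K m := by
  obtain ⟨hU, hti, hnn, hcyc, hcH, hnorm, hfpf⟩ := pa R D Up K m hraw
  obtain ⟨he9, hx9⟩ := p9 R D Up K m hraw
  have hi := pi R D Up K m hraw
  have hcent := ph R D Up K m hraw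
  obtain ⟨A, hA1, hA2, hA3, hA4, hA5, hA6⟩ := pA R D Up K m hraw hi
  exact ⟨A, { hm := hraw.hm, cardK := hraw.cardK, card := hraw.s1069, cardU := hU, ti := hti,
              notNormal := hnn, exp9 := he9, ex9 := hx9, cycH := hcyc, cardH := hcH,
              normH := hnorm, fpf := hfpf, centH := hcent, invo := hi.1, invConj := hi.2,
              cycA := hA1, cardA := hA2, centA := hA3, cardCA := hA4, commCA := hA5,
              no4 := hA6, cycSyl := hraw.s1156, rep := hraw.rep }⟩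

/-- the spectrum from the raw facts and all the pieces -/
theorem spec_of_raw (pa : TRa.{u, v}) (p9 : TR9.{u, v}) (pi : TRi.{u, v}) (ph : TRh.{u, v})
    (pA : TRA.{u, v}) (pTI : TISyl.{u}) (pSyl : Syl.{u, v}) (pThree : Three.{u, v})
    (pEven : EvenP.{u, v}) (pOddH : OddH.{u, v}) (pOddA : OddA.{u, v})
    (pExist : Exist.{u, v}) (pRC1 : RC1.{u, v}) (pRC2 : RC2.{u, v}) (pHall : Hall.{u, v})
    (pNH : NH.{u, v}) (pNA : NA.{u, v}) (pC3 : C3.{u, v}) (pC2 : C2.{u, v})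
    (pC6 : C6.{u, v}) (pCT1 : CT1.{u, v}) (pCT2 : CT2.{u, v}) (pCE : CE.{u, v})
    (pCP : CP.{u, v}) (pOrb : Orb.{u, v}) (pDio : Dio) (pAsm : Asm.{u, v})
    {Γ : Type u} [Group Γ] {R D Up : Subgroup Γ} {K : Type v} [Field K] [Fintype K] {m : ℕ}
    (hraw : Raw R D Up K m) : Spec ↥R m := by
  obtain ⟨A, hax⟩ := ax_of_raw pa p9 pi ph pA hraw
  have : Finite ↥R := Nat.finite_of_card_ne_zero (by
    rw [hraw.s1069]
    have h3 := three_le_qq m
    have h1 : 0 < 3 ^ (2 * m + 1) - 1 := by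
      have : 3 ≤ 3 ^ (2 * m + 1) := h3
      omega
    positivity)
  exact spec_of_ax pTI pSyl pThree pEven pOddH pOddA pExist pRC1 pRC2 pHall pNH pNA pC3 pC2
    pC6 pCT1 pCT2 pCE pCP pOrb pDio pAsm hax

end Cfsg.Agent.Lib.Helper42.ReeSpStmt
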