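import Mathlib
import Cfsg.Agent.Lib.Helper42.PsuOrdC

set_option autoImplicit false

namespace Cfsg.Agent.Lib.Helper42.SpOrdA

open Polynomial Matrix
open Cfsg.Agent.Lib.Helper40.SSConj
open Cfsg.Agent.Lib.Helper42.PslOrdA

section sa
variable {F : Type*} [Field F] {N : ℕ} (Jm : Matrix (Fin N) (Fin N) F)

/-- the adjoint with respect to the alternating form with Gram matrix `Jm` -/
def sa (M : Matrix (Fin N) (Fin N) F) : Matrix (Fin N) (Fin N) F := -(Jm * Mᵀ * Jm)

lemma sa_add (M K : Matrix (Fin N) (Fin N) F) : sa Jm (M + K) = sa Jm M + sa Jm K := by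
  unfold sa
  rw [Matrix.transpose_add, Matrix.mul_add, Matrix.add_mul, neg_add]

lemma sa_neg (M : Matrix (Fin N) (Fin N) F) : sa Jm (-M) = -sa Jm M := by
  unfold sa
  rw [Matrix.transpose_neg, Matrix.mul_neg, Matrix.neg_mul]

lemma sa_sub (M K : Matrix (Fin N) (Fin N) F) : sa Jm (M - K) = sa Jm M - sa Jm K := by
  rw [sub_eq_add_neg, sa_add, sa_neg, ← sub_eq_add_neg]

lemma sa_zero : sa Jm (0 : Matrix (Fin N) (Fin N) F) = 0 := by
  unfold sa
  rw [Matrix.transpose_zero, Matrix.mul_zero, Matrix.zero_mul, neg_zero]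

lemma sa_smul (c : F) (M : Matrix (Fin N) (Fin N) F) : sa Jm (c • M) = c • sa Jm M := by
  unfold sa
  rw [Matrix.transpose_smul, Matrix.mul_smul, Matrix.smul_mul, smul_neg]

lemma sa_mul (hJ2 : Jm * Jm = -1) (M K : Matrix (Fin N) (Fin N) F) :
    sa Jm (M * K) = sa Jm K * sa Jm M := by
  unfold sa
  rw [Matrix.transpose_mul, neg_mul_neg]
  have h : Jm * Kᵀ * Jm * (Jm * Mᵀ * Jm) = Jm * Kᵀ * (Jm * Jm) * (Mᵀ * Jm) := by
    simp only [Matrix.mul_assoc]
  rw [h, hJ2, Matrix.mul_neg, Matrix.mul_one, Matrix.neg_mul]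
  simp only [Matrix.mul_assoc]

lemma sa_one (hJ2 : Jm * Jm = -1) : sa Jm (1 : Matrix (Fin N) (Fin N) F) = 1 := by
  unfold sa
  rw [Matrix.transpose_one, Matrix.mul_one, hJ2, neg_neg]

lemma sa_sa (hJt : Jmᵀ = -Jm) (hJ2 : Jm * Jm = -1) (M : Matrix (Fin N) (Fin N) F) :
    sa Jm (sa Jm M) = M := by
  unfold sa
  rw [Matrix.transpose_neg, Matrix.transpose_mul, Matrix.transpose_mul, Matrix.transpose_transpose,
    hJt]
  have h : Jm * -(-Jm * (M * -Jm)) * Jm = -((Jm * Jm) * M * (Jm * Jm)) := by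
    simp only [Matrix.mul_neg, Matrix.neg_mul, neg_neg, Matrix.mul_assoc]
  rw [h, hJ2, neg_neg, Matrix.neg_mul, Matrix.one_mul, Matrix.neg_mul, Matrix.mul_neg,
    Matrix.mul_one, neg_neg]

lemma sa_pow (hJ2 : Jm * Jm = -1) (M : Matrix (Fin N) (Fin N) F) (k : ℕ) :
    sa Jm (M ^ k) = sa Jm M ^ k := by
  induction k with
  | zero => rw [pow_zero, pow_zero, sa_one Jm hJ2]
  | succ k ih => rw [pow_succ, sa_mul Jm hJ2, ih, ← pow_succ']

lemma sa_algebraMap (hJ2 : Jm * Jm = -1) (c : F) :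
    sa Jm (algebraMap F (Matrix (Fin N) (Fin N) F) c) = algebraMap F _ c := by
  rw [Algebra.algebraMap_eq_smul_one, sa_smul, sa_one Jm hJ2]

lemma sa_aeval (hJ2 : Jm * Jm = -1) (M : Matrix (Fin N) (Fin N) F) (h : F[X]) :
    sa Jm (aeval M h) = aeval (sa Jm M) h := by
  induction h using Polynomial.induction_on' with
  | add p q hp hq => rw [map_add, sa_add, hp, hq, map_add]
  | monomial k c =>
    rw [aeval_monomial, aeval_monomial, sa_mul Jm hJ2, sa_pow Jm hJ2, sa_algebraMap Jm hJ2]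
    exact (Algebra.commutes _ _).symm

lemma sa_inj (hJt : Jmᵀ = -Jm) (hJ2 : Jm * Jm = -1) (M K : Matrix (Fin N) (Fin N) F)
    (h : sa Jm M = sa Jm K) : M = K := by
  rw [← sa_sa Jm hJt hJ2 M, h, sa_sa Jm hJt hJ2]

/-- the polynomial form of the adjoint of a polynomial in an isometry of finite order -/
lemma sa_aeval_comp (hJ2 : Jm * Jm = -1) (A : Matrix (Fin N) (Fin N) F) (K : ℕ)
    (hA : sa Jm A = A ^ (K - 1)) (h : F[X]) :
    sa Jm (aeval A h) = aeval A (h.comp (X ^ (K - 1))) := by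
  rw [sa_aeval Jm hJ2, hA, aeval_comp, map_pow, aeval_X]

lemma isom_pow (hJ2 : Jm * Jm = -1) (M : Matrix (Fin N) (Fin N) F) (hU : sa Jm M * M = 1)
    (j : ℕ) : sa Jm (M ^ j) * M ^ j = 1 := by
  rw [sa_pow Jm hJ2]
  have hcm : Commute (sa Jm M) M := by
    show sa Jm M * M = M * sa Jm M
    rw [hU, mul_eq_one_comm.mp hU]
  rw [← hcm.mul_pow, hU, one_pow]

end sa

section form
variable {F : Type*} [Field F] {N : ℕ} (Jm : Matrix (Fin N) (Fin N) F)

/-- the bilinear form with Gram matrix `Jm` -/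
def bf (u v : Fin N → F) : F := u ⬝ᵥ (Jm *ᵥ v)

lemma bf_add_left (u u' v : Fin N → F) : bf Jm (u + u') v = bf Jm u v + bf Jm u' v := by
  unfold bf
  rw [add_dotProduct]

lemma bf_add_right (u v v' : Fin N → F) : bf Jm u (v + v') = bf Jm u v + bf Jm u v' := by
  unfold bf
  rw [Matrix.mulVec_add, dotProduct_add]

lemma bf_smul_left (c : F) (u v : Fin N → F) : bf Jm (c • u) v = c * bf Jm u v := by
  unfold bf
  rw [smul_dotProduct, smul_eq_mul]

lemma bf_smul_right (c : F) (u v : Fin N → F) : bf Jm u (c • v) = c * bf Jm u v := by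
  unfold bf
  rw [Matrix.mulVec_smul, dotProduct_smul, smul_eq_mul]

lemma bf_zero_right (u : Fin N → F) : bf Jm u 0 = 0 := by
  unfold bf
  rw [Matrix.mulVec_zero, dotProduct_zero]

lemma bf_zero_left (v : Fin N → F) : bf Jm 0 v = 0 := by
  unfold bf
  rw [zero_dotProduct]

lemma bf_sub_right (u v v' : Fin N → F) : bf Jm u (v - v') = bf Jm u v - bf Jm u v' := by
  have h := bf_add_right Jm u (v - v') v'
  rw [sub_add_cancel] at h
  rw [h, add_sub_cancel_right]

lemma bf_mulVec (hJ2 : Jm * Jm = -1) (M : Matrix (Fin N) (Fin N) F) (u v : Fin N → F) :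
    bf Jm (M *ᵥ u) v = bf Jm u (sa Jm M *ᵥ v) := by
  unfold bf
  have h : Jm * sa Jm M = Mᵀ * Jm := by
    unfold sa
    rw [Matrix.mul_neg, ← Matrix.mul_assoc, ← Matrix.mul_assoc, hJ2, Matrix.neg_mul,
      Matrix.neg_mul, neg_neg, Matrix.one_mul]
  rw [Matrix.mulVec_mulVec, h, ← Matrix.mulVec_mulVec, dotProduct_comm, Matrix.dotProduct_mulVec,
    ← Matrix.mulVec_transpose, dotProduct_comm]

lemma bf_skew (hJt : Jmᵀ = -Jm) (u v : Fin N → F) : bf Jm v u = -bf Jm u v := by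
  unfold bf
  rw [Matrix.dotProduct_mulVec, ← Matrix.mulVec_transpose, hJt, Matrix.neg_mulVec,
    neg_dotProduct, dotProduct_comm]

lemma bf_self (hJt : Jmᵀ = -Jm) (h2 : (2 : F) ≠ 0) (v : Fin N → F) : bf Jm v v = 0 := by
  have h := bf_skew Jm hJt v v
  have h3 : (2 : F) * bf Jm v v = 0 := by linear_combination h
  rcases mul_eq_zero.mp h3 with h4 | h4
  · exact absurd h4 h2
  · exact h4

lemma eq_zero_of_bf_left (hJ2 : Jm * Jm = -1) (u : Fin N → F)
    (h : ∀ w, bf Jm u w = 0) : u = 0 := by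
  have h1 : u ᵥ* Jm = 0 := by
    apply dotProduct_eq_zero
    intro w
    rw [← Matrix.dotProduct_mulVec]
    exact h w
  have h2 : u = (u ᵥ* Jm) ᵥ* (-Jm) := by
    rw [Matrix.vecMul_vecMul, Matrix.mul_neg, hJ2, neg_neg, Matrix.vecMul_one]
  rw [h2, h1, Matrix.zero_vecMul]

lemma eq_zero_of_bf_right (hJt : Jmᵀ = -Jm) (hJ2 : Jm * Jm = -1) (u : Fin N → F)
    (h : ∀ w, bf Jm w u = 0) : u = 0 := by
  apply eq_zero_of_bf_left Jm hJ2
  intro w
  rw [bf_skew Jm hJt, h w, neg_zero]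

/-- the orthogonal complement of a subspace -/
def perp (W : Submodule F (Fin N → F)) : Submodule F (Fin N → F) where
  carrier := {u | ∀ w ∈ W, bf Jm u w = 0}
  add_mem' := by
    intro a b ha hb w hw
    rw [bf_add_left, ha w hw, hb w hw, add_zero]
  zero_mem' := by
    intro w _
    exact bf_zero_left Jm w
  smul_mem' := by
    intro c a ha w hw
    rw [bf_smul_left, ha w hw, mul_zero]

lemma mem_perp (W : Submodule F (Fin N → F)) (u : Fin N → F) :
    u ∈ perp Jm W ↔ ∀ w ∈ W, bf Jm u w = 0 := Iff.rfl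

lemma finrank_perp_ge (W : Submodule F (Fin N → F)) :
    N ≤ Module.finrank F W + Module.finrank F (perp Jm W) := by
  obtain ⟨k, hk⟩ : ∃ k, k = Module.finrank F W := ⟨_, rfl⟩
  obtain ⟨b⟩ : Nonempty (Module.Basis (Fin k) F W) := ⟨Module.finBasisOfFinrankEq F W hk.symm⟩
  obtain ⟨P, hP⟩ : ∃ P : Matrix (Fin k) (Fin N) F,
      P = Matrix.of fun i a => (Jm *ᵥ (b i : Fin N → F)) a := ⟨_, rfl⟩
  have hker : LinearMap.ker P.mulVecLin ≤ perp Jm W := by
    intro u hu
    rw [LinearMap.mem_ker, Matrix.mulVecLin_apply] at hu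
    have hbi : ∀ i, bf Jm u (b i : Fin N → F) = 0 := by
      intro i
      have := congrFun hu i
      rw [hP] at this
      unfold bf
      rw [dotProduct_comm]
      exact this
    intro w hw
    have hw' : w = ((⟨w, hw⟩ : W) : Fin N → F) := rfl
    rw [hw', ← b.sum_repr ⟨w, hw⟩]
    have key : ∀ (s : Finset (Fin k)) (c : Fin k → F),
        bf Jm u ((∑ i ∈ s, c i • b i : W) : Fin N → F) = 0 := by
      intro s c
      induction s using Finset.induction_on with
      | empty =>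
        rw [Finset.sum_empty]
        exact bf_zero_right Jm u
      | insert a s ha ih =>
        rw [Finset.sum_insert ha, Submodule.coe_add, bf_add_right, ih, add_zero,
          Submodule.coe_smul, bf_smul_right, hbi, mul_zero]
    exact key _ _
  have h1 := LinearMap.finrank_range_add_finrank_ker P.mulVecLin
  have h2 : Module.finrank F (LinearMap.range P.mulVecLin) ≤ k := by
    have := Submodule.finrank_le (LinearMap.range P.mulVecLin)
    simpa using this
  have h3 := Submodule.finrank_mono hker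
  have h4 : Module.finrank F (Fin N → F) = N := by simp
  rw [← hk]
  omega

end form

section dec
variable {F : Type*} [Field F] {N : ℕ} (Jm : Matrix (Fin N) (Fin N) F)

/-- a matrix is symplectically decomposable when it commutes with a non-trivial self-adjoint
idempotent -/
def DecS (A : Matrix (Fin N) (Fin N) F) : Prop :=
  ∃ E : Matrix (Fin N) (Fin N) F, E * E = E ∧ E ≠ 0 ∧ E ≠ 1 ∧ sa Jm E = E ∧ E * A = A * E

/-- two complementary orthogonal invariant subspaces give a decomposition -/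
theorem decS_of_compl (hJt : Jmᵀ = -Jm) (hJ2 : Jm * Jm = -1) (A : Matrix (Fin N) (Fin N) F)
    (W W' : Submodule F (Fin N → F)) (hW : W ∈ Module.End.invtSubmodule (Matrix.toLin' A))
    (hW' : W' ∈ Module.End.invtSubmodule (Matrix.toLin' A)) (hc : IsCompl W W')
    (horth : ∀ w ∈ W, ∀ w' ∈ W', bf Jm w w' = 0)
    (h0 : W ≠ ⊥) (h1 : W ≠ ⊤) : DecS Jm A := by
  obtain ⟨π, hπ⟩ : ∃ π : (Fin N → F) →ₗ[F] (Fin N → F), π = LinearMap.ofIsCompl hc W.subtype 0 :=
    ⟨_, rfl⟩
  have hπW : ∀ w ∈ W, π w = w := by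
    intro w hw
    rw [hπ]
    exact LinearMap.ofIsCompl_apply_left hc (⟨w, hw⟩ : W)
  have hπW' : ∀ w ∈ W', π w = 0 := by
    intro w hw
    rw [hπ]
    exact LinearMap.ofIsCompl_apply_right hc (⟨w, hw⟩ : W')
  have hdec : ∀ x : Fin N → F, ∃ w ∈ W, ∃ w' ∈ W', x = w + w' := by
    intro x
    have hx : x ∈ W ⊔ W' := by rw [hc.sup_eq_top]; exact Submodule.mem_top
    obtain ⟨w, hw, w', hw', rfl⟩ := Submodule.mem_sup.mp hx
    exact ⟨w, hw, w', hw', rfl⟩
  have hmemW : ∀ w ∈ W, Matrix.toLin' A w ∈ W := fun w hw =>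
    (Module.End.mem_invtSubmodule _).mp hW hw
  have hmemW' : ∀ w ∈ W', Matrix.toLin' A w ∈ W' := fun w hw =>
    (Module.End.mem_invtSubmodule _).mp hW' hw
  have hππ : π ∘ₗ π = π := by
    apply LinearMap.ext
    intro x
    obtain ⟨w, hw, w', hw', rfl⟩ := hdec x
    rw [LinearMap.comp_apply, map_add, hπW w hw, hπW' w' hw', add_zero, hπW w hw]
  have hπA : π ∘ₗ Matrix.toLin' A = Matrix.toLin' A ∘ₗ π := by
    apply LinearMap.ext
    intro x
    obtain ⟨w, hw, w', hw', rfl⟩ := hdec x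
    have e1 : Matrix.toLin' A (w + w') = Matrix.toLin' A w + Matrix.toLin' A w' := map_add _ _ _
    rw [LinearMap.comp_apply, LinearMap.comp_apply, e1, map_add π, hπW _ (hmemW w hw),
      hπW' _ (hmemW' w' hw'), add_zero, map_add π, hπW w hw, hπW' w' hw', add_zero]
  have horth' : ∀ w ∈ W, ∀ w' ∈ W', bf Jm w' w = 0 := by
    intro w hw w' hw'
    rw [bf_skew Jm hJt, horth w hw w' hw', neg_zero]
  have hsa : ∀ u v : Fin N → F, bf Jm (π u) v = bf Jm u (π v) := by
    intro u v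
    obtain ⟨w, hw, w', hw', rfl⟩ := hdec u
    obtain ⟨x, hx, x', hx', rfl⟩ := hdec v
    rw [map_add π, hπW w hw, hπW' w' hw', add_zero, map_add π, hπW x hx, hπW' x' hx', add_zero,
      bf_add_right, horth w hw x' hx', add_zero, bf_add_left, horth' x hx w' hw', add_zero]
  refine ⟨LinearMap.toMatrix' π, ?_, ?_, ?_, ?_, ?_⟩
  · rw [← LinearMap.toMatrix'_comp, hππ]
  · intro h
    have hπ0 : π = 0 := by
      have := congrArg Matrix.toLin' h
      rwa [Matrix.toLin'_toMatrix', map_zero] at this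
    obtain ⟨w, hw, hw0⟩ := Submodule.exists_mem_ne_zero_of_ne_bot h0
    apply hw0
    rw [← hπW w hw, hπ0]
    rfl
  · intro h
    have hπ1 : π = LinearMap.id := by
      have := congrArg Matrix.toLin' h
      rwa [Matrix.toLin'_toMatrix', Matrix.toLin'_one] at this
    have hW'0 : W' ≠ ⊥ := by
      intro hb
      apply h1
      have := hc.sup_eq_top
      rwa [hb, sup_bot_eq] at this
    obtain ⟨w, hw, hw0⟩ := Submodule.exists_mem_ne_zero_of_ne_bot hW'0
    apply hw0
    have := hπW' w hw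
    rwa [hπ1] at this
  · obtain ⟨E, hE⟩ : ∃ E, E = LinearMap.toMatrix' π := ⟨_, rfl⟩
    rw [← hE]
    have hEv : ∀ v, E *ᵥ v = π v := by
      intro v
      rw [hE, ← Matrix.toLin'_apply, Matrix.toLin'_toMatrix']
    apply Matrix.toLin'.injective
    apply LinearMap.ext
    intro v
    rw [Matrix.toLin'_apply, Matrix.toLin'_apply, ← sub_eq_zero]
    apply eq_zero_of_bf_right Jm hJt hJ2
    intro u
    rw [bf_sub_right, ← bf_mulVec Jm hJ2, hEv, hEv, hsa, sub_self]
  · have := congrArg LinearMap.toMatrix' hπA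
    rwa [LinearMap.toMatrix'_comp, LinearMap.toMatrix'_comp, LinearMap.toMatrix'_toLin'] at this

end dec

section cyclic
variable {F : Type*} [Field F] {N : ℕ} (Jm : Matrix (Fin N) (Fin N) F)

/-- an isometry which is not an involution moves some vector non-orthogonally -/
lemma exists_bf_ne (hJt : Jmᵀ = -Jm) (hJ2 : Jm * Jm = -1)
    (S : Matrix (Fin N) (Fin N) F) (hS : sa Jm S * S = 1) (hS2 : S * S ≠ 1) :
    ∃ v : Fin N → F, bf Jm (S *ᵥ v) v ≠ 0 := by
  by_contra hcon
  push Not at hcon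
  apply hS2
  have hpol : ∀ u w : Fin N → F, bf Jm (S *ᵥ u) w = bf Jm (sa Jm S *ᵥ u) w := by
    intro u w
    have h1 := hcon (u + w)
    rw [Matrix.mulVec_add, bf_add_left, bf_add_right, bf_add_right, hcon u, hcon w, zero_add,
      add_zero] at h1
    have h3 : bf Jm (sa Jm S *ᵥ u) w = bf Jm u (S *ᵥ w) := by
      rw [bf_mulVec Jm hJ2, sa_sa Jm hJt hJ2]
    rw [h3, bf_skew Jm hJt (S *ᵥ w) u]
    linear_combination h1
  have hEq : S = sa Jm S := by
    apply Matrix.toLin'.injective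
    apply LinearMap.ext
    intro u
    rw [Matrix.toLin'_apply, Matrix.toLin'_apply, ← sub_eq_zero]
    apply eq_zero_of_bf_left Jm hJ2
    intro w
    have h1 : bf Jm (S *ᵥ u - sa Jm S *ᵥ u) w = bf Jm (S *ᵥ u) w - bf Jm (sa Jm S *ᵥ u) w := by
      have h4 := bf_add_left Jm (S *ᵥ u - sa Jm S *ᵥ u) (sa Jm S *ᵥ u) w
      rw [sub_add_cancel] at h4
      rw [h4, add_sub_cancel_right]
    rw [h1, hpol, sub_self]
  calc S * S = sa Jm S * S := by rw [← hEq]
    _ = 1 := hS

/-- an indecomposable semisimple isometry which is not an involution has a cyclic vector -/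
theorem exists_cyclic (hJt : Jmᵀ = -Jm) (hJ2 : Jm * Jm = -1)
    (S : Matrix (Fin N) (Fin N) F)
    (hS : sa Jm S * S = 1) (K : ℕ) (hK : 0 < K) (hSK : S ^ K = 1)
    (hss : Module.End.IsSemisimple (Matrix.toLin' S)) (hdec : ¬ DecS Jm S) (hS2 : S * S ≠ 1) :
    ∃ v : Fin N → F, ∀ w : Fin N → F, ∃ h : F[X], w = aeval S h *ᵥ v := by
  have hadj : sa Jm S = S ^ (K - 1) :=
    Cfsg.Agent.Lib.Helper42.PsuOrdA.inv_eq_pow S (sa Jm S) hS K hK hSK
  have hperp_invt : ∀ W : Submodule F (Fin N → F),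
      W ∈ Module.End.invtSubmodule (Matrix.toLin' S) →
      perp Jm W ∈ Module.End.invtSubmodule (Matrix.toLin' S) := by
    intro W hW
    rw [Module.End.mem_invtSubmodule]
    intro u hu
    rw [Submodule.mem_comap, mem_perp]
    intro w hw
    rw [Matrix.toLin'_apply, bf_mulVec Jm hJ2, hadj]
    apply hu
    have : ∀ k : ℕ, (S ^ k) *ᵥ w ∈ W := by
      intro k
      induction k with
      | zero => simpa using hw
      | succ k ih =>
        rw [pow_succ', ← Matrix.mulVec_mulVec, ← Matrix.toLin'_apply S]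
        exact (Module.End.mem_invtSubmodule _).mp hW ih
    exact this _
  obtain ⟨v, hvv⟩ := exists_bf_ne Jm hJt hJ2 S hS hS2
  obtain ⟨W, hWdef⟩ : ∃ W, W = LinearMap.range (ev (Matrix.toLin' S) v) := ⟨_, rfl⟩
  have hWi : W ∈ Module.End.invtSubmodule (Matrix.toLin' S) := by
    rw [hWdef]
    exact range_ev_invt _ v
  have hvW : v ∈ W := by
    rw [hWdef]
    exact mem_range_ev _ v
  have hSvW : S *ᵥ v ∈ W := by
    rw [← Matrix.toLin'_apply S]
    exact (Module.End.mem_invtSubmodule _).mp hWi hvW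
  obtain ⟨R, hRdef⟩ : ∃ R, R = W ⊓ perp Jm W := ⟨_, rfl⟩
  have hRi : R ∈ Module.End.invtSubmodule (Matrix.toLin' S) := by
    rw [Module.End.mem_invtSubmodule]
    intro x hx
    rw [hRdef] at hx
    rw [Submodule.mem_comap, hRdef]
    exact ⟨(Module.End.mem_invtSubmodule _).mp hWi hx.1,
      (Module.End.mem_invtSubmodule _).mp (hperp_invt W hWi) hx.2⟩
  obtain ⟨C, hCi, hRC⟩ := (Module.End.isSemisimple_iff.mp hss) R hRi
  obtain ⟨W', hW'def⟩ : ∃ W', W' = W ⊓ C := ⟨_, rfl⟩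
  have hW'i : W' ∈ Module.End.invtSubmodule (Matrix.toLin' S) := by
    rw [Module.End.mem_invtSubmodule]
    intro x hx
    rw [hW'def] at hx
    rw [Submodule.mem_comap, hW'def]
    exact ⟨(Module.End.mem_invtSubmodule _).mp hWi hx.1,
      (Module.End.mem_invtSubmodule _).mp hCi hx.2⟩
  have hsplit : ∀ w ∈ W, ∃ ρ ∈ R, ∃ c ∈ W', w = ρ + c := by
    intro w hw
    have hw' : w ∈ R ⊔ C := by rw [hRC.sup_eq_top]; exact Submodule.mem_top
    obtain ⟨ρ, hρ, c, hc, rfl⟩ := Submodule.mem_sup.mp hw'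
    refine ⟨ρ, hρ, c, ?_, rfl⟩
    rw [hW'def]
    refine ⟨?_, hc⟩
    have hρW : ρ ∈ W := by
      rw [hRdef] at hρ
      exact hρ.1
    have := W.sub_mem hw hρW
    rwa [add_sub_cancel_left] at this
  have hnd : ∀ x ∈ W', (∀ y ∈ W', bf Jm x y = 0) → x = 0 := by
    intro x hx hxy
    have hxW : x ∈ W := by
      rw [hW'def] at hx
      exact hx.1
    have hxC : x ∈ C := by
      rw [hW'def] at hx
      exact hx.2
    have hxp : x ∈ perp Jm W := by
      intro w hw
      obtain ⟨ρ, hρ, c, hc, rfl⟩ := hsplit w hw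
      rw [bf_add_right, hxy c hc, add_zero, bf_skew Jm hJt ρ x]
      rw [hRdef] at hρ
      rw [hρ.2 x hxW, neg_zero]
    have hxR : x ∈ R ⊓ C := by
      refine ⟨?_, hxC⟩
      rw [hRdef]
      exact ⟨hxW, hxp⟩
    rw [hRC.inf_eq_bot] at hxR
    exact (Submodule.mem_bot F).mp hxR
  have hW'0 : W' ≠ ⊥ := by
    intro hb
    obtain ⟨ρ, hρ, c, hc, hvρc⟩ := hsplit v hvW
    rw [hb] at hc
    have hc0 : c = 0 := (Submodule.mem_bot F).mp hc
    rw [hc0, add_zero] at hvρc
    rw [hRdef] at hρ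
    have h3 := hρ.2 (S *ᵥ v) hSvW
    rw [← hvρc, bf_skew Jm hJt] at h3
    exact hvv (neg_eq_zero.mp h3)
  have hcompl : IsCompl W' (perp Jm W') := by
    have hdisj : Disjoint W' (perp Jm W') := by
      rw [Submodule.disjoint_def]
      intro x hx hx'
      exact hnd x hx (fun y hy => hx' y hy)
    refine ⟨hdisj, ?_⟩
    rw [codisjoint_iff]
    apply Submodule.eq_top_of_finrank_eq
    have h1 := Submodule.finrank_sup_add_finrank_inf_eq W' (perp Jm W')
    rw [disjoint_iff.mp hdisj, finrank_bot, add_zero] at h1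
    have h2' := finrank_perp_ge Jm W'
    have h3 := Submodule.finrank_le (W' ⊔ perp Jm W')
    have h4 : Module.finrank F (Fin N → F) = N := by simp
    omega
  have horth : ∀ w ∈ W', ∀ w' ∈ perp Jm W', bf Jm w w' = 0 := by
    intro w hw w' hw'
    rw [bf_skew Jm hJt w' w, hw' w hw, neg_zero]
  have hW'top : W' = ⊤ := by
    by_contra hne
    exact hdec (decS_of_compl Jm hJt hJ2 S W' (perp Jm W') hW'i (hperp_invt W' hW'i) hcompl horth
      hW'0 hne)
  have hWtop : W = ⊤ := by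
    rw [eq_top_iff, ← hW'top, hW'def]
    exact inf_le_left
  refine ⟨v, fun w => ?_⟩
  have hw : w ∈ W := by rw [hWtop]; exact Submodule.mem_top
  rw [hWdef] at hw
  obtain ⟨h, hh⟩ := hw
  refine ⟨h, ?_⟩
  rw [← hh, ev_apply, aeval_toLin', Matrix.toLin'_apply]

end cyclic

end Cfsg.Agent.Lib.Helper42.SpOrdA
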