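import Mathlib
import Cfsg.Agent.Lib.Helper42.SpOrdA
import Cfsg.Agent.Lib.Helper40.RecipPoly

set_option autoImplicit false

namespace Cfsg.Agent.Lib.Helper42.SpOrdB

open Polynomial Matrix
open Cfsg.Agent.Lib.Helper40.SSConj
open Cfsg.Agent.Lib.Helper42.PslOrdA
open Cfsg.Agent.Lib.Helper42.PsuOrdA Cfsg.Agent.Lib.Helper42.PsuOrdC
open Cfsg.Agent.Lib.Helper42.SpOrdA

section idem
variable {F : Type*} [Field F] {N : ℕ} (Jm : Matrix (Fin N) (Fin N) F)

/-- an idempotent commuting with an indecomposable matrix, and with its own adjoint, is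
trivial or complementary to its adjoint -/
theorem idem_cases (hJt : Jmᵀ = -Jm) (hJ2 : Jm * Jm = -1) (G : Matrix (Fin N) (Fin N) F)
    (hG : ¬ DecS Jm G)
    (ε : Matrix (Fin N) (Fin N) F) (hεG : ε * G = G * ε) (hε' : sa Jm ε * G = G * sa Jm ε)
    (hcomm : ε * sa Jm ε = sa Jm ε * ε) (hidem : ε * ε = ε) :
    ε = 0 ∨ ε = 1 ∨ sa Jm ε = 1 - ε := by
  obtain ⟨δ, hδ⟩ : ∃ δ, δ = sa Jm ε := ⟨_, rfl⟩
  rw [← hδ] at hε' hcomm ⊢
  have hδidem : δ * δ = δ := by rw [hδ, ← sa_mul Jm hJ2, hidem]
  have hδadj : sa Jm δ = ε := by rw [hδ, sa_sa Jm hJt hJ2]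
  have hs1 : (ε * δ) * (ε * δ) = ε * δ := by
    calc (ε * δ) * (ε * δ) = ε * (δ * ε) * δ := by simp only [mul_assoc]
      _ = ε * (ε * δ) * δ := by rw [hcomm]
      _ = (ε * ε) * (δ * δ) := by simp only [mul_assoc]
      _ = ε * δ := by rw [hidem, hδidem]
  have hs2 : sa Jm (ε * δ) = ε * δ := by rw [sa_mul Jm hJ2, hδadj, ← hδ]
  have hs3 : (ε * δ) * G = G * (ε * δ) := by rw [mul_assoc, hε', ← mul_assoc, hεG, mul_assoc]
  have hs : ε * δ = 0 ∨ ε * δ = 1 := by
    by_contra hcon
    push Not at hcon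
    exact hG ⟨ε * δ, hs1, hcon.1, hcon.2, hs2, hs3⟩
  rcases hs with hs | hs
  · have hδε : δ * ε = 0 := by rw [← hcomm, hs]
    have ht1 : (ε + δ) * (ε + δ) = ε + δ := by
      rw [add_mul, mul_add, mul_add, hidem, hδidem, hs, hδε, add_zero, zero_add]
    have ht2 : sa Jm (ε + δ) = ε + δ := by rw [sa_add, hδadj, ← hδ, add_comm]
    have ht3 : (ε + δ) * G = G * (ε + δ) := by rw [add_mul, mul_add, hεG, hε']
    have ht : ε + δ = 0 ∨ ε + δ = 1 := by
      by_contra hcon
      push Not at hcon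
      exact hG ⟨ε + δ, ht1, hcon.1, hcon.2, ht2, ht3⟩
    rcases ht with ht | ht
    · left
      calc ε = ε * ε + ε * δ := by rw [hidem, hs, add_zero]
        _ = ε * (ε + δ) := (mul_add _ _ _).symm
        _ = 0 := by rw [ht, mul_zero]
    · right
      right
      rw [← ht, add_sub_cancel_left]
  · right
    left
    calc ε = ε * 1 := (mul_one ε).symm
      _ = ε * (ε * δ) := by rw [hs]
      _ = (ε * ε) * δ := (mul_assoc _ _ _).symm
      _ = ε * δ := by rw [hidem]
      _ = 1 := hs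

/-- the two types of an isometry of order prime to the characteristic commuting with an
indecomposable matrix -/
theorem typeAB [Fintype F] [NeZero N] (hJt : Jmᵀ = -Jm) (hJ2 : Jm * Jm = -1)
    (G : Matrix (Fin N) (Fin N) F)
    (hG : ¬ DecS Jm G) (A : Matrix (Fin N) (Fin N) F)
    (hAG : ∀ h : F[X], aeval A h * G = G * aeval A h)
    (K : ℕ) (hK : 0 < K) (hcop : Nat.Coprime (Fintype.card F) K) (hA : A ^ K = 1)
    (hU : sa Jm A * A = 1) :
    Irreducible (minpoly F A) ∨
    ∃ (hε u : F[X]), aeval A hε * aeval A hε = aeval A hε ∧ aeval A hε ≠ 0 ∧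
      sa Jm (aeval A hε) = 1 - aeval A hε ∧ Irreducible u ∧ u.Monic ∧
      aeval A u * aeval A hε = 0 := by
  have hadj : sa Jm A = A ^ (K - 1) := inv_eq_pow A (sa Jm A) hU K hK hA
  obtain ⟨Q, hQ2, hQ⟩ := frob_fix A K hK hcop hA
  have hidem : ∀ h : F[X], aeval A h * aeval A h = aeval A h →
      aeval A h = 0 ∨ aeval A h = 1 ∨ sa Jm (aeval A h) = 1 - aeval A h := by
    intro h hh
    apply idem_cases Jm hJt hJ2 G hG _ (hAG h) _ _ hh
    · rw [sa_aeval_comp Jm hJ2 A K hadj]
      exact hAG _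
    · rw [sa_aeval_comp Jm hJ2 A K hadj]
      exact aeval_commute _ _ _
  by_cases hall : ∀ h : F[X], aeval A h * aeval A h = aeval A h → aeval A h = 0 ∨ aeval A h = 1
  · left
    exact irreducible_of_idem A Q hQ2 hQ hall
  · right
    push Not at hall
    obtain ⟨hε, hεε', hε0', hε1'⟩ := hall
    obtain ⟨ε, hεdef⟩ : ∃ ε, ε = aeval A hε := ⟨_, rfl⟩
    have hεε : ε * ε = ε := by rw [hεdef]; exact hεε'
    have hε0 : ε ≠ 0 := by rw [hεdef]; exact hε0'
    have hε1 : ε ≠ 1 := by rw [hεdef]; exact hε1'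
    have hεadj : sa Jm ε = 1 - ε := by
      rcases hidem hε hεε' with h | h | h
      · exact absurd h hε0'
      · exact absurd h hε1'
      · rw [hεdef]
        exact h
    have hcommε : ∀ g : F[X], aeval A g * ε = ε * aeval A g := fun g => by
      rw [hεdef]
      exact aeval_commute _ _ _
    have hfield : ∀ h : F[X], aeval A h * ε = 0 ∨ (aeval A h * ε) ^ (Q - 1) = ε := by
      intro h
      obtain ⟨y, hy⟩ : ∃ y, y = aeval A (h * hε) := ⟨_, rfl⟩
      have hy' : aeval A h * ε = y := by rw [hy, map_mul, hεdef]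
      rw [hy']
      have hyQ : y ^ Q = y := by rw [hy]; exact hQ _
      have hyε : y * ε = y := by rw [← hy', mul_assoc, hεε]
      have hidem' : y ^ (Q - 1) * y ^ (Q - 1) = y ^ (Q - 1) := by
        rw [← pow_add]
        have e1 : Q - 1 + (Q - 1) = Q + (Q - 2) := by omega
        rw [e1, pow_add, hyQ, ← pow_succ']
        congr 1
        omega
      have hpe : y ^ (Q - 1) * ε = y ^ (Q - 1) := by
        have e1 : Q - 1 = (Q - 2) + 1 := by omega
        rw [e1, pow_succ, mul_assoc, hyε]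
      have hpoly : y ^ (Q - 1) = aeval A ((h * hε) ^ (Q - 1)) := by rw [map_pow, ← hy]
      rcases hidem ((h * hε) ^ (Q - 1)) (by rw [← hpoly]; exact hidem') with h0 | h1 | h2
      · left
        rw [← hpoly] at h0
        calc y = y ^ Q := hyQ.symm
          _ = y * y ^ (Q - 1) := by
            rw [← pow_succ']
            congr 1
            omega
          _ = 0 := by rw [h0, mul_zero]
      · exfalso
        rw [← hpoly] at h1
        apply hε1
        rw [h1, one_mul] at hpe
        exact hpe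
      · right
        rw [← hpoly] at h2
        have h3 := congrArg (sa Jm) hpe
        rw [sa_mul Jm hJ2, h2, hεadj] at h3
        have hcm : ε * y ^ (Q - 1) = y ^ (Q - 1) * ε := by
          rw [hpoly]
          exact (hcommε _).symm
        have h4 : (1 - ε) * (1 - y ^ (Q - 1)) = 1 - ε := by
          rw [sub_mul, one_mul, mul_sub, mul_one, hcm, hpe]
          abel
        rw [h4] at h3
        exact (sub_right_inj.mp h3).symm
    obtain ⟨I, hI⟩ : ∃ I : Ideal F[X], ∀ g, g ∈ I ↔ aeval A g * ε = 0 := by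
      refine ⟨{ carrier := {g | aeval A g * ε = 0}
                add_mem' := ?_
                zero_mem' := ?_
                smul_mem' := ?_ }, fun g => Iff.rfl⟩
      · intro x y hx hy
        have hx' : aeval A x * ε = 0 := hx
        have hy' : aeval A y * ε = 0 := hy
        show aeval A (x + y) * ε = 0
        rw [map_add, add_mul, hx', hy', add_zero]
      · show aeval A 0 * ε = 0
        rw [map_zero, zero_mul]
      · intro c x hx
        have hx' : aeval A x * ε = 0 := hx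
        show aeval A (c • x) * ε = 0
        rw [smul_eq_mul, map_mul, mul_assoc, hx', mul_zero]
    have hprime : I.IsPrime := by
      rw [Ideal.isPrime_iff]
      constructor
      · rw [Ideal.ne_top_iff_one, hI, map_one, one_mul]
        exact hε0
      · intro g₁ g₂ h12
        rw [hI] at h12
        rw [hI, hI]
        rcases hfield g₁ with h0 | h1
        · left
          exact h0
        · right
          have e1 : Q - 1 = (Q - 2) + 1 := by omega
          have h3 : aeval A g₂ * ε =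
              aeval A g₂ * (aeval A g₁ * ε) * (aeval A g₁ * ε) ^ (Q - 2) := by
            rw [mul_assoc, ← pow_succ', ← e1, h1]
          have h4 : aeval A g₂ * (aeval A g₁ * ε) = 0 := by
            rw [← mul_assoc, ← map_mul, mul_comm g₂ g₁, h12]
          rw [h3, h4, zero_mul]
    have hbot : I ≠ ⊥ := by
      intro hb
      have hm : minpoly F A ∈ I := by rw [hI, minpoly.aeval, zero_mul]
      rw [hb, Ideal.mem_bot] at hm
      exact minpoly.ne_zero (Matrix.isIntegral A) hm
    have hgen := Submodule.IsPrincipal.prime_generator_of_isPrime I (is_prime := hprime) hbot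
    obtain ⟨u₀, hu₀⟩ : ∃ u₀, u₀ = Submodule.IsPrincipal.generator I := ⟨_, rfl⟩
    rw [← hu₀] at hgen
    have hu₀I : aeval A u₀ * ε = 0 := by
      rw [← hI, hu₀]
      exact Submodule.IsPrincipal.generator_mem I
    have hu₀0 : u₀ ≠ 0 := hgen.ne_zero
    refine ⟨hε, u₀ * C u₀.leadingCoeff⁻¹, hεε', hε0', ?_, ?_,
      Polynomial.monic_mul_leadingCoeff_inv hu₀0, ?_⟩
    · rw [← hεdef]
      exact hεadj
    · have hunit : IsUnit (C u₀.leadingCoeff⁻¹ : F[X]) :=
        Polynomial.isUnit_C.mpr (IsUnit.mk0 _ (inv_ne_zero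
          (Polynomial.leadingCoeff_ne_zero.mpr hu₀0)))
      exact (irreducible_mul_isUnit hunit).mpr hgen.irreducible
    · rw [← hεdef, map_mul, aeval_commute, mul_assoc, hu₀I, mul_zero]

lemma half_le (hJ2 : Jm * Jm = -1) (e : Matrix (Fin N) (Fin N) F)
    (he : e * e = e) (hadj : sa Jm e = 1 - e) :
    N ≤ 2 * Module.finrank F (LinearMap.range (Matrix.toLin' e)) := by
  obtain ⟨W, hW⟩ : ∃ W, W = LinearMap.range (Matrix.toLin' e) := ⟨_, rfl⟩
  obtain ⟨W'', hW''⟩ : ∃ W'', W'' = LinearMap.range (Matrix.toLin' (1 - e)) := ⟨_, rfl⟩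
  rw [← hW]
  have hff : (1 - e) * (1 - e) = 1 - e := by
    rw [mul_sub, mul_one, sub_mul, one_mul, he, sub_self, sub_zero]
  have hef : e * (1 - e) = 0 := by rw [mul_sub, mul_one, he, sub_self]
  have hadjf : sa Jm (1 - e) = e := by rw [sa_sub, sa_one Jm hJ2, hadj, sub_sub_cancel]
  have h1 := finrank_perp_ge Jm W
  have hdisj : perp Jm W ⊓ W'' = ⊥ := by
    rw [eq_bot_iff]
    intro u hu
    rw [Submodule.mem_bot]
    obtain ⟨hu1, hu2⟩ := Submodule.mem_inf.mp hu
    rw [hW''] at hu2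
    obtain ⟨y, rfl⟩ := LinearMap.mem_range.mp hu2
    rw [Matrix.toLin'_apply] at hu1 ⊢
    apply eq_zero_of_bf_left Jm hJ2
    intro z
    have hz : z = e *ᵥ z + (1 - e) *ᵥ z := by
      rw [← Matrix.add_mulVec, add_sub_cancel, Matrix.one_mulVec]
    have h2 : bf Jm ((1 - e) *ᵥ y) (e *ᵥ z) = 0 :=
      hu1 (e *ᵥ z) (by rw [hW]; exact ⟨z, by rw [Matrix.toLin'_apply]⟩)
    have h3 : bf Jm ((1 - e) *ᵥ y) ((1 - e) *ᵥ z) = 0 := by
      rw [bf_mulVec Jm hJ2, hadjf, Matrix.mulVec_mulVec, hef, Matrix.zero_mulVec,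
        bf_zero_right]
    rw [hz, bf_add_right, h2, h3, add_zero]
  have h2 : Module.finrank F (perp Jm W) + Module.finrank F W'' ≤ N := by
    have h3 := Submodule.finrank_sup_add_finrank_inf_eq (perp Jm W) W''
    rw [hdisj, finrank_bot, add_zero] at h3
    have h4 := Submodule.finrank_le (perp Jm W ⊔ W'')
    have h5 : Module.finrank F (Fin N → F) = N := by simp
    omega
  have h3 : N ≤ Module.finrank F W + Module.finrank F W'' := by
    have htop : W ⊔ W'' = ⊤ := by
      rw [eq_top_iff]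
      intro x _
      rw [Submodule.mem_sup]
      refine ⟨e *ᵥ x, ?_, (1 - e) *ᵥ x, ?_, ?_⟩
      · rw [hW]
        exact ⟨x, by rw [Matrix.toLin'_apply]⟩
      · rw [hW'']
        exact ⟨x, by rw [Matrix.toLin'_apply]⟩
      · rw [← Matrix.add_mulVec, add_sub_cancel, Matrix.one_mulVec]
    have h4 := Submodule.finrank_add_le_finrank_add_finrank W W''
    rw [htop, finrank_top] at h4
    have h5 : Module.finrank F (Fin N → F) = N := by simp
    omega
  omega

/-- an idempotent whose adjoint is the complementary idempotent has rank `N / 2` -/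
theorem rank_half (hJ2 : Jm * Jm = -1) (e : Matrix (Fin N) (Fin N) F)
    (he : e * e = e) (hadj : sa Jm e = 1 - e) :
    N = 2 * Module.finrank F (LinearMap.range (Matrix.toLin' e)) := by
  have h1 := half_le Jm hJ2 e he hadj
  have he' : (1 - e) * (1 - e) = 1 - e := by
    rw [mul_sub, mul_one, sub_mul, one_mul, he, sub_self, sub_zero]
  have hadj' : sa Jm (1 - e) = 1 - (1 - e) := by rw [sa_sub, sa_one Jm hJ2, hadj]
  have h2 := half_le Jm hJ2 (1 - e) he' hadj'
  have h3 : Module.finrank F (LinearMap.range (Matrix.toLin' e)) +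
      Module.finrank F (LinearMap.range (Matrix.toLin' (1 - e))) ≤ N := by
    have hdisj : LinearMap.range (Matrix.toLin' e) ⊓ LinearMap.range (Matrix.toLin' (1 - e)) =
        ⊥ := by
      rw [eq_bot_iff]
      intro x hx
      rw [Submodule.mem_bot]
      obtain ⟨hx1, hx2⟩ := Submodule.mem_inf.mp hx
      obtain ⟨y, rfl⟩ := LinearMap.mem_range.mp hx1
      obtain ⟨z, hz⟩ := LinearMap.mem_range.mp hx2
      rw [Matrix.toLin'_apply] at hz ⊢
      rw [Matrix.toLin'_apply] at hz
      have h4 : e *ᵥ y = e *ᵥ (e *ᵥ y) := by rw [Matrix.mulVec_mulVec, he]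
      rw [h4, ← hz, Matrix.mulVec_mulVec, mul_sub, mul_one, he, sub_self, Matrix.zero_mulVec]
    have h4 := Submodule.finrank_sup_add_finrank_inf_eq (LinearMap.range (Matrix.toLin' e))
      (LinearMap.range (Matrix.toLin' (1 - e)))
    rw [hdisj, finrank_bot, add_zero] at h4
    have h5 := Submodule.finrank_le (LinearMap.range (Matrix.toLin' e) ⊔
      LinearMap.range (Matrix.toLin' (1 - e)))
    have h6 : Module.finrank F (Fin N → F) = N := by simp
    omega
  omega

end idem

section finite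
variable {F : Type*} [Field F] [Fintype F] {N : ℕ} (Jm : Matrix (Fin N) (Fin N) F)

/-- a finite field with `q ^ d` elements all fixed by `y ↦ y ^ (q ^ t)`, `t ≥ 1`, has
`d ≤ t` -/
lemma card_le_of_frob (q : ℕ) (hq : 1 < q) (E : Type*) [Field E] [Fintype E] (d t : ℕ)
    (ht : 1 ≤ t) (hcard : Fintype.card E = q ^ d) (h : ∀ y : E, y ^ (q ^ t) = y) : d ≤ t := by
  by_contra hlt
  push Not at hlt
  have hQ : 1 < q ^ t := Nat.one_lt_pow (by omega) hq
  have hne := FiniteField.X_pow_card_sub_X_ne_zero E hQ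
  apply hne
  apply Polynomial.eq_zero_of_natDegree_lt_card_of_eval_eq_zero' _ Finset.univ
  · intro y _
    rw [eval_sub, eval_pow, eval_X, h y, sub_self]
  · rw [Finset.card_univ, hcard, FiniteField.X_pow_card_sub_X_natDegree_eq E hQ]
    exact Nat.pow_lt_pow_right hq hlt

lemma card_adjoinRoot (f : F[X]) (hf : Irreducible f) :
    Finite (AdjoinRoot f) ∧ Nat.card (AdjoinRoot f) = Fintype.card F ^ f.natDegree := by
  have hfact : Fact (Irreducible f) := ⟨hf⟩
  have hfin : Module.Finite F (AdjoinRoot f) := (AdjoinRoot.powerBasis hf.ne_zero).finite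
  refine ⟨Module.finite_of_finite F, ?_⟩
  rw [Module.natCard_eq_pow_finrank (K := F), (AdjoinRoot.powerBasis hf.ne_zero).finrank,
    AdjoinRoot.powerBasis_dim, Nat.card_eq_fintype_card]

/-- the order of an isometry with irreducible minimal polynomial of degree `2 i` divides
`q ^ i + 1` -/
theorem orderA (hJ2 : Jm * Jm = -1) (A : Matrix (Fin N) (Fin N) F)
    (hirr : Irreducible (minpoly F A)) (K : ℕ) (hK : 0 < K) (hA : A ^ K = 1)
    (hU : sa Jm A * A = 1) (hA2 : A * A ≠ 1) :
    ∃ i, 1 ≤ i ∧ 2 * i = (minpoly F A).natDegree ∧ A ^ (Fintype.card F ^ i + 1) = 1 := by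
  obtain ⟨f, hf⟩ : ∃ f, f = minpoly F A := ⟨_, rfl⟩
  rw [← hf] at hirr ⊢
  have hfact : Fact (Irreducible f) := ⟨hirr⟩
  obtain ⟨hfin, hcard⟩ := card_adjoinRoot f hirr
  have hft : Fintype (AdjoinRoot f) := Fintype.ofFinite _
  have hcard' : Fintype.card (AdjoinRoot f) = Fintype.card F ^ f.natDegree := by
    rw [← Nat.card_eq_fintype_card]
    exact hcard
  obtain ⟨x, hx⟩ : ∃ x, x = AdjoinRoot.root f := ⟨_, rfl⟩
  have hq : 1 < Fintype.card F := Fintype.one_lt_card
  have hd : 0 < f.natDegree := hirr.natDegree_pos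
  have key : ∀ g : F[X], aeval A g = 0 ↔ aeval x g = 0 := by
    intro g
    rw [hx, AdjoinRoot.aeval_eq, AdjoinRoot.mk_eq_zero, hf]
    exact minpoly.dvd_iff.symm
  have hadj : sa Jm A = A ^ (K - 1) := inv_eq_pow A (sa Jm A) hU K hK hA
  have h1 : aeval A (f.comp (X ^ (K - 1))) = 0 := by
    rw [← sa_aeval_comp Jm hJ2 A K hadj, hf, minpoly.aeval, sa_zero]
  have h2 : aeval (x ^ (K - 1)) f = 0 := by
    have := (key _).mp h1
    rwa [aeval_comp, map_pow, aeval_X] at this
  rw [hx] at h2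
  obtain ⟨k, hk⟩ := Cfsg.Agent.Lib.Helper40.RecipPoly.root_eq_pow f _ h2
  rw [← hx] at hk
  have hxK : x ^ K = 1 := by
    have h3 : aeval A (X ^ K - 1 : F[X]) = 0 := by
      rw [map_sub, map_pow, aeval_X, map_one, hA, sub_self]
    have := (key _).mp h3
    rwa [map_sub, map_pow, aeval_X, map_one, sub_eq_zero] at this
  have hfrobd : ∀ (s : ℕ) (y : AdjoinRoot f), y ^ (Fintype.card F ^ (f.natDegree * s)) = y := by
    intro s
    induction s with
    | zero =>
      intro y
      simp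
    | succ s ih =>
      intro y
      rw [Nat.mul_succ, pow_add, pow_mul, ih, ← hcard']
      exact FiniteField.pow_card y
  have hfrobx : ∀ (j : ℕ) (h : F[X]), (aeval x h) ^ (Fintype.card F ^ j) =
      aeval (x ^ (Fintype.card F ^ j)) h := by
    intro j h
    rw [← map_pow, pow_card_pow_poly, Polynomial.expand_aeval]
  have hsurj : ∀ y : AdjoinRoot f, ∃ h : F[X], y = aeval x h := by
    intro y
    obtain ⟨h, rfl⟩ := AdjoinRoot.mk_surjective y
    exact ⟨h, by rw [hx, AdjoinRoot.aeval_eq]⟩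
  obtain ⟨i, hi⟩ : ∃ i, i = k % f.natDegree := ⟨_, rfl⟩
  have hilt : i < f.natDegree := by
    rw [hi]
    exact Nat.mod_lt _ hd
  have hki : x ^ (K - 1) = x ^ (Fintype.card F ^ i) := by
    rw [hk]
    have e : k = f.natDegree * (k / f.natDegree) + i := by
      rw [hi]
      exact (Nat.div_add_mod k f.natDegree).symm
    conv_lhs => rw [e, pow_add, pow_mul, hfrobd]
  have hxi : x ^ (Fintype.card F ^ i + 1) = 1 := by
    rw [pow_succ, ← hki, ← pow_succ, Nat.sub_add_cancel hK, hxK]
  have toA : ∀ j : ℕ, x ^ j = 1 → A ^ j = 1 := by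
    intro j hj
    have h3 : aeval x (X ^ j - 1 : F[X]) = 0 := by
      rw [map_sub, map_pow, aeval_X, map_one, hj, sub_self]
    have := (key _).mpr h3
    rwa [map_sub, map_pow, aeval_X, map_one, sub_eq_zero] at this
  have hi1 : 1 ≤ i := by
    by_contra h0
    have hi0 : i = 0 := by omega
    rw [hi0, pow_zero] at hxi
    apply hA2
    have := toA 2 hxi
    rwa [pow_two] at this
  have hxinv : x ^ (Fintype.card F ^ i) * x = 1 := by
    rw [← pow_succ]
    exact hxi
  have hx2i : x ^ (Fintype.card F ^ (i + i)) = x := by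
    have h3 : (x ^ (Fintype.card F ^ i)) ^ (Fintype.card F ^ i) * x ^ (Fintype.card F ^ i) = 1 := by
      rw [← mul_pow, hxinv, one_pow]
    calc x ^ (Fintype.card F ^ (i + i)) = (x ^ (Fintype.card F ^ i)) ^ (Fintype.card F ^ i) := by
          rw [pow_add, pow_mul]
      _ = (x ^ (Fintype.card F ^ i)) ^ (Fintype.card F ^ i) * (x ^ (Fintype.card F ^ i) * x) := by
          rw [hxinv, mul_one]
      _ = x := by rw [← mul_assoc, h3, one_mul]
  have hall : ∀ y : AdjoinRoot f, y ^ (Fintype.card F ^ (i + i)) = y := by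
    intro y
    obtain ⟨h, rfl⟩ := hsurj y
    rw [hfrobx, hx2i]
  have hdle : f.natDegree ≤ i + i :=
    card_le_of_frob (Fintype.card F) hq (AdjoinRoot f) f.natDegree (i + i) (by omega) hcard' hall
  have h2i : i + i = f.natDegree := by
    by_contra hne
    have hlt : f.natDegree < i + i := lt_of_le_of_ne hdle (Ne.symm hne)
    obtain ⟨t, ht⟩ : ∃ t, i + i = f.natDegree * 1 + t := ⟨i + i - f.natDegree, by omega⟩
    have hall' : ∀ y : AdjoinRoot f, y ^ (Fintype.card F ^ t) = y := by
      intro y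
      have h3 := hall y
      rwa [ht, pow_add, pow_mul, hfrobd] at h3
    have := card_le_of_frob (Fintype.card F) hq (AdjoinRoot f) f.natDegree t (by omega) hcard'
      hall'
    omega
  exact ⟨i, hi1, by omega, toA _ hxi⟩

/-- the order of an isometry of the second type divides `q ^ w - 1`, with `w` the degree of
the irreducible polynomial on the image of the idempotent -/
theorem orderB (hJ2 : Jm * Jm = -1) (A ε : Matrix (Fin N) (Fin N) F)
    (hU : sa Jm A * A = 1) (hε0 : ε ≠ 0) (hc : ε * A = A * ε) (hadj : sa Jm ε = 1 - ε)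
    (u : F[X]) (hirr : Irreducible u) (hu : aeval A u * ε = 0) :
    A ^ (Fintype.card F ^ u.natDegree - 1) = 1 := by
  have hfact : Fact (Irreducible u) := ⟨hirr⟩
  obtain ⟨hfin, hcard⟩ := card_adjoinRoot u hirr
  have hft : Fintype (AdjoinRoot u) := Fintype.ofFinite _
  have hcard' : Fintype.card (AdjoinRoot u) = Fintype.card F ^ u.natDegree := by
    rw [← Nat.card_eq_fintype_card]
    exact hcard
  obtain ⟨j, hj⟩ : ∃ j, j = Fintype.card F ^ u.natDegree - 1 := ⟨_, rfl⟩
  rw [← hj]
  have hx0 : AdjoinRoot.root u ≠ 0 := by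
    intro h0
    have h1 : u ∣ X := by
      rw [← AdjoinRoot.mk_eq_zero, AdjoinRoot.mk_X]
      exact h0
    obtain ⟨w, hw⟩ := h1
    have h2 : aeval A (X : F[X]) * ε = 0 := by
      rw [hw, map_mul, aeval_commute, mul_assoc, hu, mul_zero]
    rw [aeval_X] at h2
    apply hε0
    calc ε = sa Jm A * (A * ε) := by rw [← mul_assoc, hU, one_mul]
      _ = 0 := by rw [h2, mul_zero]
  have hxj : (AdjoinRoot.root u) ^ j = 1 := by
    rw [hj, ← hcard']
    exact FiniteField.pow_card_sub_one_eq_one _ hx0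
  have hdvd : u ∣ X ^ j - 1 := by
    rw [← AdjoinRoot.mk_eq_zero, map_sub, map_pow, AdjoinRoot.mk_X, map_one, hxj, sub_self]
  have h1 : A ^ j * ε = ε := by
    obtain ⟨w, hw⟩ := hdvd
    have h0 : aeval A (X ^ j - 1 : F[X]) * ε = 0 := by
      rw [hw, map_mul, aeval_commute, mul_assoc, hu, mul_zero]
    rw [map_sub, map_pow, aeval_X, map_one, sub_mul, one_mul, sub_eq_zero] at h0
    exact h0
  have h2 : (1 - ε) * sa Jm (A ^ j) = 1 - ε := by
    have := congrArg (sa Jm) h1
    rwa [sa_mul Jm hJ2, hadj] at this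
  have h3 : (1 - ε) * A ^ j = 1 - ε := by
    have h4 : (1 - ε) * sa Jm (A ^ j) * A ^ j = (1 - ε) * A ^ j := by rw [h2]
    rw [mul_assoc, isom_pow Jm hJ2 A hU j, mul_one] at h4
    exact h4.symm
  have h5 : ε * A ^ j = A ^ j * ε := (Commute.pow_right (show Commute ε A from hc) j).eq
  calc A ^ j = ε * A ^ j + (1 - ε) * A ^ j := by rw [← add_mul, add_sub_cancel, one_mul]
    _ = ε + (1 - ε) := by rw [h5, h1, h3]
    _ = 1 := by rw [add_sub_cancel]

end finite

section chain
variable {F : Type*} [Field F] {N : ℕ}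

/-- a nilpotent matrix commuting with a matrix killed by an irreducible polynomial `u` on the
image of an idempotent: the rank of the idempotent is at least the nilpotency index times the
degree of `u` -/
theorem chain_bound (S Nn e : Matrix (Fin N) (Fin N) F) (he : e * e = e)
    (hSe : e * S = S * e) (hNe : e * Nn = Nn * e) (hSN : S * Nn = Nn * S)
    (u : F[X]) (hirr : Irreducible u) (hmon : u.Monic) (hu : aeval S u * e = 0) (m k : ℕ)
    (hm : Nn ^ m * e ≠ 0) (hk : Nn ^ k = 0) :
    (m + 1) * u.natDegree ≤ Module.finrank F (LinearMap.range (Matrix.toLin' e)) := by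
  obtain ⟨Kr, hKr⟩ : ∃ Kr : ℕ → Submodule F (Fin N → F), ∀ j, Kr j =
      LinearMap.ker (Matrix.toLin' (Nn ^ j)) ⊓ LinearMap.range (Matrix.toLin' e) :=
    ⟨fun j => LinearMap.ker (Matrix.toLin' (Nn ^ j)) ⊓ LinearMap.range (Matrix.toLin' e),
      fun j => rfl⟩
  have hmem : ∀ j x, x ∈ Kr j ↔ (Nn ^ j) *ᵥ x = 0 ∧ e *ᵥ x = x := by
    intro j x
    rw [hKr, Submodule.mem_inf, LinearMap.mem_ker, Matrix.toLin'_apply, LinearMap.mem_range]
    constructor
    · rintro ⟨h1, y, hy⟩
      refine ⟨h1, ?_⟩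
      rw [← hy, Matrix.toLin'_apply, Matrix.mulVec_mulVec, he]
    · rintro ⟨h1, h2⟩
      exact ⟨h1, x, by rw [Matrix.toLin'_apply, h2]⟩
  have hmono : ∀ j, Kr j ≤ Kr (j + 1) := by
    intro j x hx
    rw [hmem] at hx ⊢
    refine ⟨?_, hx.2⟩
    rw [pow_succ', ← Matrix.mulVec_mulVec, hx.1, Matrix.mulVec_zero]
  have hSNj : ∀ j, S * Nn ^ j = Nn ^ j * S := fun j =>
    (Commute.pow_right (show Commute S Nn from hSN) j).eq
  have hinv : ∀ j, ∀ x ∈ Kr j, Matrix.toLin' S x ∈ Kr j := by
    intro j x hx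
    rw [hmem] at hx ⊢
    rw [Matrix.toLin'_apply]
    constructor
    · rw [Matrix.mulVec_mulVec, ← hSNj, ← Matrix.mulVec_mulVec, hx.1, Matrix.mulVec_zero]
    · rw [Matrix.mulVec_mulVec, hSe, ← Matrix.mulVec_mulVec, hx.2]
  have hdvd : ∀ j, u.natDegree ∣ Module.finrank F (Kr j) := by
    intro j
    apply natDegree_dvd_finrank ((Matrix.toLin' S).restrict (hinv j)) u hirr hmon
    apply LinearMap.ext
    intro x
    apply Subtype.ext
    have hx := (hmem j x).mp x.2
    rw [aeval_restrict_apply, LinearMap.zero_apply, Submodule.coe_zero, aeval_toLin',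
      Matrix.toLin'_apply, ← hx.2, Matrix.mulVec_mulVec, hu, Matrix.zero_mulVec]
  have hstep : ∀ j, Kr j = Kr (j + 1) → Kr (j + 1) = Kr (j + 2) := by
    intro j hj
    apply le_antisymm (hmono (j + 1))
    intro x hx
    have hx' := (hmem _ x).mp hx
    have hNx : Nn *ᵥ x ∈ Kr (j + 1) := by
      rw [hmem]
      constructor
      · rw [Matrix.mulVec_mulVec, ← pow_succ]
        exact hx'.1
      · rw [Matrix.mulVec_mulVec, hNe, ← Matrix.mulVec_mulVec, hx'.2]
    rw [← hj] at hNx
    have h3 := ((hmem _ _).mp hNx).1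
    rw [hmem]
    refine ⟨?_, hx'.2⟩
    rw [pow_succ, ← Matrix.mulVec_mulVec]
    exact h3
  have hstab : ∀ j, Kr j = Kr (j + 1) → ∀ t, Kr (j + t) = Kr j := by
    intro j hj t
    have hall : ∀ t, Kr (j + t) = Kr (j + t + 1) := by
      intro t
      induction t with
      | zero => exact hj
      | succ t ih => exact hstep (j + t) ih
    induction t with
    | zero => rfl
    | succ t ih =>
      rw [← ih]
      exact (hall t).symm
  have hstrict : ∀ j, j ≤ m → Kr j ≠ Kr (j + 1) := by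
    intro j hjm hj
    have h1 := hstab j hj k
    apply hm
    have h2 : ∀ y : Fin N → F, e *ᵥ y ∈ Kr (j + k) := by
      intro y
      rw [hmem]
      constructor
      · rw [pow_add, hk, mul_zero, Matrix.zero_mulVec]
      · rw [Matrix.mulVec_mulVec, he]
    have h3 : Nn ^ j * e = 0 := by
      apply Matrix.toLin'.injective
      apply LinearMap.ext
      intro y
      have h4 := h2 y
      rw [h1, hmem] at h4
      rw [Matrix.toLin'_apply, ← Matrix.mulVec_mulVec, h4.1, map_zero]
      rfl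
    obtain ⟨t, rfl⟩ := Nat.exists_eq_add_of_le hjm
    rw [add_comm, pow_add, mul_assoc, h3, mul_zero]
  have hmain : ∀ j, j ≤ m + 1 → j * u.natDegree ≤ Module.finrank F (Kr j) := by
    intro j
    induction j with
    | zero =>
      intro _
      rw [zero_mul]
      exact Nat.zero_le _
    | succ j ih =>
      intro hj
      have h1 := ih (by omega)
      have hlt : Kr j < Kr (j + 1) := lt_of_le_of_ne (hmono j) (hstrict j (by omega))
      have h2 := Submodule.finrank_lt_finrank_of_lt hlt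
      have h3 : u.natDegree ≤ Module.finrank F (Kr (j + 1)) - Module.finrank F (Kr j) :=
        Nat.le_of_dvd (Nat.sub_pos_of_lt h2) (Nat.dvd_sub (hdvd (j + 1)) (hdvd j))
      rw [Nat.succ_mul]
      omega
  have h1 := hmain (m + 1) le_rfl
  have h2 : Module.finrank F (Kr (m + 1)) ≤
      Module.finrank F (LinearMap.range (Matrix.toLin' e)) := by
    apply Submodule.finrank_mono
    rw [hKr]
    exact inf_le_right
  omega

end chain

section num
variable {F : Type*} [Field F] [Fintype F] {n : ℕ} (p : ℕ) [hp : Fact p.Prime] [CharP F p]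
  (Jm : Matrix (Fin (n + n)) (Fin (n + n)) F)

/-- an indecomposable isometry of order prime to `p` which is not an involution has order
dividing `q ^ n + 1` or `q ^ n - 1` -/
theorem torus_dvd (hJt : Jmᵀ = -Jm) (hJ2 : Jm * Jm = -1) (hn : 0 < n)
    (G : Matrix (Fin (n + n)) (Fin (n + n)) F) (hU : sa Jm G * G = 1) (hdec : ¬ DecS Jm G)
    (K : ℕ) (hK : 0 < K) (hpK : ¬ p ∣ K) (hGK : G ^ K = 1) (hG2 : G * G ≠ 1) :
    G ^ (Fintype.card F ^ n + 1) = 1 ∨ G ^ (Fintype.card F ^ n - 1) = 1 := by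
  have hne : NeZero (n + n) := ⟨by omega⟩
  have hcop := Cfsg.Agent.Lib.Helper42.PslOrdB.card_coprime (F := F) p K hpK
  have hss := isSemisimple_toLin' G K ((CharP.cast_eq_zero_iff F p K).not.mpr hpK) hGK
  obtain ⟨v, hv⟩ := exists_cyclic Jm hJt hJ2 G hU K hK hGK hss hdec hG2
  rcases typeAB Jm hJt hJ2 G hdec G (fun h => Cfsg.Agent.Lib.Helper42.PslOrdB.aeval_comm G h)
    K hK hcop hGK hU with hirr | ⟨hε, u, hidem, he0, hadje, hirru, hmonu, hu⟩
  · left
    have hdeg : (minpoly F G).natDegree = n + n := by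
      have h3 := natDegree_eq_finrank_of_cyclic G v hv 1 (minpoly F G)
        (by rw [map_one]; exact one_ne_zero) hirr (by rw [minpoly.aeval, zero_mul])
      rw [h3, map_one, Matrix.toLin'_one, LinearMap.range_id, finrank_top]
      simp
    obtain ⟨i, hi1, hi2, hi3⟩ := orderA Jm hJ2 G hirr K hK hGK hU hG2
    have hin : i = n := by omega
    rw [hin] at hi3
    exact hi3
  · right
    have hr := rank_half Jm hJ2 _ hidem hadje
    have hdeg := natDegree_eq_finrank_of_cyclic G v hv hε u he0 hirru hu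
    have hun : u.natDegree = n := by omega
    have h3 := orderB Jm hJ2 G (aeval G hε) hU he0
      (Cfsg.Agent.Lib.Helper42.PslOrdB.aeval_comm G hε) hadje u hirru hu
    rw [hun] at h3
    exact h3

/-- the part of order prime to `p` of an indecomposable isometry with non-trivial unipotent
part has order dividing `q ^ w ± 1` with `w` small -/
theorem ppart_bound (hJt : Jmᵀ = -Jm) (hJ2 : Jm * Jm = -1) (hn : 0 < n)
    (G : Matrix (Fin (n + n)) (Fin (n + n)) F) (hU : sa Jm G * G = 1) (hdec : ¬ DecS Jm G)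
    (c K : ℕ) (hK : 0 < K) (hpK : ¬ p ∣ K) (hS : (G ^ p ^ c) ^ K = 1)
    (hS2 : G ^ p ^ c * G ^ p ^ c ≠ 1) (m k : ℕ) (hm1 : 1 ≤ m) (hm : (G ^ K - 1) ^ m ≠ 0)
    (hk : (G ^ K - 1) ^ k = 0) :
    ∃ w, 1 ≤ w ∧ ((G ^ p ^ c) ^ (Fintype.card F ^ w + 1) = 1 ∨
      (G ^ p ^ c) ^ (Fintype.card F ^ w - 1) = 1) ∧ 2 * w + m + 1 ≤ n + n := by
  have hne : NeZero (n + n) := ⟨by omega⟩
  have hcop := Cfsg.Agent.Lib.Helper42.PslOrdB.card_coprime (F := F) p K hpK
  obtain ⟨S, hSdef⟩ : ∃ S, S = G ^ p ^ c := ⟨_, rfl⟩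
  obtain ⟨Nn, hNdef⟩ : ∃ Nn, Nn = G ^ K - 1 := ⟨_, rfl⟩
  rw [← hSdef] at hS hS2 ⊢
  rw [← hNdef] at hm hk
  have hUS : sa Jm S * S = 1 := by
    rw [hSdef]
    exact isom_pow Jm hJ2 G hU _
  have hSG : ∀ h : F[X], aeval S h * G = G * aeval S h := by
    intro h
    rw [hSdef]
    exact aeval_pow_comm G _ h
  have hSpoly : ∀ h : F[X], aeval S h = aeval G (h.comp (X ^ p ^ c)) := by
    intro h
    rw [hSdef, aeval_comp, map_pow, aeval_X]
  have hNpoly : Nn = aeval G (X ^ K - 1 : F[X]) := by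
    rw [hNdef, map_sub, map_pow, aeval_X, map_one]
  have hSN : S * Nn = Nn * S := by
    have h1 : S = aeval G (X ^ p ^ c : F[X]) := by rw [hSdef, map_pow, aeval_X]
    rw [h1, hNpoly]
    exact aeval_commute _ _ _
  rcases typeAB Jm hJt hJ2 G hdec S hSG K hK hcop hS hUS with
    hirr | ⟨hε, u, hidem, he0, hadje, hirru, hmonu, hu⟩
  · obtain ⟨i, hi1, hi2, hi3⟩ := orderA Jm hJ2 S hirr K hK hS hUS hS2
    refine ⟨i, hi1, Or.inl hi3, ?_⟩
    have hch := chain_bound S Nn 1 (one_mul 1) (by rw [one_mul, mul_one])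
      (by rw [one_mul, mul_one]) hSN (minpoly F S) hirr (minpoly.monic (Matrix.isIntegral S))
      (by rw [minpoly.aeval, zero_mul]) m k (by rw [mul_one]; exact hm) hk
    have hfr : Module.finrank F (LinearMap.range (Matrix.toLin' (1 : Matrix (Fin (n + n))
        (Fin (n + n)) F))) = n + n := by
      rw [Matrix.toLin'_one, LinearMap.range_id, finrank_top]
      simp
    rw [hfr, ← hi2, Nat.succ_mul] at hch
    have h3 : m * 2 ≤ m * (2 * i) := Nat.mul_le_mul_left m (by omega)
    omega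
  · obtain ⟨ε, hεdef⟩ : ∃ ε, ε = aeval S hε := ⟨_, rfl⟩
    rw [← hεdef] at hidem he0 hadje hu
    have hεS : ε * S = S * ε := by
      rw [hεdef]
      exact Cfsg.Agent.Lib.Helper42.PslOrdB.aeval_comm S hε
    have hεN : ε * Nn = Nn * ε := by
      rw [hεdef, hSpoly, hNpoly]
      exact aeval_commute _ _ _
    have hεNm : ε * Nn ^ m = Nn ^ m * ε := (Commute.pow_right (show Commute ε Nn from hεN) m).eq
    have h3 := orderB Jm hJ2 S ε hUS he0 hεS hadje u hirru hu
    refine ⟨u.natDegree, hirru.natDegree_pos, Or.inr h3, ?_⟩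
    have hNε : Nn ^ m * ε ≠ 0 := by
      intro h0
      apply hm
      obtain ⟨T, hTdef⟩ : ∃ T, T = G ^ K := ⟨_, rfl⟩
      have hT'T : sa Jm T * T = 1 := by
        rw [hTdef]
        exact isom_pow Jm hJ2 G hU K
      have hTT' : T * sa Jm T = 1 := mul_eq_one_comm.mp hT'T
      have hsaN : sa Jm Nn = sa Jm T - 1 := by rw [hNdef, sa_sub, sa_one Jm hJ2, hTdef]
      have h4 : (1 - ε) * (sa Jm T - 1) ^ m = 0 := by
        have := congrArg (sa Jm) h0
        rwa [sa_mul Jm hJ2, sa_pow Jm hJ2, hsaN, hadje, sa_zero] at this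
      have hcm : Commute (sa Jm T - 1) T := by
        show (sa Jm T - 1) * T = T * (sa Jm T - 1)
        rw [sub_mul, mul_sub, hT'T, hTT', one_mul, mul_one]
      have h5 : (sa Jm T - 1) * T = -Nn := by
        rw [sub_mul, hT'T, one_mul, hNdef, hTdef, neg_sub]
      have h6 : (1 - ε) * (-Nn) ^ m = 0 := by
        rw [← h5, hcm.mul_pow, ← mul_assoc, h4, zero_mul]
      have h7 : (1 - ε) * Nn ^ m = 0 := by
        rcases Nat.even_or_odd m with hev | hodd
        · rwa [hev.neg_pow] at h6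
        · rw [hodd.neg_pow, mul_neg, neg_eq_zero] at h6
          exact h6
      calc Nn ^ m = ε * Nn ^ m + (1 - ε) * Nn ^ m := by rw [← add_mul, add_sub_cancel, one_mul]
        _ = 0 := by rw [hεNm, h0, h7, add_zero]
    have hch := chain_bound S Nn ε hidem hεS hεN hSN u hirru hmonu hu m k hNε hk
    have hr := rank_half Jm hJ2 ε hidem hadje
    have hw := hirru.natDegree_pos
    rw [Nat.succ_mul] at hch
    have h4 : m * 1 ≤ m * u.natDegree := Nat.mul_le_mul_left m hw
    omega

end num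

end Cfsg.Agent.Lib.Helper42.SpOrdB
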