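import Mathlib
import Cfsg.Agent.Lib.Helper42.PslOrdA
import Cfsg.Agent.Lib.Helper40.SpReal
import Cfsg.Agent.Lib.Helper40.RecipPoly
import Cfsg.Agent.S2582

set_option autoImplicit false

namespace Cfsg.Agent.Lib.Helper42.SpOrdC

open Polynomial Matrix

section blk
variable {F : Type*} [Field F] {a b : ℕ}

/-- index equivalence for the orthogonal sum of two symplectic spaces -/
def eI (a b : ℕ) : (Fin a ⊕ Fin a) ⊕ (Fin b ⊕ Fin b) ≃ Fin (a + b) ⊕ Fin (a + b) :=
  (Equiv.sumSumSumComm (Fin a) (Fin a) (Fin b) (Fin b)).trans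
    (Equiv.sumCongr finSumFinEquiv finSumFinEquiv)

theorem J_sub : (Matrix.J (Fin (a + b)) F).submatrix (eI a b) (eI a b) =
    Matrix.fromBlocks (Matrix.J (Fin a) F) 0 0 (Matrix.J (Fin b) F) := by
  ext (x | x) (y | y) <;> rcases x with i | i <;> rcases y with j | j <;>
    simp [eI, Matrix.J, Matrix.one_apply, Fin.ext_iff] <;> omega

/-- the block diagonal embedding of two symplectic matrices -/
def blk (A : Matrix (Fin a ⊕ Fin a) (Fin a ⊕ Fin a) F)
    (B : Matrix (Fin b ⊕ Fin b) (Fin b ⊕ Fin b) F) :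
    Matrix (Fin (a + b) ⊕ Fin (a + b)) (Fin (a + b) ⊕ Fin (a + b)) F :=
  (Matrix.fromBlocks A 0 0 B).submatrix (eI a b).symm (eI a b).symm

lemma blk_mul (A A' : Matrix (Fin a ⊕ Fin a) (Fin a ⊕ Fin a) F)
    (B B' : Matrix (Fin b ⊕ Fin b) (Fin b ⊕ Fin b) F) :
    blk A B * blk A' B' = blk (A * A') (B * B') := by
  unfold blk
  rw [Matrix.submatrix_mul_equiv, Matrix.fromBlocks_multiply]
  simp

lemma blk_one : blk (1 : Matrix (Fin a ⊕ Fin a) (Fin a ⊕ Fin a) F)
    (1 : Matrix (Fin b ⊕ Fin b) (Fin b ⊕ Fin b) F) = 1 := by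
  unfold blk
  rw [Matrix.fromBlocks_one, Matrix.submatrix_one_equiv]

lemma blk_pow (A : Matrix (Fin a ⊕ Fin a) (Fin a ⊕ Fin a) F)
    (B : Matrix (Fin b ⊕ Fin b) (Fin b ⊕ Fin b) F) (j : ℕ) :
    blk A B ^ j = blk (A ^ j) (B ^ j) := by
  induction j with
  | zero => rw [pow_zero, pow_zero, pow_zero, blk_one]
  | succ j ih => rw [pow_succ, pow_succ, pow_succ, ih, blk_mul]

lemma blk_smul (c : F) (A : Matrix (Fin a ⊕ Fin a) (Fin a ⊕ Fin a) F)
    (B : Matrix (Fin b ⊕ Fin b) (Fin b ⊕ Fin b) F) :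
    blk (c • A) (c • B) = c • blk A B := by
  unfold blk
  ext i j
  rcases h1 : (eI a b).symm i with x | x <;> rcases h2 : (eI a b).symm j with y | y <;>
    simp [h1, h2]

lemma blk_inj (A A' : Matrix (Fin a ⊕ Fin a) (Fin a ⊕ Fin a) F)
    (B B' : Matrix (Fin b ⊕ Fin b) (Fin b ⊕ Fin b) F) (h : blk A B = blk A' B') :
    A = A' ∧ B = B' := by
  unfold blk at h
  have h1 := congrArg (fun M => M.submatrix (eI a b) (eI a b)) h
  simp only [Matrix.submatrix_submatrix, Equiv.symm_comp_self, Matrix.submatrix_id_id] at h1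
  have h2 := Matrix.fromBlocks_inj.mp h1
  exact ⟨h2.1, h2.2.2.2⟩

lemma blk_mem (A : Matrix (Fin a ⊕ Fin a) (Fin a ⊕ Fin a) F)
    (B : Matrix (Fin b ⊕ Fin b) (Fin b ⊕ Fin b) F)
    (hA : A ∈ Matrix.symplecticGroup (Fin a) F) (hB : B ∈ Matrix.symplecticGroup (Fin b) F) :
    blk A B ∈ Matrix.symplecticGroup (Fin (a + b)) F := by
  rw [SymplecticGroup.mem_iff] at hA hB ⊢
  have hJ' : Matrix.J (Fin (a + b)) F = (Matrix.fromBlocks (Matrix.J (Fin a) F) 0 0
      (Matrix.J (Fin b) F)).submatrix (eI a b).symm (eI a b).symm := by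
    rw [← J_sub]
    simp
  unfold blk
  rw [hJ', Matrix.transpose_submatrix, Matrix.fromBlocks_transpose, Matrix.submatrix_mul_equiv,
    Matrix.submatrix_mul_equiv, Matrix.fromBlocks_multiply, Matrix.fromBlocks_multiply]
  simp [hA, hB]

end blk

section rank
variable {F : Type*} [Field F]

lemma eq_zero_of_rank {ι : Type*} [Fintype ι] [DecidableEq ι] (A : Matrix ι ι F)
    (h : A.rank = 0) : A = 0 := by
  unfold Matrix.rank at h
  have h1 : LinearMap.range A.mulVecLin = ⊥ := Submodule.finrank_eq_zero.mp h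
  have h2 : A.mulVecLin = 0 := LinearMap.range_eq_bot.mp h1
  ext i j
  have := congrFun (LinearMap.congr_fun h2 (Pi.single j 1)) i
  simpa using this

end rank

section tori
variable {F : Type*} [Field F] [Fintype F]

omit [Fintype F] in
lemma sp_pow_eq_one_iff {w : ℕ} (X : Matrix.symplecticGroup (Fin w) F) (j : ℕ) :
    X ^ j = 1 ↔ (X : Matrix (Fin w ⊕ Fin w) (Fin w ⊕ Fin w) F) ^ j = 1 := by
  constructor
  · intro h
    have h1 := congrArg Subtype.val h
    rwa [SubmonoidClass.coe_pow] at h1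
  · intro h
    apply Subtype.ext
    rw [SubmonoidClass.coe_pow, h]
    rfl

/-- an element of prescribed order in the multiplicative group of the extension of degree
`w` -/
lemma exists_unit_order (p : ℕ) [Fact p.Prime] [CharP F p] (w : ℕ) [NeZero w] (M : ℕ)
    (hM : M ∣ Fintype.card F ^ w - 1) :
    ∃ ζ : (FiniteField.Extension F p w)ˣ, orderOf ζ = M := by
  have hcard : Nat.card (FiniteField.Extension F p w)ˣ = Fintype.card F ^ w - 1 := by
    rw [Nat.card_units, FiniteField.natCard_extension, Nat.card_eq_fintype_card]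
  obtain ⟨g, hg⟩ := IsCyclic.exists_ofOrder_eq_natCard (α := (FiniteField.Extension F p w)ˣ)
  rw [hcard] at hg
  obtain ⟨c, hc⟩ := hM
  have hpos : 0 < Fintype.card F ^ w - 1 := by
    have hq : 1 < Fintype.card F := Fintype.one_lt_card
    have : 1 < Fintype.card F ^ w := Nat.one_lt_pow (NeZero.ne w) hq
    omega
  have hc0 : c ≠ 0 := by
    rintro rfl
    rw [mul_zero] at hc
    omega
  refine ⟨g ^ c, ?_⟩
  rw [orderOf_pow_of_dvd hc0 (by rw [hg, hc]; exact dvd_mul_left c M), hg, hc]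
  exact Nat.mul_div_cancel _ (Nat.pos_of_ne_zero hc0)

/-- the split torus: elements of order dividing `q ^ w - 1` in `Sp_{2w}(q)` -/
theorem exists_torus_minus (p : ℕ) [Fact p.Prime] [CharP F p] (w : ℕ) (hw : 1 ≤ w) (M : ℕ)
    (hM : M ∣ Fintype.card F ^ w - 1) :
    ∃ X : Matrix.symplecticGroup (Fin w) F, orderOf X = M := by
  have hne : NeZero w := ⟨by omega⟩
  obtain ⟨ζ, hζ⟩ := exists_unit_order p w M hM
  obtain ⟨b⟩ : Nonempty (Module.Basis (Fin w) F (FiniteField.Extension F p w)) :=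
    ⟨Module.finBasisOfFinrankEq F _ (FiniteField.finrank_extension F p w)⟩
  obtain ⟨A, hA⟩ : ∃ A : Matrix (Fin w) (Fin w) F,
      A = Algebra.leftMulMatrix b (ζ : FiniteField.Extension F p w) := ⟨_, rfl⟩
  obtain ⟨B, hB⟩ : ∃ B : Matrix (Fin w) (Fin w) F,
      B = Algebra.leftMulMatrix b ((ζ⁻¹ : (FiniteField.Extension F p w)ˣ) :
        FiniteField.Extension F p w) := ⟨_, rfl⟩
  have hBA : B * A = 1 := by
    rw [hA, hB, ← map_mul, ← Units.val_mul, inv_mul_cancel, Units.val_one, map_one]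
  have hApow : ∀ j : ℕ, A ^ j = 1 ↔ ζ ^ j = 1 := by
    intro j
    rw [hA, ← map_pow, ← Units.val_pow_eq_pow_val]
    constructor
    · intro h
      apply Units.ext
      apply Algebra.leftMulMatrix_injective b
      rw [h, Units.val_one, map_one]
    · intro h
      rw [h, Units.val_one, map_one]
  have hBpow : ∀ j : ℕ, ζ ^ j = 1 → B ^ j = 1 := by
    intro j h
    rw [hB, ← map_pow, ← Units.val_pow_eq_pow_val, inv_pow, h, inv_one, Units.val_one, map_one]
  have hmem : Matrix.fromBlocks A 0 0 Bᵀ ∈ Matrix.symplecticGroup (Fin w) F := by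
    rw [SymplecticGroup.fromBlocks_mem_iff]
    refine ⟨by simp, by simp, ?_⟩
    rw [Matrix.transpose_zero, Matrix.zero_mul, sub_zero, ← Matrix.transpose_mul, hBA,
      Matrix.transpose_one]
  have hpow : ∀ j : ℕ, (Matrix.fromBlocks A 0 0 Bᵀ) ^ j =
      Matrix.fromBlocks (A ^ j) 0 0 ((B ^ j)ᵀ) := by
    intro j
    induction j with
    | zero => rw [pow_zero, pow_zero, pow_zero, Matrix.transpose_one, Matrix.fromBlocks_one]
    | succ j ih =>
      rw [pow_succ, ih, Matrix.fromBlocks_multiply, pow_succ A, pow_succ' B,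
        Matrix.transpose_mul]
      simp
  refine ⟨⟨_, hmem⟩, ?_⟩
  rw [← hζ, orderOf_eq_orderOf_iff]
  intro j
  rw [← hApow j, sp_pow_eq_one_iff]
  show (Matrix.fromBlocks A 0 0 Bᵀ) ^ j = 1 ↔ A ^ j = 1
  rw [hpow]
  constructor
  · intro h
    rw [← Matrix.fromBlocks_one, Matrix.fromBlocks_inj] at h
    exact h.1
  · intro h
    rw [h, hBpow j ((hApow j).mp h), Matrix.transpose_one, Matrix.fromBlocks_one]

/-- a symplectic matrix with the same powers as an element of an extension field whose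
inverse is a Galois conjugate -/
lemma torus_plus_aux (h2 : (2 : F) ≠ 0) (K : Type*) [Field K] [Algebra F K] [Module.Finite F K]
    (w : ℕ) (hfr : Module.finrank F K = 2 * w) (ζ : K) (hζ0 : ζ ≠ 0)
    (hζw : ζ ^ (Fintype.card F ^ w + 1) = 1) (hζ2 : ζ * ζ ≠ 1) :
    ∃ w', 1 ≤ w' ∧ w' ≤ w ∧ ∃ X : Matrix.symplecticGroup (Fin w') F,
      ∀ j : ℕ, X ^ j = 1 ↔ ζ ^ j = 1 := by
  have hint : IsIntegral F ζ := IsIntegral.of_finite F ζ
  obtain ⟨g, hg⟩ : ∃ g, g = minpoly F ζ := ⟨_, rfl⟩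
  have hirr : Irreducible g := by rw [hg]; exact minpoly.irreducible hint
  have hmon : g.Monic := by rw [hg]; exact minpoly.monic hint
  have hroot : aeval ζ g = 0 := by rw [hg]; exact minpoly.aeval F ζ
  have hq : 1 < Fintype.card F := Fintype.one_lt_card
  have hfrob : aeval (ζ ^ (Fintype.card F ^ w)) g = 0 := by
    have h1 : aeval ζ (g ^ (Fintype.card F ^ w)) = 0 := by
      rw [map_pow, hroot, zero_pow (pow_pos (by omega) w).ne']
    rwa [Cfsg.Agent.Lib.Helper42.PslOrdA.pow_card_pow_poly, Polynomial.expand_aeval] at h1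
  have hinv : ζ ^ (Fintype.card F ^ w) = ζ⁻¹ := by
    apply eq_inv_of_mul_eq_one_left
    rw [← pow_succ]
    exact hζw
  rw [hinv] at hfrob
  have hc0 : g.coeff 0 ≠ 0 := by rw [hg]; exact minpoly.coeff_zero_ne_zero hint hζ0
  have hrev : aeval ζ g.reverse = 0 := by
    have hinvt : Invertible ζ⁻¹ := invertibleOfNonzero (inv_ne_zero hζ0)
    have h1 := (@Polynomial.eval₂_reverse_eq_zero_iff F _ K _ (algebraMap F K) ζ⁻¹ hinvt g).mpr
      (by rw [← Polynomial.aeval_def]; exact hfrob)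
    rw [invOf_eq_inv, inv_inv] at h1
    rw [Polynomial.aeval_def]
    exact h1
  have hdvd : g ∣ g.reverse := by rw [hg]; exact minpoly.dvd F ζ (by rw [← hg]; exact hrev)
  have hdeg : g.reverse.natDegree = g.natDegree := by
    rw [Polynomial.reverse_natDegree,
      Polynomial.natTrailingDegree_eq_zero.mpr (Or.inr hc0), Nat.sub_zero]
  have hdpos : 0 < g.natDegree := hirr.natDegree_pos
  obtain ⟨r, hr⟩ := hdvd
  have hr0 : r ≠ 0 := by
    rintro rfl
    rw [mul_zero] at hr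
    rw [hr, natDegree_zero] at hdeg
    omega
  have hrdeg : r.natDegree = 0 := by
    have h1 := congrArg natDegree hr
    rw [natDegree_mul hirr.ne_zero hr0, hdeg] at h1
    omega
  obtain ⟨c, hc⟩ : ∃ c : F, r = C c := ⟨_, eq_C_of_natDegree_eq_zero hrdeg⟩
  have hg1 : g.eval 1 ≠ 0 := by
    intro h0
    have h1 : X - C (1 : F) ∣ g := Polynomial.dvd_iff_isRoot.mpr h0
    have h3 := eq_of_monic_of_associated (monic_X_sub_C 1) hmon
      ((irreducible_X_sub_C (1 : F)).associated_of_dvd hirr h1)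
    rw [← h3, map_sub, aeval_X, aeval_C, map_one, sub_eq_zero] at hroot
    apply hζ2
    rw [hroot, one_mul]
  have hc1 : c = 1 := by
    have h1 := Cfsg.Agent.Lib.Helper40.RecipPoly.reverse_eval_one g
    rw [hr, hc, eval_mul, eval_C] at h1
    have h3 : g.eval 1 * (c - 1) = 0 := by linear_combination h1
    rcases mul_eq_zero.mp h3 with h4 | h4
    · exact absurd h4 hg1
    · exact sub_eq_zero.mp h4
  have hrevg : g.reverse = g := by rw [hr, hc, hc1, map_one, mul_one]
  have heven : Even g.natDegree := by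
    by_contra hodd
    rw [Nat.not_even_iff_odd] at hodd
    have hinv1 : Invertible (-1 : F) := invertibleOfNonzero (neg_ne_zero.mpr one_ne_zero)
    have h1 := @Polynomial.eval₂_reverse_mul_pow F _ F _ (RingHom.id F) (-1 : F) hinv1 g
    rw [invOf_eq_inv, inv_neg_one, Polynomial.eval₂_id, Polynomial.eval₂_id, hrevg,
      hodd.neg_one_pow] at h1
    have h3 : (2 : F) * g.eval (-1) = 0 := by linear_combination -h1
    have h4 : g.eval (-1) = 0 := by
      rcases mul_eq_zero.mp h3 with h5 | h5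
      · exact absurd h5 h2
      · exact h5
    have h5 : X - C (-1 : F) ∣ g := Polynomial.dvd_iff_isRoot.mpr h4
    have h6 := eq_of_monic_of_associated (monic_X_sub_C (-1)) hmon
      ((irreducible_X_sub_C (-1 : F)).associated_of_dvd hirr h5)
    rw [← h6, map_sub, aeval_X, aeval_C, map_neg, map_one, sub_neg_eq_add] at hroot
    apply hζ2
    have h7 : ζ = -1 := eq_neg_of_add_eq_zero_left hroot
    rw [h7, neg_mul_neg, one_mul]
  obtain ⟨w', hw'⟩ := heven
  have hw'1 : 1 ≤ w' := by omega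
  have hw'w : w' ≤ w := by
    have h1 := minpoly.natDegree_le (A := F) ζ
    rw [← hg, hfr] at h1
    omega
  have hne : NeZero w' := ⟨by omega⟩
  obtain ⟨M', hM', hcoef⟩ := Cfsg.Agent.Lib.Helper40.SpReal.exists_symp_coeffs w'
    (fun i : Fin w' => g.coeff (i + 1))
  have hcp : M'.charpoly = g := by
    apply Cfsg.Agent.Lib.Helper40.RecipPoly.eq_of_coeff_symm w' _ _ (Matrix.charpoly_monic M') hmon
      (by rw [Matrix.charpoly_natDegree_eq_dim, Fintype.card_sum, Fintype.card_fin]; omega)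
      (by omega) (Cfsg.Agent.Lib.Helper40.SpReal.charpoly_reverse M' hM') hrevg
    intro j
    exact hcoef j
  have hmin : g = minpoly F M' :=
    minpoly.eq_of_irreducible_of_monic hirr (by rw [← hcp]; exact Matrix.aeval_self_charpoly M')
      hmon
  refine ⟨w', hw'1, hw'w, ⟨M', hM'⟩, fun j => ?_⟩
  rw [sp_pow_eq_one_iff]
  show M' ^ j = 1 ↔ ζ ^ j = 1
  have e1 : M' ^ j = 1 ↔ g ∣ X ^ j - 1 := by
    rw [hmin, minpoly.dvd_iff, map_sub, map_pow, aeval_X, map_one, sub_eq_zero]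
  have e2 : ζ ^ j = 1 ↔ g ∣ X ^ j - 1 := by
    rw [hg, minpoly.dvd_iff, map_sub, map_pow, aeval_X, map_one, sub_eq_zero]
  rw [e1, e2]

/-- the non-split torus: elements of order dividing `q ^ w + 1` in `Sp_{2w'}(q)`, `w' ≤ w` -/
theorem exists_torus_plus (p : ℕ) [Fact p.Prime] [CharP F p] (h2 : (2 : F) ≠ 0) (w : ℕ)
    (hw : 1 ≤ w) (M : ℕ)
    (hM : M ∣ Fintype.card F ^ w + 1) (hM3 : 3 ≤ M) :
    ∃ w', 1 ≤ w' ∧ w' ≤ w ∧ ∃ X : Matrix.symplecticGroup (Fin w') F, orderOf X = M := by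
  have hne : NeZero (2 * w) := ⟨by omega⟩
  have hq : 1 < Fintype.card F := Fintype.one_lt_card
  have hdvd : Fintype.card F ^ w + 1 ∣ Fintype.card F ^ (2 * w) - 1 := by
    obtain ⟨t, ht⟩ : ∃ t, Fintype.card F ^ w = t + 1 :=
      ⟨Fintype.card F ^ w - 1, by have := Nat.one_le_pow w (Fintype.card F) (by omega); omega⟩
    refine ⟨t, ?_⟩
    rw [mul_comm 2 w, pow_mul, ht]
    have : (t + 1) ^ 2 = (t + 1 + 1) * t + 1 := by ring
    omega
  obtain ⟨ζ, hζ⟩ := exists_unit_order p (2 * w) M (hM.trans hdvd)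
  have hζw : (ζ : FiniteField.Extension F p (2 * w)) ^ (Fintype.card F ^ w + 1) = 1 := by
    rw [← Units.val_pow_eq_pow_val, orderOf_dvd_iff_pow_eq_one.mp (hζ ▸ hM), Units.val_one]
  have hζ2 : (ζ : FiniteField.Extension F p (2 * w)) * ζ ≠ 1 := by
    intro h
    have h1 : ζ ^ 2 = 1 := by
      apply Units.ext
      rw [Units.val_pow_eq_pow_val, pow_two, h, Units.val_one]
    have h3 := Nat.le_of_dvd (by norm_num) (orderOf_dvd_of_pow_eq_one h1)
    omega
  obtain ⟨w', hw'1, hw'w, X, hX⟩ := torus_plus_aux h2 (FiniteField.Extension F p (2 * w)) w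
    (FiniteField.finrank_extension F p (2 * w)) (ζ : FiniteField.Extension F p (2 * w))
    ζ.ne_zero hζw hζ2
  refine ⟨w', hw'1, hw'w, X, ?_⟩
  rw [← hζ, orderOf_eq_orderOf_iff]
  intro j
  rw [hX j, ← Units.val_pow_eq_pow_val]
  constructor
  · intro h
    exact Units.ext (by rw [h, Units.val_one])
  · intro h
    rw [h, Units.val_one]

end tori

section unip
variable {F : Type*} [Field F] [Fintype F]

/-- a unipotent symplectic matrix with nilpotency index `2 j` -/
theorem exists_unipotent (m j : ℕ) (hj : 1 ≤ j) (hjm : j ≤ m) :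
    ∃ u : Matrix.symplecticGroup (Fin m) F,
      ((u : Matrix (Fin m ⊕ Fin m) (Fin m ⊕ Fin m) F) - 1) ^ (2 * j) = 0 ∧
      ((u : Matrix (Fin m ⊕ Fin m) (Fin m ⊕ Fin m) F) - 1) ^ (2 * j - 1) ≠ 0 := by
  obtain ⟨d, hd⟩ : ∃ d : Fin ((m - j) + 1) → ℕ,
      d = fun k : Fin ((m - j) + 1) => if (k : ℕ) = 0 then 2 * j else 2 := ⟨_, rfl⟩
  have hd0 : d 0 = 2 * j := by rw [hd]; simp
  have hds : ∀ k : Fin (m - j), d k.succ = 2 := by
    intro k
    rw [hd]
    simp
  have hdle : ∀ k, d k ≤ 2 * j := by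
    intro k
    rw [hd]
    show (if (k : ℕ) = 0 then 2 * j else 2) ≤ 2 * j
    split_ifs <;> omega
  have hdpos : ∀ k, 1 ≤ d k := by
    intro k
    rw [hd]
    show 1 ≤ (if (k : ℕ) = 0 then 2 * j else 2)
    split_ifs <;> omega
  have hdeven : ∀ k, Even (d k) := by
    intro k
    rw [hd]
    show Even (if (k : ℕ) = 0 then 2 * j else 2)
    split_ifs
    · exact even_two_mul j
    · exact even_two
  have hsum : ∑ k, d k = 2 * m := by
    rw [Fin.sum_univ_succ, hd0]
    simp only [hds, Finset.sum_const, Finset.card_univ, Fintype.card_fin, smul_eq_mul]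
    omega
  have hpar : ∀ j' : ℕ, Odd j' → Even (Finset.univ.filter (fun k => d k = j')).card := by
    intro j' hj'
    have hempty : Finset.univ.filter (fun k => d k = j') = ∅ := by
      rw [Finset.filter_eq_empty_iff]
      intro k _ hk
      have h1 := hdeven k
      rw [hk] at h1
      exact (Nat.not_even_iff_odd.mpr hj') h1
    rw [hempty, Finset.card_empty]
    exact ⟨0, rfl⟩
  obtain ⟨e, A, hconj⟩ := (Cfsg.Agent.S2582.result (F := F) d hdpos hsum).mpr hpar
  have hrank : ∀ i : ℕ, (((A : Matrix (Fin m ⊕ Fin m) (Fin m ⊕ Fin m) F) - 1) ^ i).rank =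
      ∑ k, (d k - i) := by
    intro i
    rw [Cfsg.Agent.Lib.Helper95.JAsm.rank_pow_of_isConj _ _ e hconj i,
      Cfsg.Agent.Lib.Helper95.JType.rank_jordanType_pow d hdpos i]
  refine ⟨A, ?_, ?_⟩
  · apply eq_zero_of_rank
    rw [hrank]
    apply Finset.sum_eq_zero
    intro k _
    have := hdle k
    omega
  · intro h0
    have h1 := hrank (2 * j - 1)
    rw [h0, Matrix.rank_zero] at h1
    have h3 : d 0 - (2 * j - 1) ≤ ∑ k, (d k - (2 * j - 1)) :=
      Finset.single_le_sum (f := fun k => d k - (2 * j - 1)) (fun _ _ => Nat.zero_le _)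
        (Finset.mem_univ 0)
    rw [hd0] at h3
    omega

omit [Fintype F] in
/-- padding a symplectic matrix by an identity block -/
theorem pad (w n : ℕ) (h : w ≤ n) (Y : Matrix.symplecticGroup (Fin w) F) :
    ∃ X : Matrix.symplecticGroup (Fin n) F, ∀ j : ℕ,
      (X : Matrix (Fin n ⊕ Fin n) (Fin n ⊕ Fin n) F) ^ j = 1 ↔
      (Y : Matrix (Fin w ⊕ Fin w) (Fin w ⊕ Fin w) F) ^ j = 1 := by
  obtain ⟨b, rfl⟩ := Nat.exists_eq_add_of_le h
  refine ⟨⟨blk (Y : Matrix (Fin w ⊕ Fin w) (Fin w ⊕ Fin w) F)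
    (1 : Matrix (Fin b ⊕ Fin b) (Fin b ⊕ Fin b) F), blk_mem _ _ Y.2 (one_mem _)⟩, fun j => ?_⟩
  show blk (Y : Matrix (Fin w ⊕ Fin w) (Fin w ⊕ Fin w) F)
    (1 : Matrix (Fin b ⊕ Fin b) (Fin b ⊕ Fin b) F) ^ j = 1 ↔ _
  rw [blk_pow, one_pow]
  constructor
  · intro h1
    rw [← blk_one] at h1
    exact (blk_inj _ _ _ _ h1).1
  · intro h1
    rw [h1, blk_one]

end unip

end Cfsg.Agent.Lib.Helper42.SpOrdC
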