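import Mathlib
import Cfsg.Agent.Lib.Helper42.SpOrdB
import Cfsg.Agent.Lib.Helper42.SpOrdC
import Cfsg.Agent.Lib.Helper43.SpBasic
import Cfsg.Agent.Lib.Helper40.SympConj

set_option autoImplicit false

namespace Cfsg.Agent.Lib.Helper42.SpOrdD

open Polynomial Matrix
open Cfsg.Agent.Lib.Helper40.SSConj
open Cfsg.Agent.Lib.Helper42.PslOrdA
open Cfsg.Agent.Lib.Helper42.SpOrdA Cfsg.Agent.Lib.Helper42.SpOrdB
open Cfsg.Agent.Lib.Helper42.SpOrdC
open Cfsg.Agent.Lib.Helper43.SpBasic (pr pr_surjective exists_scalar_of_pr_eq pr_eq_of_scalar)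

section transport
variable {F : Type*} [Field F] {n : ℕ}

/-- reindexing symplectic matrices by `Fin (n + n)` -/
noncomputable def rho :
    Matrix (Fin n ⊕ Fin n) (Fin n ⊕ Fin n) F ≃ₐ[F] Matrix (Fin (n + n)) (Fin (n + n)) F :=
  Matrix.reindexAlgEquiv F F finSumFinEquiv

/-- the reindexed Gram matrix of the symplectic form -/
noncomputable def Jn (n : ℕ) (F : Type*) [Field F] : Matrix (Fin (n + n)) (Fin (n + n)) F :=
  rho (Matrix.J (Fin n) F)

lemma rho_transpose (M : Matrix (Fin n ⊕ Fin n) (Fin n ⊕ Fin n) F) : rho Mᵀ = (rho M)ᵀ := by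
  unfold rho
  rw [Matrix.coe_reindexAlgEquiv, Matrix.transpose_reindex]

lemma Jn_transpose : (Jn n F)ᵀ = -Jn n F := by
  unfold Jn
  rw [← rho_transpose, Matrix.J_transpose, map_neg]

lemma Jn_sq : Jn n F * Jn n F = -1 := by
  unfold Jn
  rw [← map_mul, Matrix.J_squared, map_neg, map_one]

lemma rho_sadj (M : Matrix (Fin n ⊕ Fin n) (Fin n ⊕ Fin n) F) :
    rho (Cfsg.Agent.Lib.Helper40.SympConj.sadj M) = sa (Jn n F) (rho M) := by
  unfold Cfsg.Agent.Lib.Helper40.SympConj.sadj sa Jn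
  rw [map_mul, map_mul, map_neg, rho_transpose, neg_mul, neg_mul]

lemma rho_isom (M : Matrix (Fin n ⊕ Fin n) (Fin n ⊕ Fin n) F)
    (hM : M ∈ Matrix.symplecticGroup (Fin n) F) : sa (Jn n F) (rho M) * rho M = 1 := by
  rw [← rho_sadj, ← map_mul, (Cfsg.Agent.Lib.Helper40.SympConj.mem_symp_iff M).mp hM, map_one]

lemma mem_of_isom (M : Matrix (Fin n ⊕ Fin n) (Fin n ⊕ Fin n) F)
    (h : sa (Jn n F) (rho M) * rho M = 1) : M ∈ Matrix.symplecticGroup (Fin n) F := by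
  rw [Cfsg.Agent.Lib.Helper40.SympConj.mem_symp_iff]
  apply rho.injective
  rw [map_mul, rho_sadj, h, map_one]

lemma rho_pow_eq_one_iff (M : Matrix (Fin n ⊕ Fin n) (Fin n ⊕ Fin n) F) (j : ℕ) :
    rho M ^ j = 1 ↔ M ^ j = 1 := by
  rw [← map_pow]
  constructor
  · intro h
    apply rho.injective
    rw [h, map_one]
  · intro h
    rw [h, map_one]

end transport

section gen
variable {F : Type*} [Field F]

lemma orderOf_eq_of_pow_iff {H : Type*} [Monoid H] (x : H) (M : ℕ)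
    (h : ∀ i : ℕ, x ^ i = 1 ↔ M ∣ i) : orderOf x = M :=
  Nat.dvd_antisymm (orderOf_dvd_of_pow_eq_one ((h M).mpr dvd_rfl))
    ((h _).mp (pow_orderOf_eq_one x))

lemma eq_one_of_sq_of_odd_pow (c : F) (h : c * c = 1) (k : ℕ) (hk : Odd k) (hck : c ^ k = 1) :
    c = 1 := by
  obtain ⟨r, rfl⟩ := hk
  rw [pow_succ, pow_mul, pow_two, h, one_pow, one_mul] at hck
  exact hck

lemma scalar_eq_one {ι : Type*} [Fintype ι] [DecidableEq ι] [Nonempty ι] (c : F)
    (h : c • (1 : Matrix ι ι F) = 1) : c = 1 := by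
  obtain ⟨i⟩ := (inferInstance : Nonempty ι)
  have := congrFun (congrFun h i) i
  rwa [Matrix.smul_apply, Matrix.one_apply_eq, smul_eq_mul, mul_one] at this

/-- the projective order of the product of an isometry of odd order with a commuting
non-scalar involution -/
lemma order_aux {ι : Type*} [Fintype ι] [DecidableEq ι] [Nonempty ι] (t g : Matrix ι ι F)
    (ht : t * t = 1) (hc : t * g = g * t) (k : ℕ) (hk : Odd k)
    (hgk : ∀ j : ℕ, g ^ j = 1 ↔ k ∣ j) (htne : ∀ c : F, c * c = 1 → t ≠ c • 1) (j : ℕ) :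
    (∃ c : F, c * c = 1 ∧ (t * g) ^ j = c • 1) ↔ 2 * k ∣ j := by
  have hcm : Commute t g := hc
  have ht2 : ∀ s : ℕ, t ^ (2 * s) = 1 := by
    intro s
    rw [pow_mul, pow_two, ht, one_pow]
  constructor
  · rintro ⟨c, hcc, hX⟩
    rw [hcm.mul_pow] at hX
    rcases Nat.even_or_odd' j with ⟨s, hs | hs⟩
    · rw [hs, ht2, one_mul, ← hs] at hX
      have h1 : c ^ k = 1 := by
        have h3 : (g ^ j) ^ k = 1 := by
          rw [← pow_mul, mul_comm, pow_mul, (hgk k).mpr dvd_rfl, one_pow]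
        rw [hX, _root_.smul_pow, one_pow] at h3
        exact scalar_eq_one _ h3
      have hc1 := eq_one_of_sq_of_odd_pow c hcc k hk h1
      rw [hc1, one_smul] at hX
      have h4 := (hgk j).mp hX
      exact Nat.Coprime.mul_dvd_of_dvd_of_dvd (Nat.coprime_two_left.mpr hk) ⟨s, hs⟩ h4
    · exfalso
      rw [hs, pow_succ, ht2, one_mul, ← hs] at hX
      have h1 : g ^ j = c • t := by
        calc g ^ j = (t * t) * g ^ j := by rw [ht, one_mul]
          _ = t * (t * g ^ j) := by rw [mul_assoc]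
          _ = c • t := by rw [hX, Matrix.mul_smul, mul_one]
      have h3 : (g ^ j) ^ k = 1 := by
        rw [← pow_mul, mul_comm, pow_mul, (hgk k).mpr dvd_rfl, one_pow]
      have htk : t ^ k = t := by
        obtain ⟨r, rfl⟩ := hk
        rw [pow_succ, ht2, one_mul]
      have hck : c ^ k = c := by
        obtain ⟨r, rfl⟩ := hk
        rw [pow_succ, pow_mul, pow_two, hcc, one_pow, one_mul]
      rw [h1, _root_.smul_pow, htk, hck] at h3
      apply htne c hcc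
      calc t = (c * c) • t := by rw [hcc, one_smul]
        _ = c • (c • t) := by rw [mul_smul]
        _ = c • 1 := by rw [h3]
  · rintro ⟨s, rfl⟩
    refine ⟨1, one_mul 1, ?_⟩
    rw [hcm.mul_pow, mul_assoc, ht2, one_mul, one_smul]
    exact (hgk _).mpr ⟨2 * s, by ring⟩

end gen

section psp
variable {F : Type*} [Field F] {n : ℕ}

/-- a power is trivial in the projective group iff it is a scalar matrix of square one -/
theorem pr_pow_eq_one_iff (hn : 1 ≤ n) (G : Matrix.symplecticGroup (Fin n) F) (j : ℕ) :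
    (pr G) ^ j = 1 ↔ ∃ c : F, c * c = 1 ∧
      (G : Matrix (Fin n ⊕ Fin n) (Fin n ⊕ Fin n) F) ^ j = c • 1 := by
  rw [← map_pow]
  constructor
  · intro h
    have h1 : pr (G ^ j) = pr (1 : Matrix.symplecticGroup (Fin n) F) := by rw [h, map_one]
    obtain ⟨a, ha, h3⟩ := exists_scalar_of_pr_eq hn h1
    refine ⟨a, by rw [← pow_two]; exact ha, ?_⟩
    rw [SubmonoidClass.coe_pow] at h3
    rw [h3]
    rfl
  · rintro ⟨c, -, hc⟩
    have h1 : pr (G ^ j) = pr (1 : Matrix.symplecticGroup (Fin n) F) := by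
      apply pr_eq_of_scalar c
      rw [SubmonoidClass.coe_pow, hc]
      rfl
    rw [h1, map_one]

theorem pr_pow_iff_rho (hn : 1 ≤ n) (G : Matrix.symplecticGroup (Fin n) F) (j : ℕ) :
    (pr G) ^ j = 1 ↔ ∃ c : F, c * c = 1 ∧
      rho (G : Matrix (Fin n ⊕ Fin n) (Fin n ⊕ Fin n) F) ^ j = c • 1 := by
  rw [pr_pow_eq_one_iff hn]
  constructor
  · rintro ⟨c, hcc, hc⟩
    exact ⟨c, hcc, by rw [← map_pow, hc, map_smul, map_one]⟩
  · rintro ⟨c, hcc, hc⟩
    refine ⟨c, hcc, ?_⟩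
    apply rho.injective
    rw [map_pow, hc, map_smul, map_one]

/-- an element of odd order of the projective group lifts to an element of the same order -/
theorem exists_odd_lift (hn : 1 ≤ n) (g : Cfsg.PSp n F) (hodd : Odd (orderOf g)) :
    ∃ G : Matrix.symplecticGroup (Fin n) F, pr G = g ∧ orderOf G = orderOf g := by
  obtain ⟨G₀, hG₀⟩ := pr_surjective g
  obtain ⟨c, hcc, hc⟩ := (pr_pow_eq_one_iff hn G₀ (orderOf g)).mp
    (by rw [hG₀]; exact pow_orderOf_eq_one g)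
  have hmem : c • (G₀ : Matrix (Fin n ⊕ Fin n) (Fin n ⊕ Fin n) F) ∈
      Matrix.symplecticGroup (Fin n) F := by
    rw [SymplecticGroup.mem_iff, Matrix.smul_mul, Matrix.transpose_smul, Matrix.mul_smul,
      Matrix.smul_mul, smul_smul, hcc, one_smul]
    exact SymplecticGroup.mem_iff.mp G₀.2
  obtain ⟨G, hG⟩ : ∃ G : Matrix.symplecticGroup (Fin n) F, G = ⟨_, hmem⟩ := ⟨_, rfl⟩
  have hGv : (G : Matrix (Fin n ⊕ Fin n) (Fin n ⊕ Fin n) F) =
      c • (G₀ : Matrix (Fin n ⊕ Fin n) (Fin n ⊕ Fin n) F) := by rw [hG]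
  have hpr : pr G = g := by
    rw [← hG₀]
    exact pr_eq_of_scalar c hGv
  refine ⟨G, hpr, ?_⟩
  have hGk : G ^ orderOf g = 1 := by
    rw [sp_pow_eq_one_iff, hGv, _root_.smul_pow, hc, smul_smul]
    obtain ⟨r, hr⟩ := hodd
    rw [hr, pow_succ, pow_mul, pow_two, hcc, one_pow, one_mul, hcc, one_smul]
  apply Nat.dvd_antisymm (orderOf_dvd_of_pow_eq_one hGk)
  rw [← hpr]
  exact orderOf_map_dvd pr G

/-- elements of odd order keep their order in the projective group -/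
theorem order_pr_of_odd (hn : 1 ≤ n) (X : Matrix.symplecticGroup (Fin n) F)
    (hodd : Odd (orderOf X)) : orderOf (pr X) = orderOf X := by
  apply Nat.dvd_antisymm (orderOf_map_dvd pr X)
  obtain ⟨c, hcc, hc⟩ := (pr_pow_eq_one_iff hn X (orderOf (pr X))).mp (pow_orderOf_eq_one _)
  have h1 : X ^ (orderOf (pr X) * 2) = 1 := by
    rw [sp_pow_eq_one_iff, pow_mul, hc, pow_two, Matrix.smul_mul, Matrix.mul_smul, Matrix.one_mul,
      smul_smul, hcc, one_smul]
  have h3 := orderOf_dvd_of_pow_eq_one h1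
  exact (Nat.Coprime.dvd_of_dvd_mul_right (Nat.coprime_two_right.mpr hodd) h3)

/-- an element of order `4 k` gives an element of order `2 k` in the projective group -/
theorem exists_two_mul_of_four (hn : 1 ≤ n) (X : Matrix.symplecticGroup (Fin n) F) (k : ℕ)
    (hk : 0 < k) (hX : orderOf X = 4 * k) : ∃ h : Cfsg.PSp n F, orderOf h = 2 * k := by
  obtain ⟨o', ho'⟩ : ∃ o', o' = orderOf (pr X) := ⟨_, rfl⟩
  have hdvd : o' ∣ 4 * k := by
    rw [ho', ← hX]
    exact orderOf_map_dvd pr X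
  have ho'0 : 0 < o' := Nat.pos_of_dvd_of_pos hdvd (by omega)
  obtain ⟨c, hcc, hc⟩ := (pr_pow_eq_one_iff hn X o').mp (by rw [ho']; exact pow_orderOf_eq_one _)
  have h1 : X ^ (o' * 2) = 1 := by
    rw [sp_pow_eq_one_iff, pow_mul, hc, pow_two, Matrix.smul_mul, Matrix.mul_smul, Matrix.one_mul,
      smul_smul, hcc, one_smul]
  have h3 := orderOf_dvd_of_pow_eq_one h1
  rw [hX] at h3
  have h4 : 2 * k ∣ o' := by
    obtain ⟨r, hr⟩ := h3
    refine ⟨r, ?_⟩
    have h5 : 2 * o' = 2 * (2 * k * r) := by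
      rw [mul_comm 2 o', hr]
      ring
    exact Nat.eq_of_mul_eq_mul_left (by norm_num) h5
  obtain ⟨r, hr⟩ := h4
  have hr0 : r ≠ 0 := by
    rintro rfl
    rw [mul_zero] at hr
    omega
  refine ⟨(pr X) ^ r, ?_⟩
  rw [orderOf_pow_of_dvd hr0 (by rw [← ho', hr]; exact dvd_mul_left r (2 * k)), ← ho', hr]
  exact Nat.mul_div_cancel _ (Nat.pos_of_ne_zero hr0)

/-- a decomposable element of odd order can be multiplied by a commuting involution -/
theorem order_two_mul (hn : 1 ≤ n) (h2 : (2 : F) ≠ 0) (G : Matrix.symplecticGroup (Fin n) F)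
    (hodd : Odd (orderOf G))
    (hdec : DecS (Jn n F) (rho (G : Matrix (Fin n ⊕ Fin n) (Fin n ⊕ Fin n) F))) :
    ∃ h : Cfsg.PSp n F, orderOf h = 2 * orderOf G := by
  obtain ⟨E, hEE, hE0, hE1, hEsa, hEG⟩ := hdec
  obtain ⟨t', ht'⟩ : ∃ t' : Matrix (Fin (n + n)) (Fin (n + n)) F, t' = 1 - (E + E) := ⟨_, rfl⟩
  have htt : t' * t' = 1 := by
    rw [ht']
    simp only [mul_sub, sub_mul, mul_add, add_mul, mul_one, one_mul, hEE]
    abel
  have hsat : sa (Jn n F) t' = t' := by rw [ht', sa_sub, sa_one _ Jn_sq, sa_add, hEsa]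
  have htG : t' * rho (G : Matrix (Fin n ⊕ Fin n) (Fin n ⊕ Fin n) F) =
      rho (G : Matrix (Fin n ⊕ Fin n) (Fin n ⊕ Fin n) F) * t' := by
    rw [ht', sub_mul, mul_sub, add_mul, mul_add, hEG, one_mul, mul_one]
  have htne : ∀ c : F, c * c = 1 → t' ≠ c • 1 := by
    intro c hcc hc
    have h3 : (c - 1) * (c + 1) = 0 := by linear_combination hcc
    rcases mul_eq_zero.mp h3 with h4 | h4
    · have hc1 : c = 1 := sub_eq_zero.mp h4
      rw [hc1, one_smul, ht'] at hc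
      have h5 : E + E = 0 := sub_eq_self.mp hc
      apply hE0
      have h6 : (2 : F) • E = 0 := by
        rw [two_smul]
        exact h5
      exact (smul_eq_zero.mp h6).resolve_left h2
    · have hc1 : c = -1 := eq_neg_of_add_eq_zero_left h4
      rw [hc1, ht', neg_smul, one_smul] at hc
      apply hE1
      have h7 : E + E = 1 + 1 := by
        have h8 : (1 : Matrix (Fin (n + n)) (Fin (n + n)) F) - (E + E) + (E + E) = -1 + (E + E) := by
          rw [hc]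
        rw [sub_add_cancel] at h8
        calc E + E = 1 + (-1 + (E + E)) := by abel
          _ = 1 + 1 := by rw [← h8]
      have h6 : (2 : F) • (E - 1) = 0 := by
        rw [two_smul]
        have h9 : (E - 1) + (E - 1) = (E + E) - (1 + 1) := by abel
        rw [h9, h7, sub_self]
      exact sub_eq_zero.mp ((smul_eq_zero.mp h6).resolve_left h2)
  obtain ⟨t, ht⟩ : ∃ t : Matrix (Fin n ⊕ Fin n) (Fin n ⊕ Fin n) F, t = rho.symm t' := ⟨_, rfl⟩
  have hrt : rho t = t' := by rw [ht, AlgEquiv.apply_symm_apply]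
  have htmem : t ∈ Matrix.symplecticGroup (Fin n) F := by
    apply mem_of_isom
    rw [hrt, hsat, htt]
  obtain ⟨X, hX⟩ : ∃ X : Matrix.symplecticGroup (Fin n) F, X = ⟨t, htmem⟩ * G := ⟨_, rfl⟩
  have hXv : rho (X : Matrix (Fin n ⊕ Fin n) (Fin n ⊕ Fin n) F) =
      t' * rho (G : Matrix (Fin n ⊕ Fin n) (Fin n ⊕ Fin n) F) := by
    rw [hX, Submonoid.coe_mul, map_mul, hrt]
  refine ⟨pr X, ?_⟩
  apply orderOf_eq_of_pow_iff
  intro j
  rw [pr_pow_iff_rho hn, hXv]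
  have hne : Nonempty (Fin (n + n)) := ⟨⟨0, by omega⟩⟩
  exact order_aux t' (rho (G : Matrix (Fin n ⊕ Fin n) (Fin n ⊕ Fin n) F)) htt htG (orderOf G) hodd
    (fun i => by
      rw [rho_pow_eq_one_iff, ← sp_pow_eq_one_iff]
      exact orderOf_dvd_iff_pow_eq_one.symm) htne j

/-- the identity is decomposable in rank at least two -/
theorem decS_one (hn : 2 ≤ n) :
    DecS (Jn n F) (1 : Matrix (Fin (n + n)) (Fin (n + n)) F) := by
  obtain ⟨D, hD⟩ : ∃ D : Matrix (Fin n) (Fin n) F,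
      D = Matrix.diagonal (fun i : Fin n => if (i : ℕ) = 0 then (1 : F) else 0) := ⟨_, rfl⟩
  have hDD : D * D = D := by
    rw [hD, Matrix.diagonal_mul_diagonal]
    congr 1
    ext i
    split_ifs <;> simp
  have hDt : Dᵀ = D := by rw [hD, Matrix.diagonal_transpose]
  obtain ⟨E₀, hE₀⟩ : ∃ E₀ : Matrix (Fin n ⊕ Fin n) (Fin n ⊕ Fin n) F,
      E₀ = Matrix.fromBlocks D 0 0 D := ⟨_, rfl⟩
  refine ⟨rho E₀, ?_, ?_, ?_, ?_, ?_⟩
  · rw [← map_mul, hE₀, Matrix.fromBlocks_multiply]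
    simp [hDD]
  · intro h
    have h1 : E₀ = 0 := rho.injective (by rw [h, map_zero])
    have := congrFun (congrFun h1 (Sum.inl ⟨0, by omega⟩)) (Sum.inl ⟨0, by omega⟩)
    rw [hE₀, hD] at this
    simp at this
  · intro h
    have h1 : E₀ = 1 := rho.injective (by rw [h, map_one])
    have := congrFun (congrFun h1 (Sum.inl ⟨1, by omega⟩)) (Sum.inl ⟨1, by omega⟩)
    rw [hE₀, hD] at this
    simp at this
  · rw [← rho_sadj]
    congr 1
    unfold Cfsg.Agent.Lib.Helper40.SympConj.sadj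
    rw [hE₀, Matrix.J, Matrix.fromBlocks_transpose, Matrix.fromBlocks_neg,
      Matrix.fromBlocks_multiply, Matrix.fromBlocks_multiply]
    simp [hDt]
  · rw [mul_one, one_mul]

/-- an involution of the projective group -/
theorem exists_involution (hn : 2 ≤ n) (h2 : (2 : F) ≠ 0) :
    ∃ h : Cfsg.PSp n F, orderOf h = 2 := by
  obtain ⟨h, hh⟩ := order_two_mul (by omega) h2 (1 : Matrix.symplecticGroup (Fin n) F)
    (by rw [orderOf_one]; exact odd_one) (by
      rw [Submonoid.coe_one, map_one]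
      exact decS_one hn)
  exact ⟨h, by rw [hh, orderOf_one]⟩

end psp

section charp
variable {F : Type*} [Field F] [Fintype F] {n : ℕ}

omit [Fintype F] in
/-- an algebra with a Frobenius-type identity is reduced -/
lemma reduced_of_frob' {N : ℕ} (A : Matrix (Fin N) (Fin N) F) (Q : ℕ) (hQ2 : 2 ≤ Q)
    (hQ : ∀ h : F[X], (aeval A h) ^ Q = aeval A h) (h : F[X]) (k : ℕ)
    (hk : (aeval A h) ^ k = 0) : aeval A h = 0 := by
  have hall : ∀ j : ℕ, (aeval A h) ^ (Q ^ j) = aeval A h := by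
    intro j
    induction j with
    | zero => rw [pow_zero, pow_one]
    | succ j ih => rw [pow_succ, pow_mul, ih, hQ]
  have hle : k ≤ Q ^ k := by
    calc k ≤ 2 ^ k := (Nat.lt_two_pow_self).le
      _ ≤ Q ^ k := Nat.pow_le_pow_left hQ2 k
  rw [← hall k, ← Nat.sub_add_cancel hle, pow_add, hk, mul_zero]

/-- the part of order prime to `p` of an element of odd order divisible by `p` can be
multiplied by a commuting involution -/
theorem order_pprime (p : ℕ) [hp : Fact p.Prime] [CharP F p] (hn : 2 ≤ n) (h2 : (2 : F) ≠ 0)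
    (G : Matrix.symplecticGroup (Fin n) F) (hodd : Odd (orderOf G)) (hpG : p ∣ orderOf G) :
    ∃ h : Cfsg.PSp n F, orderOf h = 2 * (orderOf G / p ^ (orderOf G).factorization p) := by
  have hne : NeZero (n + n) := ⟨by omega⟩
  obtain ⟨o, ho⟩ : ∃ o, o = orderOf G := ⟨_, rfl⟩
  rw [← ho] at hodd hpG ⊢
  have ho0 : 0 < o := hodd.pos
  obtain ⟨c, hc⟩ : ∃ c, c = o.factorization p := ⟨_, rfl⟩
  obtain ⟨k, hk⟩ : ∃ k, k = o / p ^ c := ⟨_, rfl⟩
  rw [← hc, ← hk]
  have hmul : p ^ c * k = o := by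
    rw [hk, hc]
    exact Nat.ordProj_mul_ordCompl_eq_self o p
  have hpk : ¬ p ∣ k := by
    rw [hk, hc]
    exact Nat.not_dvd_ordCompl hp.out ho0.ne'
  have hc1 : 1 ≤ c := by
    rw [hc]
    exact hp.out.factorization_pos_of_dvd ho0.ne' hpG
  have hkodd : Odd k := Odd.of_dvd_nat hodd ⟨p ^ c, by rw [← hmul, mul_comm]⟩
  have hk0 : 0 < k := hkodd.pos
  obtain ⟨S, hS⟩ : ∃ S : Matrix.symplecticGroup (Fin n) F, S = G ^ p ^ c := ⟨_, rfl⟩
  have hoS : orderOf S = k := by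
    rw [hS, orderOf_pow_of_dvd (pow_pos hp.out.pos c).ne'
      (by rw [← ho, ← hmul]; exact dvd_mul_right _ _), ← ho, ← hmul]
    exact Nat.mul_div_cancel_left k (pow_pos hp.out.pos c)
  have hdec : DecS (Jn n F) (rho (S : Matrix (Fin n ⊕ Fin n) (Fin n ⊕ Fin n) F)) := by
    by_contra hnd
    by_cases hk1 : k = 1
    · have hS1 : S = 1 := by rw [← orderOf_eq_one_iff, hoS, hk1]
      apply hnd
      rw [hS1, Submonoid.coe_one, map_one]
      exact decS_one hn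
    · obtain ⟨s, hs⟩ : ∃ s, s = rho (S : Matrix (Fin n ⊕ Fin n) (Fin n ⊕ Fin n) F) := ⟨_, rfl⟩
      rw [← hs] at hnd
      have hsk : s ^ k = 1 := by
        rw [hs, rho_pow_eq_one_iff, ← sp_pow_eq_one_iff, ← hoS]
        exact pow_orderOf_eq_one S
      have hs2 : s * s ≠ 1 := by
        intro h
        have h1 : S ^ 2 = 1 := by rw [sp_pow_eq_one_iff, ← rho_pow_eq_one_iff, ← hs, pow_two, h]
        have h3 := orderOf_dvd_of_pow_eq_one h1
        rw [hoS] at h3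
        have h4 := Nat.le_of_dvd (by norm_num) h3
        obtain ⟨r, hr⟩ := hkodd
        omega
      have hUs : sa (Jn n F) s * s = 1 := by
        rw [hs]
        exact rho_isom _ S.2
      have hss := isSemisimple_toLin' s k ((CharP.cast_eq_zero_iff F p k).not.mpr hpk) hsk
      obtain ⟨v, hv⟩ := exists_cyclic (Jn n F) Jn_transpose Jn_sq s hUs k hk0 hsk hss hnd hs2
      obtain ⟨u, hu⟩ : ∃ u, u = rho (G : Matrix (Fin n ⊕ Fin n) (Fin n ⊕ Fin n) F) ^ k :=
        ⟨_, rfl⟩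
      have hsG : s = rho (G : Matrix (Fin n ⊕ Fin n) (Fin n ⊕ Fin n) F) ^ p ^ c := by
        rw [hs, hS, SubmonoidClass.coe_pow, map_pow]
      have hus : u * s = s * u := by
        rw [hu, hsG]
        exact ((Commute.refl _).pow_pow _ _).eq
      obtain ⟨h, hh⟩ := Cfsg.Agent.Lib.Helper42.PsuOrdA.eq_aeval_of_commute s v hv u hus
      obtain ⟨Q, hQ2, hQ⟩ := frob_fix s k hk0
        (Cfsg.Agent.Lib.Helper42.PslOrdB.card_coprime p k hpk) hsk
      have hupc : u ^ p ^ c = 1 := by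
        rw [hu, ← pow_mul, mul_comm, hmul, rho_pow_eq_one_iff, ← sp_pow_eq_one_iff, ho]
        exact pow_orderOf_eq_one G
      have hnil : (u - 1) ^ p ^ c = 0 := by
        rw [sub_pow_char_pow_of_commute p c (Commute.one_right u), hupc, one_pow, sub_self]
      have hu1 : u = 1 := by
        have h1 : aeval s (h - 1) = 0 := by
          apply reduced_of_frob' s Q hQ2 hQ (h - 1) (p ^ c)
          rw [map_sub, map_one, ← hh]
          exact hnil
        rw [map_sub, map_one, ← hh] at h1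
        exact sub_eq_zero.mp h1
      have hGk : G ^ k = 1 := by
        rw [sp_pow_eq_one_iff, ← rho_pow_eq_one_iff, ← hu, hu1]
      have h3 := orderOf_dvd_of_pow_eq_one hGk
      rw [← ho, ← hmul] at h3
      have h4 : p ^ c * k ≤ k := Nat.le_of_dvd hk0 h3
      have h5 : 2 ≤ p ^ c := by
        calc 2 ≤ p := hp.out.two_le
          _ = p ^ 1 := (pow_one p).symm
          _ ≤ p ^ c := Nat.pow_le_pow_right hp.out.pos hc1
      nlinarith
  obtain ⟨h, hh⟩ := order_two_mul (by omega) h2 S (by rw [hoS]; exact hkodd) hdec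
  exact ⟨h, by rw [hh, hoS]⟩

end charp

section cases
variable {F : Type*} [Field F] [Fintype F] {n : ℕ}

/-- an indecomposable element of odd order prime to `p` has order at least three dividing
`q ^ n + 1` or `q ^ n - 1` -/
theorem regular_dvd (p : ℕ) [hp : Fact p.Prime] [CharP F p] (hn : 2 ≤ n)
    (G : Matrix.symplecticGroup (Fin n) F) (hodd : Odd (orderOf G)) (hpG : ¬ p ∣ orderOf G)
    (hd : ¬ DecS (Jn n F) (rho (G : Matrix (Fin n ⊕ Fin n) (Fin n ⊕ Fin n) F))) :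
    3 ≤ orderOf G ∧ (orderOf G ∣ Fintype.card F ^ n + 1 ∨
      orderOf G ∣ Fintype.card F ^ n - 1) := by
  obtain ⟨k, hk⟩ : ∃ k, k = orderOf G := ⟨_, rfl⟩
  rw [← hk] at hodd hpG ⊢
  have hk1 : k ≠ 1 := by
    intro h1
    have hG1 : G = 1 := by rw [← orderOf_eq_one_iff, ← hk, h1]
    apply hd
    rw [hG1, Submonoid.coe_one, map_one]
    exact decS_one hn
  have hk3 : 3 ≤ k := by
    obtain ⟨r, hr⟩ := hodd
    omega
  obtain ⟨g, hg⟩ : ∃ g, g = rho (G : Matrix (Fin n ⊕ Fin n) (Fin n ⊕ Fin n) F) := ⟨_, rfl⟩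
  rw [← hg] at hd
  have hgi : ∀ i : ℕ, g ^ i = 1 ↔ k ∣ i := by
    intro i
    rw [hg, rho_pow_eq_one_iff, ← sp_pow_eq_one_iff, hk]
    exact orderOf_dvd_iff_pow_eq_one.symm
  have hg2 : g * g ≠ 1 := by
    intro h
    have h1 : g ^ 2 = 1 := by rw [pow_two, h]
    have h3 := Nat.le_of_dvd (by norm_num) ((hgi 2).mp h1)
    omega
  have hU : sa (Jn n F) g * g = 1 := by
    rw [hg]
    exact rho_isom _ G.2
  refine ⟨hk3, ?_⟩
  rcases torus_dvd p (Jn n F) Jn_transpose Jn_sq (by omega) g hU hd k (by omega) hpG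
    ((hgi k).mpr dvd_rfl) hg2 with h | h
  · exact Or.inl ((hgi _).mp h)
  · exact Or.inr ((hgi _).mp h)

/-- elements of the non-split torus in rank `n` -/
theorem torus_plus_n (p : ℕ) [hp : Fact p.Prime] [CharP F p] (hn : 1 ≤ n) (h2 : (2 : F) ≠ 0)
    (M : ℕ) (hM : M ∣ Fintype.card F ^ n + 1) (hM3 : 3 ≤ M) :
    ∃ X : Matrix.symplecticGroup (Fin n) F, orderOf X = M := by
  obtain ⟨w', hw'1, hw'n, X, hX⟩ := exists_torus_plus p h2 n hn M hM hM3
  obtain ⟨X', hX'⟩ := pad w' n hw'n X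
  refine ⟨X', ?_⟩
  rw [← hX, orderOf_eq_orderOf_iff]
  intro j
  rw [sp_pow_eq_one_iff, sp_pow_eq_one_iff]
  exact hX' j

/-- two indecomposable elements of odd order prime to `p` -/
theorem order_regular (p : ℕ) [hp : Fact p.Prime] [CharP F p] (hn : 2 ≤ n) (h2 : (2 : F) ≠ 0)
    (hq : Odd (Fintype.card F))
    (G₁ G₂ : Matrix.symplecticGroup (Fin n) F) (hodd₁ : Odd (orderOf G₁))
    (hodd₂ : Odd (orderOf G₂)) (hp₁ : ¬ p ∣ orderOf G₁) (hp₂ : ¬ p ∣ orderOf G₂)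
    (hd₁ : ¬ DecS (Jn n F) (rho (G₁ : Matrix (Fin n ⊕ Fin n) (Fin n ⊕ Fin n) F)))
    (hd₂ : ¬ DecS (Jn n F) (rho (G₂ : Matrix (Fin n ⊕ Fin n) (Fin n ⊕ Fin n) F))) :
    (∃ h : Cfsg.PSp n F, orderOf h = Nat.lcm (orderOf G₁) (orderOf G₂)) ∨
    (∃ h : Cfsg.PSp n F, orderOf h = 2 * orderOf G₁) ∨
    (∃ h : Cfsg.PSp n F, orderOf h = 2 * orderOf G₂) := by
  obtain ⟨h31, hT₁⟩ := regular_dvd p hn G₁ hodd₁ hp₁ hd₁
  obtain ⟨h32, hT₂⟩ := regular_dvd p hn G₂ hodd₂ hp₂ hd₂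
  obtain ⟨k₁, hk₁⟩ : ∃ k₁, k₁ = orderOf G₁ := ⟨_, rfl⟩
  obtain ⟨k₂, hk₂⟩ : ∃ k₂, k₂ = orderOf G₂ := ⟨_, rfl⟩
  rw [← hk₁] at hodd₁ h31 hT₁ ⊢
  rw [← hk₂] at hodd₂ h32 hT₂ ⊢
  obtain ⟨Q, hQ⟩ : ∃ Q, Q = Fintype.card F ^ n := ⟨_, rfl⟩
  rw [← hQ] at hT₁ hT₂
  have hQodd : Odd Q := by
    rw [hQ]
    exact hq.pow
  have hQ4 : 4 ∣ Q + 1 ∨ 4 ∣ Q - 1 := by
    obtain ⟨r, hr⟩ := hQodd
    omega
  have hLodd : Odd (Nat.lcm k₁ k₂) :=
    Odd.of_dvd_nat (hodd₁.mul hodd₂) (Nat.lcm_dvd_mul k₁ k₂)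
  have hL3 : 3 ≤ Nat.lcm k₁ k₂ := by
    have h1 : k₁ ∣ Nat.lcm k₁ k₂ := Nat.dvd_lcm_left k₁ k₂
    have h3 := Nat.le_of_dvd hLodd.pos h1
    omega
  have hcop4 : ∀ k : ℕ, Odd k → Nat.Coprime 4 k := by
    intro k hk
    have h1 : Nat.Coprime (2 ^ 2) k := Nat.Coprime.pow_left 2 (Nat.coprime_two_left.mpr hk)
    exact h1
  have hplus : ∀ k : ℕ, Odd k → k ∣ Q + 1 → 4 ∣ Q + 1 →
      ∃ h : Cfsg.PSp n F, orderOf h = 2 * k := by
    intro k hk hkd h4
    have h1 : 4 * k ∣ Q + 1 := Nat.Coprime.mul_dvd_of_dvd_of_dvd (hcop4 k hk) h4 hkd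
    rw [hQ] at h1
    obtain ⟨X, hX⟩ := torus_plus_n p (by omega) h2 (4 * k) h1 (by have := hk.pos; omega)
    exact exists_two_mul_of_four (by omega) X k hk.pos hX
  have hminus : ∀ k : ℕ, Odd k → k ∣ Q - 1 → 4 ∣ Q - 1 →
      ∃ h : Cfsg.PSp n F, orderOf h = 2 * k := by
    intro k hk hkd h4
    have h1 : 4 * k ∣ Q - 1 := Nat.Coprime.mul_dvd_of_dvd_of_dvd (hcop4 k hk) h4 hkd
    rw [hQ] at h1
    obtain ⟨X, hX⟩ := exists_torus_minus p n (by omega) (4 * k) h1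
    exact exists_two_mul_of_four (by omega) X k hk.pos hX
  rcases hT₁ with hA₁ | hB₁ <;> rcases hT₂ with hA₂ | hB₂
  · left
    have h1 : Nat.lcm k₁ k₂ ∣ Q + 1 := Nat.lcm_dvd hA₁ hA₂
    rw [hQ] at h1
    obtain ⟨X, hX⟩ := torus_plus_n p (by omega) h2 _ h1 hL3
    exact ⟨pr X, by rw [order_pr_of_odd (by omega) X (by rw [hX]; exact hLodd), hX]⟩
  · rcases hQ4 with h4 | h4
    · right
      left
      exact hplus k₁ hodd₁ hA₁ h4
    · right
      right
      exact hminus k₂ hodd₂ hB₂ h4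
  · rcases hQ4 with h4 | h4
    · right
      right
      exact hplus k₂ hodd₂ hA₂ h4
    · right
      left
      exact hminus k₁ hodd₁ hB₁ h4
  · left
    have h1 : Nat.lcm k₁ k₂ ∣ Q - 1 := Nat.lcm_dvd hB₁ hB₂
    rw [hQ] at h1
    obtain ⟨X, hX⟩ := exists_torus_minus p n (by omega) _ h1
    exact ⟨pr X, by rw [order_pr_of_odd (by omega) X (by rw [hX]; exact hLodd), hX]⟩

end cases

section singular
variable {F : Type*} [Field F] [Fintype F] {n : ℕ}

/-- the product of a negated element of odd order in a small symplectic group with a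
unipotent element of order `p ^ c` on the orthogonal complement -/
theorem construct (p : ℕ) [hp : Fact p.Prime] [CharP F p] (h2 : (2 : F) ≠ 0) (hp2 : p ≠ 2)
    (w : ℕ) (hw : 1 ≤ w) (Y : Matrix.symplecticGroup (Fin w) F) (hY : Odd (orderOf Y))
    (hpY : ¬ p ∣ orderOf Y) (c : ℕ) (hc : 1 ≤ c) (hb : p ^ (c - 1) + 1 + 2 * w ≤ 2 * n) :
    ∃ h : Cfsg.PSp n F, orderOf h = 2 * orderOf Y * p ^ c := by
  have hwn : w ≤ n := by omega
  obtain ⟨b, rfl⟩ := Nat.exists_eq_add_of_le hwn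
  have hpodd : Odd p := hp.out.odd_of_ne_two hp2
  obtain ⟨m, hm⟩ : ∃ m, m = p ^ (c - 1) := ⟨_, rfl⟩
  have hmodd : Odd m := by
    rw [hm]
    exact hpodd.pow
  obtain ⟨j, hj⟩ : ∃ j, m + 1 = 2 * j := by
    obtain ⟨r, hr⟩ := hmodd
    exact ⟨r + 1, by omega⟩
  rw [← hm] at hb
  have hj1 : 1 ≤ j := by omega
  have hjb : j ≤ b := by omega
  have hneb : NeZero b := ⟨by omega⟩
  have hnew : NeZero w := ⟨by omega⟩
  have hpc : p ^ c = m * p := by
    rw [hm, ← pow_succ]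
    congr 1
    omega
  have h2j : 2 * j ≤ p ^ c := by
    rw [hpc]
    have h1 : m * 2 ≤ m * p := Nat.mul_le_mul_left m hp.out.two_le
    have h3 : 1 ≤ m := hmodd.pos
    omega
  obtain ⟨u, hu0, hu1⟩ := exists_unipotent (F := F) b j hj1 hjb
  obtain ⟨um, hum⟩ : ∃ um : Matrix (Fin b ⊕ Fin b) (Fin b ⊕ Fin b) F, um = u := ⟨_, rfl⟩
  rw [← hum] at hu0 hu1
  have hupc : um ^ p ^ c = 1 := by
    have h1 : (um - 1) ^ p ^ c = 0 := by
      rw [← Nat.sub_add_cancel h2j, pow_add, hu0, mul_zero]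
    rw [sub_pow_char_pow_of_commute p c (Commute.one_right um), one_pow, sub_eq_zero] at h1
    exact h1
  have hupc' : um ^ p ^ (c - 1) ≠ 1 := by
    intro h
    apply hu1
    have h1 : 2 * j - 1 = p ^ (c - 1) := by omega
    rw [h1, sub_pow_char_pow_of_commute p (c - 1) (Commute.one_right um), h, one_pow, sub_self]
  have hu_iff : ∀ i : ℕ, um ^ i = 1 ↔ p ^ c ∣ i := by
    have ho : orderOf um = p ^ c := by
      obtain ⟨e, he, heq⟩ := (Nat.dvd_prime_pow hp.out).mp (orderOf_dvd_of_pow_eq_one hupc)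
      by_cases hec : e = c
      · rw [heq, hec]
      · exfalso
        apply hupc'
        have h1 : p ^ e ∣ p ^ (c - 1) := pow_dvd_pow p (by omega)
        rw [← heq] at h1
        exact orderOf_dvd_iff_pow_eq_one.mp h1
    intro i
    rw [← ho]
    exact orderOf_dvd_iff_pow_eq_one.symm
  obtain ⟨Ym, hYm⟩ : ∃ Ym : Matrix (Fin w ⊕ Fin w) (Fin w ⊕ Fin w) F, Ym = Y := ⟨_, rfl⟩
  obtain ⟨k, hk⟩ : ∃ k, k = orderOf Y := ⟨_, rfl⟩
  rw [← hk] at hY hpY ⊢
  have hY_iff : ∀ i : ℕ, Ym ^ i = 1 ↔ k ∣ i := by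
    intro i
    rw [hYm, ← sp_pow_eq_one_iff, hk]
    exact orderOf_dvd_iff_pow_eq_one.symm
  have hmem : blk (-Ym) um ∈ Matrix.symplecticGroup (Fin (w + b)) F := by
    apply blk_mem
    · rw [hYm]
      exact SymplecticGroup.neg_mem Y.2
    · rw [hum]
      exact u.2
  refine ⟨pr (⟨_, hmem⟩ : Matrix.symplecticGroup (Fin (w + b)) F), ?_⟩
  apply orderOf_eq_of_pow_iff
  intro i
  rw [pr_pow_eq_one_iff (by omega)]
  show (∃ c₀ : F, c₀ * c₀ = 1 ∧ blk (-Ym) um ^ i = c₀ • 1) ↔ 2 * k * p ^ c ∣ i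
  rw [blk_pow]
  have hcop1 : Nat.Coprime 2 k := Nat.coprime_two_left.mpr hY
  have hcop2 : Nat.Coprime (2 * k) (p ^ c) := by
    apply Nat.Coprime.pow_right
    apply Nat.Coprime.symm
    rw [Nat.Prime.coprime_iff_not_dvd hp.out]
    intro h
    rcases (Nat.Prime.dvd_mul hp.out).mp h with h3 | h3
    · exact hp2 ((Nat.prime_dvd_prime_iff_eq hp.out Nat.prime_two).mp h3)
    · exact hpY h3
  constructor
  · rintro ⟨c₀, hcc, hX⟩
    have hX' : blk ((-Ym) ^ i) (um ^ i) = blk (c₀ • (1 : Matrix (Fin w ⊕ Fin w) (Fin w ⊕ Fin w) F))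
        (c₀ • (1 : Matrix (Fin b ⊕ Fin b) (Fin b ⊕ Fin b) F)) := by
      rw [hX, blk_smul, blk_one]
    obtain ⟨hY1, hU1⟩ := blk_inj _ _ _ _ hX'
    have hc1 : c₀ = 1 := by
      have h1 : (um ^ i) ^ p ^ c = 1 := by
        rw [← pow_mul, mul_comm, pow_mul, hupc, one_pow]
      rw [hU1, _root_.smul_pow, one_pow] at h1
      exact eq_one_of_sq_of_odd_pow c₀ hcc (p ^ c) hpodd.pow (scalar_eq_one _ h1)
    rw [hc1, one_smul] at hY1 hU1
    have hpi : p ^ c ∣ i := (hu_iff i).mp hU1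
    rcases Nat.even_or_odd i with hev | hod
    · rw [hev.neg_pow] at hY1
      have hki : k ∣ i := (hY_iff i).mp hY1
      have h2i : 2 ∣ i := hev.two_dvd
      exact Nat.Coprime.mul_dvd_of_dvd_of_dvd hcop2
        (Nat.Coprime.mul_dvd_of_dvd_of_dvd hcop1 h2i hki) hpi
    · exfalso
      rw [hod.neg_pow] at hY1
      have h1 : (Ym ^ i) ^ k = 1 := by
        rw [← pow_mul, mul_comm, pow_mul, (hY_iff k).mpr dvd_rfl, one_pow]
      have h3 : Ym ^ i = -1 := by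
        rw [← hY1, neg_neg]
      rw [h3, hY.neg_one_pow] at h1
      have h4 := congrFun (congrFun h1 (Sum.inl ⟨0, by omega⟩)) (Sum.inl ⟨0, by omega⟩)
      rw [Matrix.neg_apply, Matrix.one_apply_eq] at h4
      apply h2
      linear_combination -h4
  · rintro ⟨s, rfl⟩
    refine ⟨1, one_mul 1, ?_⟩
    have hev : Even (2 * k * p ^ c * s) := ⟨k * p ^ c * s, by ring⟩
    rw [hev.neg_pow, (hY_iff _).mpr ⟨2 * p ^ c * s, by ring⟩,
      (hu_iff _).mpr ⟨2 * k * s, by ring⟩, blk_one, one_smul]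

/-- an indecomposable element of odd order divisible by `p` can be replaced by an element of
twice its order -/
theorem order_singular (p : ℕ) [hp : Fact p.Prime] [CharP F p] (hn : 2 ≤ n) (h2 : (2 : F) ≠ 0)
    (hnp : ¬ ∃ j : ℕ, 2 * n - 1 = p ^ j)
    (G : Matrix.symplecticGroup (Fin n) F) (hodd : Odd (orderOf G)) (hpG : p ∣ orderOf G)
    (hdec : ¬ DecS (Jn n F) (rho (G : Matrix (Fin n ⊕ Fin n) (Fin n ⊕ Fin n) F))) :
    ∃ h : Cfsg.PSp n F, orderOf h = 2 * orderOf G := by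
  have hne : NeZero (n + n) := ⟨by omega⟩
  obtain ⟨o, ho⟩ : ∃ o, o = orderOf G := ⟨_, rfl⟩
  rw [← ho] at hodd hpG ⊢
  have ho0 : 0 < o := hodd.pos
  obtain ⟨c, hc⟩ : ∃ c, c = o.factorization p := ⟨_, rfl⟩
  obtain ⟨k, hk⟩ : ∃ k, k = o / p ^ c := ⟨_, rfl⟩
  have hmul : p ^ c * k = o := by
    rw [hk, hc]
    exact Nat.ordProj_mul_ordCompl_eq_self o p
  have hpk : ¬ p ∣ k := by
    rw [hk, hc]
    exact Nat.not_dvd_ordCompl hp.out ho0.ne'
  have hc1 : 1 ≤ c := by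
    rw [hc]
    exact hp.out.factorization_pos_of_dvd ho0.ne' hpG
  have hkodd : Odd k := Odd.of_dvd_nat hodd ⟨p ^ c, by rw [← hmul, mul_comm]⟩
  have hk0 : 0 < k := hkodd.pos
  have hp2 : p ≠ 2 := by
    rintro rfl
    obtain ⟨r, hr⟩ := hodd
    obtain ⟨t, ht⟩ := hpG
    omega
  have hpodd : Odd p := hp.out.odd_of_ne_two hp2
  have hpc0 : 0 < p ^ c := pow_pos hp.out.pos c
  obtain ⟨g, hg⟩ : ∃ g, g = rho (G : Matrix (Fin n ⊕ Fin n) (Fin n ⊕ Fin n) F) := ⟨_, rfl⟩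
  rw [← hg] at hdec
  have hgi : ∀ i : ℕ, g ^ i = 1 ↔ o ∣ i := by
    intro i
    rw [hg, rho_pow_eq_one_iff, ← sp_pow_eq_one_iff, ho]
    exact orderOf_dvd_iff_pow_eq_one.symm
  have hU : sa (Jn n F) g * g = 1 := by
    rw [hg]
    exact rho_isom _ G.2
  obtain ⟨m, hm⟩ : ∃ m, m = p ^ (c - 1) := ⟨_, rfl⟩
  have hmodd : Odd m := by
    rw [hm]
    exact hpodd.pow
  have hpcm : p ^ c = m * p := by
    rw [hm, ← pow_succ]
    congr 1
    omega
  have hTm : (g ^ k) ^ m ≠ 1 := by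
    intro h
    rw [← pow_mul, hgi, ← hmul, hpcm] at h
    have h1 : m * p * k = (k * m) * p := by ring
    rw [h1] at h
    have h3 := Nat.le_of_dvd (Nat.mul_pos hk0 hmodd.pos) ((Nat.dvd_of_mul_dvd_mul_left
      (Nat.mul_pos hk0 hmodd.pos) (by rw [mul_one]; exact h) : p ∣ 1).mul_left (k * m) |>.trans
      (by rw [mul_one]))
    have h4 : p ∣ 1 := Nat.dvd_of_mul_dvd_mul_left (Nat.mul_pos hk0 hmodd.pos)
      (by rw [mul_one]; exact h)
    exact hp.out.one_lt.ne' (Nat.dvd_one.mp h4)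
  have hNm : (g ^ k - 1) ^ m ≠ 0 := by
    rw [hm, sub_pow_char_pow_of_commute p (c - 1) (Commute.one_right (g ^ k)), one_pow, ← hm]
    exact sub_ne_zero.mpr hTm
  have hNk : (g ^ k - 1) ^ p ^ c = 0 := by
    rw [sub_pow_char_pow_of_commute p c (Commute.one_right (g ^ k)), one_pow, sub_eq_zero,
      ← pow_mul, hgi, ← hmul, mul_comm]
  have hm_lt : m < n + n := by
    by_contra hge
    push Not at hge
    apply hNm
    have h1 := Cfsg.Agent.Lib.Helper42.PslOrdB.pow_eq_zero_of_nilpotent (g ^ k - 1) (p ^ c) hNk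
    rw [← Nat.sub_add_cancel hge, pow_add, h1, mul_zero]
  have hm3 : m + 3 ≤ 2 * n := by
    have h1 : m ≠ 2 * n - 1 := by
      intro h
      exact hnp ⟨c - 1, by rw [← hm, h]⟩
    obtain ⟨r, hr⟩ := hmodd
    omega
  by_cases hk1 : k = 1
  · obtain ⟨h, hh⟩ := construct (n := n) p h2 hp2 1 le_rfl
      (1 : Matrix.symplecticGroup (Fin 1) F) (by rw [orderOf_one]; exact odd_one)
      (by rw [orderOf_one]; exact hp.out.one_lt.ne' ∘ Nat.dvd_one.mp) c hc1
      (by rw [← hm]; omega)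
    refine ⟨h, ?_⟩
    rw [hh, orderOf_one, ← hmul, hk1]
    ring
  · have hS : (g ^ p ^ c) ^ k = 1 := by
      rw [← pow_mul, hgi, hmul]
    have hs2 : g ^ p ^ c * g ^ p ^ c ≠ 1 := by
      intro h
      rw [← pow_add, hgi, ← hmul, ← two_mul, mul_comm 2 (p ^ c)] at h
      have h1 : k ∣ 2 := Nat.dvd_of_mul_dvd_mul_left hpc0 h
      have h3 := Nat.le_of_dvd (by norm_num) h1
      obtain ⟨r, hr⟩ := hkodd
      omega
    obtain ⟨w, hw1, hor, hbound⟩ := ppart_bound p (Jn n F) Jn_transpose Jn_sq (by omega) g hU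
      hdec c k hk0 hpk hS hs2 m (p ^ c) hmodd.pos hNm hNk
    have hkdvd : ∀ i : ℕ, (g ^ p ^ c) ^ i = 1 → k ∣ i := by
      intro i h
      rw [← pow_mul, hgi, ← hmul] at h
      exact Nat.dvd_of_mul_dvd_mul_left hpc0 h
    have hk3 : 3 ≤ k := by
      obtain ⟨r, hr⟩ := hkodd
      omega
    have hfin : ∀ (w' : ℕ) (Y : Matrix.symplecticGroup (Fin w') F), 1 ≤ w' → w' ≤ w →
        orderOf Y = k → ∃ h : Cfsg.PSp n F, orderOf h = 2 * o := by
      intro w' Y hw'1 hw'w hYk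
      obtain ⟨h, hh⟩ := construct (n := n) p h2 hp2 w' hw'1 Y (by rw [hYk]; exact hkodd)
        (by rw [hYk]; exact hpk) c hc1 (by rw [← hm]; omega)
      refine ⟨h, ?_⟩
      rw [hh, hYk, ← hmul]
      ring
    rcases hor with hplus | hminus
    · obtain ⟨w', hw'1, hw'w, Y, hYk⟩ := exists_torus_plus p h2 w hw1 k (hkdvd _ hplus) hk3
      exact hfin w' Y hw'1 hw'w hYk
    · obtain ⟨Y, hYk⟩ := exists_torus_minus p w hw1 k (hkdvd _ hminus)
      exact hfin w Y hw1 le_rfl hYk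

end singular

end Cfsg.Agent.Lib.Helper42.SpOrdD
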