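import Mathlib

/-!
# Wreath products inside symplectic groups

* `sympHom`: a general principle producing homomorphisms into `Matrix.symplecticGroup`.
* `BM`: block-monomial matrices; `dblHom`: from an injective `φ : D →* Sp(l)` an injective
  `D ≀ᵣ Q →* Sp(Q × l)`.
* `extHom`: `Sp(l) →* Sp(n')` for an equivalence `l ⊕ c ≃ n'` (extension by the identity).
* `wreath_step`: derived series of a regular wreath product with a nontrivial commutative group.
-/

set_option autoImplicit false
set_option linter.unusedSectionVars false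

open scoped commutatorElement
open Matrix

namespace Cfsg.Agent.Lib.Helper42.SpWr

section general

variable {F : Type*} [CommRing F]

/-- A homomorphism into matrices preserving a form `J'` which is the standard `J` up to an
equivalence of index types gives a homomorphism into the symplectic group. -/
def sympHom {G : Type*} [Group G] {m I : Type*} [Fintype m] [DecidableEq m] [Fintype I]
    [DecidableEq I] (θ : m ⊕ m ≃ I) (J' : Matrix I I F)
    (hJ : Matrix.J m F = J'.submatrix θ θ) (T : G →* Matrix I I F)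
    (hT : ∀ g, T g * J' * (T g)ᵀ = J') : G →* Matrix.symplecticGroup m F where
  toFun g := ⟨(T g).submatrix θ θ, by
    rw [SymplecticGroup.mem_iff, hJ, Matrix.transpose_submatrix, Matrix.submatrix_mul_equiv,
      Matrix.submatrix_mul_equiv, hT]⟩
  map_one' := by
    apply Subtype.ext
    simp
  map_mul' g h := by
    apply Subtype.ext
    simp [Matrix.submatrix_mul_equiv]

theorem sympHom_injective {G : Type*} [Group G] {m I : Type*} [Fintype m] [DecidableEq m]
    [Fintype I] [DecidableEq I] (θ : m ⊕ m ≃ I) (J' : Matrix I I F)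
    (hJ : Matrix.J m F = J'.submatrix θ θ) (T : G →* Matrix I I F)
    (hT : ∀ g, T g * J' * (T g)ᵀ = J') (hinj : Function.Injective T) :
    Function.Injective (sympHom θ J' hJ T hT) := by
  intro g h hgh
  apply hinj
  have h1 : (T g).submatrix θ θ = (T h).submatrix θ θ := congrArg Subtype.val hgh
  ext x y
  have h2 := congrFun (congrFun h1 (θ.symm x)) (θ.symm y)
  simpa using h2

end general

section bm

variable {F : Type*} [CommRing F] {Q : Type*} [Fintype Q] [DecidableEq Q]
  {n : Type*} [Fintype n] [DecidableEq n]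

/-- Block-monomial matrices. -/
def BM (s : Q → Q) (M : Q → Matrix n n F) : Matrix (Q × n) (Q × n) F :=
  fun x y => if y.1 = s x.1 then M x.1 x.2 y.2 else 0

theorem BM_mul (s t : Q → Q) (M N : Q → Matrix n n F) :
    BM s M * BM t N = BM (t ∘ s) (fun q => M q * N (s q)) := by
  ext ⟨q, i⟩ ⟨q'', k⟩
  simp only [BM, Matrix.mul_apply, Fintype.sum_prod_type, Function.comp_apply]
  rw [Finset.sum_eq_single (s q)]
  · simp only [if_true]
    split_ifs with h
    · rfl
    · simp
  · intro q' _ hne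
    apply Finset.sum_eq_zero
    intro j _
    rw [if_neg hne, zero_mul]
  · simp

theorem BM_transpose (s : Equiv.Perm Q) (M : Q → Matrix n n F) :
    (BM s M)ᵀ = BM s.symm (fun q => (M (s.symm q))ᵀ) := by
  ext ⟨q, i⟩ ⟨q', k⟩
  simp only [BM, Matrix.transpose_apply]
  by_cases h : q = s q'
  · subst h
    simp
  · rw [if_neg h, if_neg]
    intro h2
    apply h
    rw [h2]
    simp

theorem BM_one : BM (id : Q → Q) (fun _ => (1 : Matrix n n F)) = 1 := by
  ext ⟨q, i⟩ ⟨q', k⟩
  simp only [BM, id, Matrix.one_apply, Prod.mk.injEq]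
  by_cases h : q' = q
  · subst h
    simp
  · rw [if_neg h, if_neg]
    intro h2
    exact h h2.1.symm

theorem BM_congr {s s' : Q → Q} {M M' : Q → Matrix n n F} (hs : ∀ q, s q = s' q)
    (hM : ∀ q, M q = M' q) : BM s M = BM s' M' := by
  have h1 : s = s' := funext hs
  have h2 : M = M' := funext hM
  rw [h1, h2]

theorem BM_injective (s s' : Q → Q) (M M' : Q → Matrix n n F) [Nonempty n] [Nontrivial F]
    (hM : ∀ q, M q = 1) (h : BM s M = BM s' M') : ∀ q, s q = s' q := by
  intro q
  obtain ⟨i⟩ := ‹Nonempty n›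
  have h1 := congrFun (congrFun h (q, i)) (s q, i)
  simp only [BM, if_true, hM, Matrix.one_apply_eq] at h1
  by_contra hne
  rw [if_neg hne] at h1
  exact one_ne_zero h1

end bm

section bm2

variable {F : Type*} [CommRing F] {Q : Type*} [Fintype Q] [DecidableEq Q]
  {n : Type*} [Fintype n] [DecidableEq n]

theorem BM_inj (s s' : Q → Q) (M M' : Q → Matrix n n F) (hM : ∀ q, M q ≠ 0)
    (h : BM s M = BM s' M') : (∀ q, s q = s' q) ∧ (∀ q, M q = M' q) := by
  have h1 : ∀ q, s q = s' q := by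
    intro q
    by_contra hne
    apply hM q
    ext i k
    have h2 := congrFun (congrFun h (q, i)) (s q, k)
    simp only [BM, if_true] at h2
    rw [if_neg hne] at h2
    simpa using h2
  refine ⟨h1, ?_⟩
  intro q
  ext i k
  have h2 := congrFun (congrFun h (q, i)) (s q, k)
  simp only [BM, if_true] at h2
  rw [if_pos (h1 q)] at h2
  exact h2

end bm2

section dbl

variable {F : Type*} [CommRing F] {Q : Type*} [Group Q] [Fintype Q] [DecidableEq Q]
  {l : Type*} [Fintype l] [DecidableEq l] {D : Type*} [Group D]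

/-- The block-monomial matrix of an element of the wreath product. -/
def wrMat (φ : D →* Matrix.symplecticGroup l F) (a : D ≀ᵣ Q) :
    Matrix (Q × (l ⊕ l)) (Q × (l ⊕ l)) F :=
  BM (fun q => a.right⁻¹ * q) (fun q => (φ (a.left q)).1)

/-- `wrMat` as a monoid homomorphism. -/
def wrHom (φ : D →* Matrix.symplecticGroup l F) :
    D ≀ᵣ Q →* Matrix (Q × (l ⊕ l)) (Q × (l ⊕ l)) F where
  toFun := wrMat φ
  map_one' := by
    unfold wrMat
    rw [← BM_one]
    apply BM_congr
    · intro q; simp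
    · intro q; simp
  map_mul' a b := by
    unfold wrMat
    rw [BM_mul]
    apply BM_congr
    · intro q; simp [mul_assoc]
    · intro q; simp

/-- The block-diagonal form. -/
def JQ (F : Type*) [CommRing F] (Q : Type*) [Fintype Q] [DecidableEq Q] (l : Type*) [Fintype l]
    [DecidableEq l] : Matrix (Q × (l ⊕ l)) (Q × (l ⊕ l)) F :=
  BM id (fun _ => Matrix.J l F)

theorem wrMat_form (φ : D →* Matrix.symplecticGroup l F) (a : D ≀ᵣ Q) :
    wrMat φ a * JQ F Q l * (wrMat φ a)ᵀ = JQ F Q l := by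
  have h1 : wrMat φ a = BM (Equiv.mulLeft a.right⁻¹) (fun q => (φ (a.left q)).1) := rfl
  rw [h1, JQ, BM_transpose, BM_mul, BM_mul]
  apply BM_congr
  · intro q; simp
  · intro q
    have h2 := (φ (a.left q)).2
    rw [SymplecticGroup.mem_iff] at h2
    simpa using h2

theorem JQ_eq : Matrix.J (Q × l) F = (JQ F Q l).submatrix (Equiv.prodSumDistrib Q l l).symm
    (Equiv.prodSumDistrib Q l l).symm := by
  ext x y
  obtain ⟨⟨q, x'⟩, rfl⟩ := (Equiv.prodSumDistrib Q l l).surjective x
  obtain ⟨⟨q', y'⟩, rfl⟩ := (Equiv.prodSumDistrib Q l l).surjective y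
  simp only [Matrix.submatrix_apply, Equiv.symm_apply_apply]
  rcases x' with i | i <;> rcases y' with k | k <;>
    simp [JQ, BM, Matrix.J, Matrix.one_apply] <;>
    (by_cases hq : q' = q
     · subst hq; simp
     · have hq' : ¬ q = q' := fun h => hq h.symm
       simp [hq, hq'])

/-- The doubling homomorphism. -/
def dblHom (φ : D →* Matrix.symplecticGroup l F) :
    D ≀ᵣ Q →* Matrix.symplecticGroup (Q × l) F :=
  sympHom (Equiv.prodSumDistrib Q l l).symm (JQ F Q l) JQ_eq (wrHom φ) (wrMat_form φ)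

theorem symp_ne_zero [Nonempty l] [Nontrivial F] (A : Matrix.symplecticGroup l F) :
    A.1 ≠ 0 := by
  intro h0
  have h1 := SymplecticGroup.symplectic_det A.2
  rw [h0, Matrix.det_zero] at h1
  exact not_isUnit_zero h1

theorem dblHom_injective [Nonempty l] [Nontrivial F] (φ : D →* Matrix.symplecticGroup l F)
    (hφ : Function.Injective φ) : Function.Injective (dblHom (Q := Q) φ) := by
  apply sympHom_injective
  intro a b hab
  have h1 : BM (fun q => a.right⁻¹ * q) (fun q => (φ (a.left q)).1) =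
      BM (fun q => b.right⁻¹ * q) (fun q => (φ (b.left q)).1) := hab
  obtain ⟨h2, h3⟩ := BM_inj _ _ _ _ (fun q => symp_ne_zero _) h1
  have h4 : a.right = b.right := by
    have := h2 1
    simpa using this
  have h5 : a.left = b.left := by
    funext q
    apply hφ
    exact Subtype.ext (h3 q)
  exact RegularWreathProduct.ext h5 h4

end dbl

section ext

variable {F : Type*} [CommRing F] {l c m : Type*} [Fintype l] [DecidableEq l] [Fintype c]
  [DecidableEq c] [Fintype m] [DecidableEq m]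

/-- Extension by the identity block. -/
def extMat : Matrix.symplecticGroup l F →*
    Matrix ((l ⊕ l) ⊕ (c ⊕ c)) ((l ⊕ l) ⊕ (c ⊕ c)) F where
  toFun A := Matrix.fromBlocks A.1 0 0 1
  map_one' := by
    simp [Matrix.fromBlocks_one]
  map_mul' A B := by
    simp [Matrix.fromBlocks_multiply]

/-- The block-diagonal form for the extension. -/
def JE (F : Type*) [CommRing F] (l c : Type*) [DecidableEq l] [DecidableEq c] :
    Matrix ((l ⊕ l) ⊕ (c ⊕ c)) ((l ⊕ l) ⊕ (c ⊕ c)) F :=
  Matrix.fromBlocks (Matrix.J l F) 0 0 (Matrix.J c F)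

theorem extMat_form (A : Matrix.symplecticGroup l F) :
    extMat (c := c) A * JE F l c * (extMat (c := c) A)ᵀ = JE F l c := by
  have h2 := A.2
  rw [SymplecticGroup.mem_iff] at h2
  show Matrix.fromBlocks A.1 0 0 1 * Matrix.fromBlocks (Matrix.J l F) 0 0 (Matrix.J c F) *
    (Matrix.fromBlocks A.1 0 0 1)ᵀ = _
  rw [Matrix.fromBlocks_transpose, Matrix.fromBlocks_multiply, Matrix.fromBlocks_multiply]
  simp [h2, JE]

/-- The index equivalence for the extension. -/
def extEquiv (e : l ⊕ c ≃ m) : (l ⊕ l) ⊕ (c ⊕ c) ≃ m ⊕ m :=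
  (Equiv.sumSumSumComm l l c c).trans (Equiv.sumCongr e e)

theorem JE_eq (e : l ⊕ c ≃ m) :
    Matrix.J m F = (JE F l c).submatrix (extEquiv e).symm (extEquiv e).symm := by
  ext x y
  obtain ⟨x', rfl⟩ := (extEquiv e).surjective x
  obtain ⟨y', rfl⟩ := (extEquiv e).surjective y
  simp only [Matrix.submatrix_apply, Equiv.symm_apply_apply]
  rcases x' with (i | i) | (i | i) <;> rcases y' with (k | k) | (k | k) <;>
    simp [extEquiv, JE, Matrix.J, Matrix.one_apply]

/-- The extension homomorphism. -/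
def extHom (e : l ⊕ c ≃ m) : Matrix.symplecticGroup l F →* Matrix.symplecticGroup m F :=
  sympHom (extEquiv e).symm (JE F l c) (JE_eq e) extMat extMat_form

theorem extHom_injective (e : l ⊕ c ≃ m) :
    Function.Injective (extHom (F := F) e) := by
  apply sympHom_injective
  intro A B hAB
  have h1 : Matrix.fromBlocks A.1 0 0 (1 : Matrix (c ⊕ c) (c ⊕ c) F) =
      Matrix.fromBlocks B.1 0 0 1 := hAB
  rw [Matrix.fromBlocks_inj] at h1
  exact Subtype.ext h1.1

end ext

section wreath

universe u v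

theorem DS1 {G : Type u} [Group G] (n : ℕ) :
    (derivedSeries ↥(commutator G) n).map (commutator G).subtype = derivedSeries G (n + 1) := by
  induction n with
  | zero =>
    rw [derivedSeries_zero, derivedSeries_one, ← MonoidHom.range_eq_map, Subgroup.range_subtype]
  | succ n ih =>
    rw [derivedSeries_succ, Subgroup.map_commutator, ih, derivedSeries_succ G (n + 1)]

theorem wreath_step {D : Type u} {Q : Type v} [Group D] [CommGroup Q] (q₁ : Q) (hq : q₁ ≠ 1)
    (j : ℕ) (h : derivedSeries D j ≠ ⊥) : derivedSeries (D ≀ᵣ Q) (j + 1) ≠ ⊥ := by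
  classical
  have hCker : ∀ c ∈ commutator (D ≀ᵣ Q), c.right = 1 := by
    intro c hc
    have := Abelianization.commutator_subset_ker
      (RegularWreathProduct.rightHom (D := D) (Q := Q)) hc
    rw [MonoidHom.mem_ker] at this
    exact this
  let φ : ↥(commutator (D ≀ᵣ Q)) →* D :=
    { toFun := fun c => c.1.left 1
      map_one' := rfl
      map_mul' := fun a b => by
        show (a.1 * b.1).left 1 = a.1.left 1 * b.1.left 1
        rw [RegularWreathProduct.mul_left]
        simp [hCker a.1 a.2] }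
  have hφ : Function.Surjective φ := by
    intro d
    refine ⟨⟨⁅(⟨Pi.mulSingle 1 d, 1⟩ : D ≀ᵣ Q), (⟨1, q₁⟩ : D ≀ᵣ Q)⁆, ?_⟩, ?_⟩
    · rw [commutator_def]
      exact Subgroup.commutator_mem_commutator (Subgroup.mem_top _) (Subgroup.mem_top _)
    · show (⁅(⟨Pi.mulSingle 1 d, 1⟩ : D ≀ᵣ Q), (⟨1, q₁⟩ : D ≀ᵣ Q)⁆).left 1 = d
      rw [commutatorElement_def]
      have hq' : q₁⁻¹ ≠ 1 := by simpa using hq
      simp [Pi.mulSingle_apply, hq']
  have h1 : (derivedSeries ↥(commutator (D ≀ᵣ Q)) j).map φ = derivedSeries D j :=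
    map_derivedSeries_eq hφ j
  intro hbot
  rw [← DS1, Subgroup.map_eq_bot_iff_of_injective _ (Subgroup.subtype_injective _)] at hbot
  rw [hbot, Subgroup.map_bot] at h1
  exact h h1.symm

end wreath

section base

variable {F : Type*} [CommRing F] {l : Type*} [Fintype l] [DecidableEq l]

/-- Scalar-block matrices. -/
def sb (x y z w : F) : Matrix (l ⊕ l) (l ⊕ l) F :=
  Matrix.fromBlocks (x • 1) (y • 1) (z • 1) (w • 1)

theorem sb_mul (x y z w x' y' z' w' : F) :
    (sb x y z w : Matrix (l ⊕ l) (l ⊕ l) F) * sb x' y' z' w' =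
      sb (x * x' + y * z') (x * y' + y * w') (z * x' + w * z') (z * y' + w * w') := by
  have h : ∀ a b : F, (a • (1 : Matrix l l F)) * (b • 1) = (a * b) • 1 := by
    intro a b
    rw [Matrix.smul_mul, Matrix.mul_smul, Matrix.one_mul, smul_smul]
  unfold sb
  rw [Matrix.fromBlocks_multiply]
  simp only [h, ← add_smul]

theorem sb_transpose (x y z w : F) :
    (sb x y z w : Matrix (l ⊕ l) (l ⊕ l) F)ᵀ = sb x z y w := by
  unfold sb
  rw [Matrix.fromBlocks_transpose]
  simp [Matrix.transpose_smul]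

theorem sb_one : (sb 1 0 0 1 : Matrix (l ⊕ l) (l ⊕ l) F) = 1 := by
  unfold sb
  simp [Matrix.fromBlocks_one]

theorem J_eq_sb : Matrix.J l F = sb 0 (-1) 1 0 := by
  unfold sb Matrix.J
  simp

theorem sb_congr {x y z w x' y' z' w' : F} (h1 : x = x') (h2 : y = y') (h3 : z = z')
    (h4 : w = w') : (sb x y z w : Matrix (l ⊕ l) (l ⊕ l) F) = sb x' y' z' w' := by
  rw [h1, h2, h3, h4]

theorem sb_inj [Nonempty l] {x y z w x' y' z' w' : F}
    (h : (sb x y z w : Matrix (l ⊕ l) (l ⊕ l) F) = sb x' y' z' w') :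
    x = x' ∧ y = y' ∧ z = z' ∧ w = w' := by
  obtain ⟨i⟩ := ‹Nonempty l›
  have key : ∀ a b : F, a • (1 : Matrix l l F) = b • 1 → a = b := by
    intro a b hab
    have := congrFun (congrFun hab i) i
    simpa using this
  unfold sb at h
  rw [Matrix.fromBlocks_inj] at h
  exact ⟨key _ _ h.1, key _ _ h.2.1, key _ _ h.2.2.1, key _ _ h.2.2.2⟩

/-- An element of order four anticommuting with `J`. -/
def Ig (a b : F) (h : a ^ 2 + b ^ 2 = -1) : Matrix.symplecticGroup l F :=
  ⟨sb a b b (-a), by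
    rw [SymplecticGroup.mem_iff, J_eq_sb, sb_transpose, sb_mul, sb_mul]
    apply sb_congr
    · ring
    · linear_combination h
    · linear_combination -h
    · ring⟩

/-- The element `J` of the symplectic group. -/
def Jg (F : Type*) [CommRing F] (l : Type*) [Fintype l] [DecidableEq l] :
    Matrix.symplecticGroup l F :=
  ⟨Matrix.J l F, SymplecticGroup.J_mem l F⟩

theorem rel1 (a b : F) (h : a ^ 2 + b ^ 2 = -1) :
    Jg F l * Ig a b h * Jg F l = Ig a b h := by
  apply Subtype.ext
  show Matrix.J l F * sb a b b (-a) * Matrix.J l F = sb a b b (-a)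
  rw [J_eq_sb, sb_mul, sb_mul]
  apply sb_congr <;> ring

theorem Ig_pow_four (a b : F) (h : a ^ 2 + b ^ 2 = -1) : (Ig a b h : Matrix.symplecticGroup l F) ^ 4 = 1 := by
  have h4 : (Ig a b h : Matrix.symplecticGroup l F) ^ 4 =
      (Ig a b h * Ig a b h) * (Ig a b h * Ig a b h) := by
    rw [show (4 : ℕ) = 2 + 2 from rfl, pow_add, pow_two]
  rw [h4]
  apply Subtype.ext
  show (sb a b b (-a) * sb a b b (-a)) * (sb a b b (-a) * sb a b b (-a)) =
    (1 : Matrix (l ⊕ l) (l ⊕ l) F)
  rw [sb_mul, sb_mul, ← sb_one]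
  apply sb_congr
  · linear_combination (a ^ 2 + b ^ 2 - 1) * h
  · ring
  · ring
  · linear_combination (a ^ 2 + b ^ 2 - 1) * h

theorem Jg_pow_four : (Jg F l) ^ 4 = 1 := by
  have h4 : (Jg F l) ^ 4 = (Jg F l * Jg F l) * (Jg F l * Jg F l) := by
    rw [show (4 : ℕ) = 2 + 2 from rfl, pow_add, pow_two]
  rw [h4]
  apply Subtype.ext
  show (Matrix.J l F * Matrix.J l F) * (Matrix.J l F * Matrix.J l F) =
    (1 : Matrix (l ⊕ l) (l ⊕ l) F)
  rw [J_eq_sb, sb_mul, sb_mul, ← sb_one]
  apply sb_congr <;> ring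

theorem noncomm [Nonempty l] [IsDomain F] (h2 : (2 : F) ≠ 0) (a b : F)
    (h : a ^ 2 + b ^ 2 = -1) :
    (Ig a b h : Matrix.symplecticGroup l F) * Jg F l ≠ Jg F l * Ig a b h := by
  intro heq
  have h1 : (sb a b b (-a) : Matrix (l ⊕ l) (l ⊕ l) F) * Matrix.J l F =
      Matrix.J l F * sb a b b (-a) := congrArg Subtype.val heq
  rw [J_eq_sb, sb_mul, sb_mul] at h1
  obtain ⟨e1, e2, -, -⟩ := sb_inj h1
  have hb : b = 0 := by
    have : 2 * b = 0 := by linear_combination e1
    exact (mul_eq_zero.mp this).resolve_left h2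
  have ha : a = 0 := by
    have : 2 * a = 0 := by linear_combination -e2
    exact (mul_eq_zero.mp this).resolve_left h2
  rw [ha, hb] at h
  have : (1 : F) = 0 := by linear_combination h
  exact one_ne_zero this

theorem isPGroup_zpowers_of_pow_four {G : Type*} [Group G] (x : G) (hx : x ^ 4 = 1) :
    IsPGroup 2 (Subgroup.zpowers x) := by
  have h1 : orderOf x ∣ 2 ^ 2 := orderOf_dvd_of_pow_eq_one hx
  obtain ⟨k, -, hk⟩ := (Nat.dvd_prime_pow Nat.prime_two).mp h1
  exact IsPGroup.of_card (n := k) (by rw [Nat.card_zpowers, hk])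

theorem base_exists [Nonempty l] [IsDomain F] (h2 : (2 : F) ≠ 0) (a b : F)
    (h : a ^ 2 + b ^ 2 = -1) :
    ∃ P : Subgroup (Matrix.symplecticGroup l F), IsPGroup 2 P ∧ derivedSeries ↥P 1 ≠ ⊥ := by
  obtain ⟨I, hI⟩ : ∃ I : Matrix.symplecticGroup l F, I = Ig a b h := ⟨_, rfl⟩
  obtain ⟨J, hJ⟩ : ∃ J : Matrix.symplecticGroup l F, J = Jg F l := ⟨_, rfl⟩
  have hrel : J * I * J = I := by rw [hI, hJ]; exact rel1 a b h
  have hI4 : I ^ 4 = 1 := by rw [hI]; exact Ig_pow_four a b h
  have hJ4 : J ^ 4 = 1 := by rw [hJ]; exact Jg_pow_four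
  have hnc : I * J ≠ J * I := by rw [hI, hJ]; exact noncomm h2 a b h
  have r1 : I * J * I⁻¹ = J⁻¹ := by
    have e1 : I * J = J⁻¹ * I := by
      rw [eq_inv_mul_iff_mul_eq, ← mul_assoc]; exact hrel
    rw [e1, mul_inv_cancel_right]
  have r2 : I⁻¹ * J * I = J⁻¹ := by
    have e2 : J * I = I * J⁻¹ := by
      rw [eq_mul_inv_iff_mul_eq]; exact hrel
    rw [mul_assoc, e2, inv_mul_cancel_left]
  have hN : Subgroup.zpowers I ≤ Subgroup.normalizer (Subgroup.zpowers J : Set _) := by
    rw [Subgroup.zpowers_le, Subgroup.mem_normalizer_iff]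
    intro x
    constructor
    · rintro ⟨k, rfl⟩
      have e : I * J ^ k * I⁻¹ = (J⁻¹) ^ k := by
        rw [← r1, conj_zpow]
      rw [e]
      exact Subgroup.zpow_mem _ (Subgroup.inv_mem _ (Subgroup.mem_zpowers J)) k
    · rintro ⟨k, hk⟩
      have e : x = (J⁻¹) ^ k := by
        have hk' : J ^ k = I * x * I⁻¹ := hk
        have e3 : (I⁻¹ * J * I⁻¹⁻¹) ^ k = I⁻¹ * J ^ k * I⁻¹⁻¹ := conj_zpow
        rw [inv_inv, r2, hk'] at e3
        rw [e3]
        group
      rw [e]
      exact Subgroup.zpow_mem _ (Subgroup.inv_mem _ (Subgroup.mem_zpowers J)) k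
  refine ⟨Subgroup.zpowers I ⊔ Subgroup.zpowers J,
    IsPGroup.to_sup_of_normal_right' (isPGroup_zpowers_of_pow_four I hI4)
      (isPGroup_zpowers_of_pow_four J hJ4) hN, ?_⟩
  intro hbot
  rw [derivedSeries_one] at hbot
  have hIm : I ∈ Subgroup.zpowers I ⊔ Subgroup.zpowers J :=
    (le_sup_left : Subgroup.zpowers I ≤ _) (Subgroup.mem_zpowers I)
  have hJm : J ∈ Subgroup.zpowers I ⊔ Subgroup.zpowers J :=
    (le_sup_right : Subgroup.zpowers J ≤ _) (Subgroup.mem_zpowers J)
  have hc : ⁅(⟨I, hIm⟩ : ↥(Subgroup.zpowers I ⊔ Subgroup.zpowers J)), ⟨J, hJm⟩⁆ ∈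
      commutator ↥(Subgroup.zpowers I ⊔ Subgroup.zpowers J) := by
    rw [commutator_def]
    exact Subgroup.commutator_mem_commutator (Subgroup.mem_top _) (Subgroup.mem_top _)
  rw [hbot, Subgroup.mem_bot, commutatorElement_eq_one_iff_mul_comm] at hc
  exact hnc (congrArg Subtype.val hc)

end base

section tower

universe u

theorem exists_sq_add_sq (K : Type*) [Field K] [Fintype K] (hodd : Fintype.card K % 2 = 1) :
    ∃ a b : K, a ^ 2 + b ^ 2 = -1 := by
  obtain ⟨a, b, hab⟩ := FiniteField.exists_root_sum_quadratic (R := K)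
    (f := Polynomial.X ^ 2) (g := Polynomial.X ^ 2 + Polynomial.C 1)
    (Polynomial.degree_X_pow 2) (Polynomial.degree_X_pow_add_C (by norm_num) 1) hodd
  refine ⟨a, b, ?_⟩
  simp at hab
  linear_combination hab

theorem tower (K : Type u) [Field K] [Fintype K] [DecidableEq K]
    (hodd : Fintype.card K % 2 = 1) (h2 : (2 : K) ≠ 0) :
    ∀ j : ℕ, ∃ (X : Type u) (_ : Group X) (_ : Finite X) (l : Type) (_ : Fintype l)
      (_ : DecidableEq l),
      Nonempty l ∧ IsPGroup 2 X ∧ derivedSeries X (j + 1) ≠ ⊥ ∧ Fintype.card l = 2 ^ j ∧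
      ∃ φ : X →* Matrix.symplecticGroup l K, Function.Injective φ := by
  intro j
  induction j with
  | zero =>
    obtain ⟨a, b, hab⟩ := exists_sq_add_sq K hodd
    obtain ⟨P, hP, hd⟩ := base_exists (l := Fin 1) h2 a b hab
    exact ⟨↥P, inferInstance, inferInstance, Fin 1, inferInstance, inferInstance,
      inferInstance, hP, hd, by simp, P.subtype, Subgroup.subtype_injective P⟩
  | succ j ih =>
    obtain ⟨X, hG, hfin, l, hl1, hl2, hne, hp, hd, hc, φ, hφ⟩ := ih
    refine ⟨X ≀ᵣ Multiplicative (ZMod 2), inferInstance, inferInstance,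
      Multiplicative (ZMod 2) × l, inferInstance, inferInstance, inferInstance, ?_, ?_, ?_,
      dblHom φ, dblHom_injective φ hφ⟩
    · obtain ⟨k, hk⟩ := (IsPGroup.iff_card).mp hp
      apply IsPGroup.of_card (n := k * 2 + 1)
      rw [RegularWreathProduct.card, hk, Nat.card_eq_fintype_card, Fintype.card_multiplicative,
        ZMod.card]
      ring
    · exact wreath_step (Multiplicative.ofAdd (1 : ZMod 2)) (by decide) (j + 1) hd
    · rw [Fintype.card_prod, hc, Fintype.card_multiplicative, ZMod.card]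
      ring

theorem lower (K : Type u) [Field K] [Fintype K] [DecidableEq K]
    (hodd : Fintype.card K % 2 = 1) (h2 : (2 : K) ≠ 0) (n : ℕ) (hn : 1 ≤ n)
    (R : Sylow 2 ↥(Matrix.symplecticGroup (Fin n) K)) :
    derivedSeries ↥(R : Subgroup ↥(Matrix.symplecticGroup (Fin n) K)) (Nat.log 2 n + 1) ≠ ⊥ := by
  obtain ⟨X, hG, hfin, l, hl1, hl2, hne, hp, hd, hc, φ, hφ⟩ := tower K hodd h2 (Nat.log 2 n)
  have hle : 2 ^ Nat.log 2 n ≤ n := Nat.pow_log_le_self 2 (by omega)
  have hcard : Fintype.card (l ⊕ Fin (n - 2 ^ Nat.log 2 n)) = Fintype.card (Fin n) := by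
    rw [Fintype.card_sum, hc, Fintype.card_fin, Fintype.card_fin]
    omega
  obtain ⟨e⟩ : Nonempty (l ⊕ Fin (n - 2 ^ Nat.log 2 n) ≃ Fin n) :=
    ⟨Fintype.equivOfCardEq hcard⟩
  obtain ⟨f, hf⟩ : ∃ f : X →* Matrix.symplecticGroup (Fin n) K, Function.Injective f :=
    ⟨(extHom e).comp φ, (extHom_injective e).comp hφ⟩
  have hrange : IsPGroup 2 ↥f.range := by
    rw [MonoidHom.range_eq_map]
    exact (IsPGroup.of_equiv hp (Subgroup.topEquiv).symm).map f
  obtain ⟨Q', hQ'⟩ := hrange.exists_le_sylow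
  obtain ⟨g, hg⟩ : ∃ g : X →* ↥(Q' : Subgroup ↥(Matrix.symplecticGroup (Fin n) K)),
      ∀ x, (g x).1 = f x :=
    ⟨f.codRestrict (Q' : Subgroup ↥(Matrix.symplecticGroup (Fin n) K)) (fun w => hQ' ⟨w, rfl⟩),
      fun x => rfl⟩
  have hginj : Function.Injective g := by
    intro a b hab
    apply hf
    rw [← hg a, ← hg b, hab]
  obtain ⟨hh, hhinj⟩ : ∃ hh : X →* ↥(R : Subgroup ↥(Matrix.symplecticGroup (Fin n) K)),
      Function.Injective hh :=
    ⟨(Sylow.equiv Q' R).toMonoidHom.comp g, (Sylow.equiv Q' R).injective.comp hginj⟩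
  intro hbot
  apply hd
  have := map_derivedSeries_le_derivedSeries hh (Nat.log 2 n + 1)
  rw [hbot, le_bot_iff] at this
  exact (Subgroup.map_eq_bot_iff_of_injective _ hhinj).mp this

end tower

end Cfsg.Agent.Lib.Helper42.SpWr
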