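import Mathlib
import Cfsg.Agent.Lib.Helper42.SpWr

/-!
# Wreath products inside general linear groups

* `dblHomGL`: from an injective `φ : D →* GL(l)` an injective `D ≀ᵣ Q →* GL(Q × l)`.
* `extHomGL`: `GL(l) →* GL(m)` for an equivalence `l ⊕ c ≃ m` (extension by the identity).
* `towerGL`, `lowerGL`: iterated wreath products `C_p ≀ … ≀ C_p` inside `GL_n(F)` and the
  resulting lower bound for the derived length of a Sylow `p`-subgroup.
-/

set_option autoImplicit false
set_option linter.unusedSectionVars false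

open scoped commutatorElement
open Matrix

namespace Cfsg.Agent.Lib.Helper42.GLWr

open Cfsg.Agent.Lib.Helper42.SpWr

section dbl

variable {F : Type*} [CommRing F] {Q : Type*} [Group Q] [Fintype Q] [DecidableEq Q]
  {l : Type*} [Fintype l] [DecidableEq l] {D : Type*} [Group D]

/-- The block-monomial matrices of a wreath product, as a monoid homomorphism. -/
def wrHomGL (φ : D →* Matrix.GeneralLinearGroup l F) :
    D ≀ᵣ Q →* Matrix (Q × l) (Q × l) F where
  toFun a := BM (fun q => a.right⁻¹ * q) (fun q => (φ (a.left q) : Matrix l l F))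
  map_one' := by
    rw [← BM_one]
    apply BM_congr
    · intro q; simp
    · intro q; simp
  map_mul' a b := by
    rw [BM_mul]
    apply BM_congr
    · intro q; simp [mul_assoc]
    · intro q; simp

/-- The wreath product inside the general linear group. -/
def dblHomGL (φ : D →* Matrix.GeneralLinearGroup l F) :
    D ≀ᵣ Q →* Matrix.GeneralLinearGroup (Q × l) F :=
  (wrHomGL φ).toHomUnits

theorem dblHomGL_injective [Nonempty l] [Nontrivial F] (φ : D →* Matrix.GeneralLinearGroup l F)
    (hφ : Function.Injective φ) : Function.Injective (dblHomGL (Q := Q) φ) := by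
  intro a b hab
  have h0 : wrHomGL φ a = wrHomGL φ b := by
    have h := congrArg (fun u : Matrix.GeneralLinearGroup (Q × l) F =>
      (u : Matrix (Q × l) (Q × l) F)) hab
    exact h
  have h1 : BM (fun q => a.right⁻¹ * q) (fun q => (φ (a.left q) : Matrix l l F)) =
      BM (fun q => b.right⁻¹ * q) (fun q => (φ (b.left q) : Matrix l l F)) := h0
  obtain ⟨h2, h3⟩ := BM_inj _ _ _ _ (fun q => Units.ne_zero _) h1
  have h4 : a.right = b.right := by
    have := h2 1
    simpa using this
  have h5 : a.left = b.left := by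
    funext q
    apply hφ
    exact Units.ext (h3 q)
  exact RegularWreathProduct.ext h5 h4

end dbl

section ext

variable {F : Type*} [CommRing F] {l c m : Type*} [Fintype l] [DecidableEq l] [Fintype c]
  [DecidableEq c] [Fintype m] [DecidableEq m]

/-- Extension by the identity block, reindexed. -/
def extMatGL (e : l ⊕ c ≃ m) : Matrix.GeneralLinearGroup l F →* Matrix m m F where
  toFun A := (Matrix.fromBlocks (A : Matrix l l F) 0 0 (1 : Matrix c c F)).submatrix e.symm e.symm
  map_one' := by
    simp [Matrix.fromBlocks_one]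
  map_mul' A B := by
    rw [Matrix.submatrix_mul_equiv, Matrix.fromBlocks_multiply]
    simp

/-- The extension homomorphism. -/
def extHomGL (e : l ⊕ c ≃ m) :
    Matrix.GeneralLinearGroup l F →* Matrix.GeneralLinearGroup m F :=
  (extMatGL e).toHomUnits

theorem extHomGL_injective (e : l ⊕ c ≃ m) : Function.Injective (extHomGL (F := F) e) := by
  intro A B hAB
  have h0 : extMatGL e A = extMatGL e B := by
    have h := congrArg (fun u : Matrix.GeneralLinearGroup m F => (u : Matrix m m F)) hAB
    exact h
  have h1 : Matrix.fromBlocks (A : Matrix l l F) 0 0 (1 : Matrix c c F) =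
      Matrix.fromBlocks (B : Matrix l l F) 0 0 1 := by
    ext x y
    have h := congrFun (congrFun h0 (e x)) (e y)
    simpa [extMatGL] using h
  rw [Matrix.fromBlocks_inj] at h1
  exact Units.ext h1.1

end ext

section tower

universe u

theorem towerGL (K : Type u) [Field K] [Fintype K] [DecidableEq K] (p : ℕ) [Fact p.Prime]
    (e : ℕ) (he : 1 ≤ e) (hdvd : p ∣ Nat.card (Matrix.GeneralLinearGroup (Fin e) K)) :
    ∀ j : ℕ, ∃ (X : Type u) (_ : Group X) (_ : Finite X) (l : Type) (_ : Fintype l)
      (_ : DecidableEq l),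
      Nonempty l ∧ IsPGroup p X ∧ derivedSeries X j ≠ ⊥ ∧ Fintype.card l = p ^ j * e ∧
      ∃ φ : X →* Matrix.GeneralLinearGroup l K, Function.Injective φ := by
  have hp : p.Prime := Fact.out
  intro j
  induction j with
  | zero =>
    obtain ⟨g, hg⟩ := exists_prime_orderOf_dvd_card' (G := Matrix.GeneralLinearGroup (Fin e) K)
      p hdvd
    have hcard : Nat.card ↥(Subgroup.zpowers g) = p := by rw [Nat.card_zpowers, hg]
    have hnt : Nontrivial ↥(Subgroup.zpowers g) := by
      rw [← Finite.one_lt_card_iff_nontrivial, hcard]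
      exact hp.one_lt
    refine ⟨↥(Subgroup.zpowers g), inferInstance, inferInstance, Fin e, inferInstance,
      inferInstance, ⟨⟨0, he⟩⟩, IsPGroup.of_card (n := 1) (by rw [hcard, pow_one]), ?_, by simp,
      (Subgroup.zpowers g).subtype, Subgroup.subtype_injective _⟩
    rw [derivedSeries_zero]
    exact top_ne_bot
  | succ j ih =>
    obtain ⟨X, hG, hfin, l, hl1, hl2, hne, hpX, hd, hc, φ, hφ⟩ := ih
    refine ⟨X ≀ᵣ Multiplicative (ZMod p), inferInstance, inferInstance,
      Multiplicative (ZMod p) × l, inferInstance, inferInstance, inferInstance, ?_, ?_, ?_,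
      dblHomGL φ, dblHomGL_injective φ hφ⟩
    · obtain ⟨k, hk⟩ := (IsPGroup.iff_card).mp hpX
      apply IsPGroup.of_card (n := k * p + 1)
      rw [RegularWreathProduct.card, hk, Nat.card_eq_fintype_card, Fintype.card_multiplicative,
        ZMod.card]
      ring
    · have hq : (Multiplicative.ofAdd (1 : ZMod p)) ≠ 1 := by
        intro h
        have h2 : (1 : ZMod p) = 0 := h
        exact one_ne_zero h2
      exact wreath_step (Multiplicative.ofAdd (1 : ZMod p)) hq j hd
    · rw [Fintype.card_prod, hc, Fintype.card_multiplicative, ZMod.card]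
      ring

theorem lowerGL (K : Type u) [Field K] [Fintype K] [DecidableEq K] (p : ℕ) [Fact p.Prime]
    (n e : ℕ) (he : 1 ≤ e) (hen : e ≤ n)
    (hdvd : p ∣ Nat.card (Matrix.GeneralLinearGroup (Fin e) K))
    (R : Sylow p (Matrix.GeneralLinearGroup (Fin n) K)) :
    derivedSeries ↥(R : Subgroup (Matrix.GeneralLinearGroup (Fin n) K))
      (Nat.log p (n / e)) ≠ ⊥ := by
  obtain ⟨X, hG, hfin, l, hl1, hl2, hne, hpX, hd, hc, φ, hφ⟩ :=
    towerGL K p e he hdvd (Nat.log p (n / e))
  have hdiv : 0 < n / e := Nat.div_pos hen he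
  have hle : p ^ Nat.log p (n / e) * e ≤ n :=
    (Nat.le_div_iff_mul_le he).mp (Nat.pow_log_le_self p (by omega))
  have hcard : Fintype.card (l ⊕ Fin (n - p ^ Nat.log p (n / e) * e)) =
      Fintype.card (Fin n) := by
    rw [Fintype.card_sum, hc, Fintype.card_fin, Fintype.card_fin]
    omega
  obtain ⟨ee⟩ : Nonempty (l ⊕ Fin (n - p ^ Nat.log p (n / e) * e) ≃ Fin n) :=
    ⟨Fintype.equivOfCardEq hcard⟩
  obtain ⟨f, hf⟩ : ∃ f : X →* Matrix.GeneralLinearGroup (Fin n) K, Function.Injective f :=
    ⟨(extHomGL ee).comp φ, (extHomGL_injective ee).comp hφ⟩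
  have hrange : IsPGroup p ↥f.range := by
    rw [MonoidHom.range_eq_map]
    exact (IsPGroup.of_equiv hpX (Subgroup.topEquiv).symm).map f
  obtain ⟨Q', hQ'⟩ := hrange.exists_le_sylow
  obtain ⟨g, hg⟩ : ∃ g : X →* ↥(Q' : Subgroup (Matrix.GeneralLinearGroup (Fin n) K)),
      ∀ x, (g x).1 = f x :=
    ⟨f.codRestrict (Q' : Subgroup (Matrix.GeneralLinearGroup (Fin n) K))
      (fun w => hQ' ⟨w, rfl⟩), fun x => rfl⟩
  have hginj : Function.Injective g := by
    intro a b hab
    apply hf
    rw [← hg a, ← hg b, hab]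
  obtain ⟨hh, hhinj⟩ : ∃ hh : X →* ↥(R : Subgroup (Matrix.GeneralLinearGroup (Fin n) K)),
      Function.Injective hh :=
    ⟨(Sylow.equiv Q' R).toMonoidHom.comp g, (Sylow.equiv Q' R).injective.comp hginj⟩
  intro hbot
  apply hd
  have := map_derivedSeries_le_derivedSeries hh (Nat.log p (n / e))
  rw [hbot, le_bot_iff] at this
  exact (Subgroup.map_eq_bot_iff_of_injective _ hhinj).mp this

end tower

end Cfsg.Agent.Lib.Helper42.GLWr
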