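import Mathlib
import Cfsg.Agent.Lib.Helper42.ReeSpStmt
import Cfsg.Agent.Lib.Helper29.ReeSpNORM
import Cfsg.Agent.Lib.Helper18.ReeG
import Cfsg.Agent.Lib.Helper18.Ree24
import Cfsg.Agent.Lib.Helper18.Ree26
import Cfsg.Agent.Lib.Helper18.Ree31
import Cfsg.Agent.S1069
import Cfsg.Agent.S1155
import Cfsg.Agent.S1150
import Cfsg.Agent.S1114
import Cfsg.Agent.S1151
import Cfsg.Agent.S1101
import Cfsg.Agent.S1154
import Cfsg.Agent.S1073
import Cfsg.Agent.S1156
import Cfsg.Agent.Lib.Helper36.ReeRep7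

/-!
# The raw facts about the small Ree group `twistedG2 K (3^m)` (input of the counting proofs)

Collects the landed Ree statements (S1069, S1155, S1150, S1114, S1151, S1101, S1154, S1073,
S1156), the library forms of S1152, S1157, S2359, the faithful 7-dimensional representation
and the normalization of the unipotent subgroup by the diagonal subgroup into the structure
`ReeSpStmt.Raw`.
-/

set_option autoImplicit false

namespace Cfsg.Agent.Lib.Helper42.ReeRaw

theorem raw {K : Type*} [Field K] [Fintype K] {m : ℕ} (hm : 1 ≤ m)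
    (hK : Fintype.card K = 3 ^ (2 * m + 1)) :
    Cfsg.Agent.Lib.Helper42.ReeSpStmt.Raw (Cfsg.Lie.twistedG2 K (3 ^ m))
      (Cfsg.Lie.chevG2.diagonalSubgroup K) (Cfsg.Lie.chevG2.posUnipotent K) K m := by
  haveI := Cfsg.Agent.Lib.Helper18.Ree4.charP3 hK
  obtain ⟨φ, hφ, h3⟩ := Cfsg.Agent.Lib.Helper18.Ree4.exists_theta hK
  obtain ⟨Sg⟩ := Cfsg.Agent.Lib.Helper18.Ree13.exists_sig φ
    (Cfsg.Agent.Lib.Helper18.ReeG.graph_of_card hK)
  exact
    { hm := hm
      cardK := hK
      s1069 := Cfsg.Agent.S1069.result hK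
      s1155 := fun P Q h => Cfsg.Agent.S1155.result hm hK P Q h
      s1150 := Cfsg.Agent.S1150.result hK
      s1114 := Cfsg.Agent.S1114.result hK
      s1151 := (Cfsg.Agent.S1151.result hK).2
      s1101 := (Cfsg.Agent.S1101.result hK).2
      s1154 := Cfsg.Agent.S1154.result hm hK
      s1073 := (Cfsg.Agent.S1073.result hm hK).1
      norm := fun h hh u hu => Cfsg.Agent.Lib.Helper29.ReeSpNORM.main K h hh.1 u hu.1
      s1152 := fun a haH ha1 ha2 =>
        ⟨Cfsg.Agent.Lib.Helper18.Ree24.centralizer_iso hφ h3 hK rfl Sg a haH ha1 ha2,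
          fun P => Cfsg.Agent.Lib.Helper18.Ree24.sylow2 hφ h3 hK rfl Sg P⟩
      s1157 := fun S => Cfsg.Agent.Lib.Helper18.Ree26.sylow2_norm hφ h3 hK rfl Sg hm S
      s2359 := fun H hH => Cfsg.Agent.Lib.Helper18.Ree31.s2359 hφ h3 hK rfl Sg hm H hH
      s1156 := fun p _ hp P => Cfsg.Agent.S1156.result hm hK hp P
      rep := Cfsg.Agent.Lib.Helper36.ReeRep7.faithful7 hm hK }

end Cfsg.Agent.Lib.Helper42.ReeRaw
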