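import Mathlib
import Cfsg.Agent.Lib.Helper42.ReeAutStmt
import Cfsg.Agent.Lib.Helper42.ReeAutFStmt
import Cfsg.Agent.Lib.Helper42.ReeRaw
import Cfsg.Agent.Lib.Helper18.Ree27
import Cfsg.Agent.Lib.Helper95.ReeSpTRA
import Cfsg.Agent.Lib.Helper90.ReeSpTR9
import Cfsg.Agent.Lib.Helper90.ReeSpTRI
import Cfsg.Agent.Lib.Helper95.ReeSpTRH
import Cfsg.Agent.Lib.Helper72.ReeSpTRAA
import Cfsg.Agent.Lib.Helper93.ReeSpTISYL
import Cfsg.Agent.Lib.Helper4.ReeSpSYL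
import Cfsg.Agent.Lib.Helper4.ReeSpNH

/-!
# Automorphisms of the small Ree group: the Ree-specific input (S2127)

The axioms `Ax`, `SylNC`, `NHC` (from the pieces of S1159), the parametrization `APar` of
`U¹` and `H¹` (from the Helper18 Ree library) and the field automorphisms `FPar` (from the
pieces `FLDA`, `FLDB`).
-/

set_option autoImplicit false

namespace Cfsg.Agent.Lib.Helper42.ReeAutRee

open Cfsg.Agent.Lib.Helper42.ReeSpStmt Cfsg.Agent.Lib.Helper42.ReeAutStmt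
  Cfsg.Agent.Lib.Helper42.ReeAutFStmt

universe v

/-- an element not fixed by `a ↦ φ(a)^3` (for `m ≥ 1`) -/
theorem exists_zeta {K : Type v} [Field K] [Fintype K] {m : ℕ} (hm : 1 ≤ m)
    (hK : Fintype.card K = 3 ^ (2 * m + 1)) (φ : K →+* K) (hφ : ∀ a, φ a = a ^ 3 ^ m) :
    ∃ ζ : K, φ ζ ^ 3 ≠ ζ := by
  classical
  obtain ⟨ζ, hζ⟩ := IsCyclic.exists_generator (α := Kˣ)
  have hord : orderOf ζ = Fintype.card K - 1 := by
    rw [orderOf_eq_card_of_forall_mem_zpowers hζ, Nat.card_eq_fintype_card, Fintype.card_units]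
  have hζ0 : (ζ : K) ≠ 0 := ζ.ne_zero
  refine ⟨(ζ : K), ?_⟩
  intro h
  rw [hφ, ← pow_mul] at h
  have h6 : 0 < 3 ^ m := by positivity
  have h1 : ζ ^ (3 ^ m * 3 - 1) = 1 := by
    apply Units.ext
    rw [Units.val_pow_eq_pow_val, Units.val_one]
    have hpos : 1 ≤ 3 ^ m * 3 := by omega
    have h2 : (ζ : K) ^ (3 ^ m * 3 - 1) * ζ = 1 * ζ := by
      rw [← pow_succ, Nat.sub_add_cancel hpos, h, one_mul]
    exact mul_right_cancel₀ hζ0 h2
  have h2 := orderOf_dvd_of_pow_eq_one h1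
  rw [hord, hK] at h2
  have h4 : 3 ^ (m + 1) < 3 ^ (2 * m + 1) := Nat.pow_lt_pow_right (by norm_num) (by omega)
  have h5 : 3 ^ m * 3 = 3 ^ (m + 1) := by ring
  have h7 : 3 ^ (2 * m + 1) - 1 ≤ 3 ^ m * 3 - 1 := Nat.le_of_dvd (by omega) h2
  omega

/-- all the Ree-specific input of the automorphism theorem -/
theorem ree_input (pFA : FldAP.{v}) (pFB : FldBP.{v}) {K : Type v} [Field K] [Fintype K]
    {m : ℕ} (hm : 1 ≤ m) (hK : Fintype.card K = 3 ^ (2 * m + 1)) :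
    ∃ (U H A : Subgroup ↥(Cfsg.Lie.twistedG2 K (3 ^ m))) (φ : K →+* K)
      (x : K → K → K → ↥(Cfsg.Lie.twistedG2 K (3 ^ m))) (e : Kˣ → ↥(Cfsg.Lie.twistedG2 K (3 ^ m)))
      (Φ : (K ≃+* K) →* MulAut ↥(Cfsg.Lie.twistedG2 K (3 ^ m))),
      Ax ↥(Cfsg.Lie.twistedG2 K (3 ^ m)) U H A K m ∧
      SylNC ↥(Cfsg.Lie.twistedG2 K (3 ^ m)) U H m ∧
      NHC ↥(Cfsg.Lie.twistedG2 K (3 ^ m)) H m ∧
      IsSimpleGroup ↥(Cfsg.Lie.twistedG2 K (3 ^ m)) ∧
      APar ↥(Cfsg.Lie.twistedG2 K (3 ^ m)) K φ x e ∧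
      FPar ↥(Cfsg.Lie.twistedG2 K (3 ^ m)) K x e Φ ∧
      (∀ g, g ∈ U ↔ ∃ t u v, g = x t u v) ∧ (∀ g, g ∈ H ↔ ∃ s : Kˣ, g = e s) := by
  have := Cfsg.Agent.Lib.Helper18.Ree4.charP3 hK
  obtain ⟨φ, hφ, h3⟩ := Cfsg.Agent.Lib.Helper18.Ree4.exists_theta hK
  obtain ⟨Sg⟩ := Cfsg.Agent.Lib.Helper18.Ree13.exists_sig φ
    (Cfsg.Agent.Lib.Helper18.ReeG.graph_of_card hK)
  have hraw := Cfsg.Agent.Lib.Helper42.ReeRaw.raw hm hK
  have hfin : Finite ↥(Cfsg.Lie.twistedG2 K (3 ^ m)) := inferInstance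
  obtain ⟨A, hax⟩ := ax_of_raw Cfsg.Agent.Lib.Helper95.ReeSpTRA.main
    Cfsg.Agent.Lib.Helper90.ReeSpTR9.main Cfsg.Agent.Lib.Helper90.ReeSpTRI.main
    Cfsg.Agent.Lib.Helper95.ReeSpTRH.main Cfsg.Agent.Lib.Helper72.ReeSpTRAA.main hraw
  have hsyl := Cfsg.Agent.Lib.Helper4.ReeSpSYL.main _ _ _ A K m hax
    Cfsg.Agent.Lib.Helper93.ReeSpTISYL.main
  have hnh := Cfsg.Agent.Lib.Helper4.ReeSpNH.main _ _ _ A K m hax
    Cfsg.Agent.Lib.Helper93.ReeSpTISYL.main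
  obtain ⟨Φ, hΦ⟩ := pFA K (3 ^ m)
  obtain ⟨x, hx⟩ : ∃ x : K → K → K → ↥(Cfsg.Lie.twistedG2 K (3 ^ m)),
      ∀ t u v, ((x t u v : ↥(Cfsg.Lie.twistedG2 K (3 ^ m))) : GL Cfsg.Lie.chevG2.Idx K) =
        Cfsg.Agent.Lib.Helper18.Ree2.reeU φ t u v :=
    ⟨fun t u v => ⟨Cfsg.Agent.Lib.Helper18.Ree2.reeU φ t u v,
      Cfsg.Agent.Lib.Helper18.Ree4.reeU_mem_Gam hφ t u v⟩, fun _ _ _ => rfl⟩
  obtain ⟨e, he⟩ : ∃ e : Kˣ → ↥(Cfsg.Lie.twistedG2 K (3 ^ m)),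
      ∀ s : Kˣ, ((e s : ↥(Cfsg.Lie.twistedG2 K (3 ^ m))) : GL Cfsg.Lie.chevG2.Idx K) =
        Cfsg.Agent.Lib.Helper18.Ree7.eta φ (s : K) :=
    ⟨fun s => ⟨Cfsg.Agent.Lib.Helper18.Ree7.eta φ (s : K),
      Cfsg.Agent.Lib.Helper18.Ree11.eta_mem_Gam hφ h3 hK rfl s.ne_zero⟩, fun _ => rfl⟩
  refine ⟨_, _, A, φ, x, e, Φ, hax, hsyl, hnh, hraw.s1073, ?_, ?_, ?_, ?_⟩
  · exact
      { x_inj := fun t u v t' u' v' h => by
          have h' := congrArg Subtype.val h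
          rw [hx, hx] at h'
          exact Cfsg.Agent.Lib.Helper18.Ree3.reeU_inj h'
        x_mul := fun t u v t' u' v' => by
          apply Subtype.ext
          rw [Subgroup.coe_mul, hx, hx, hx]
          exact Cfsg.Agent.Lib.Helper18.Ree27.reeU_mul h3 t u v t' u' v'
        e_inj := fun s s' h => by
          have h' := congrArg Subtype.val h
          rw [he, he] at h'
          exact Units.ext (Cfsg.Agent.Lib.Helper18.Ree7.eta_inj φ s.ne_zero s'.ne_zero h')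
        e_mul := fun s s' => by
          apply Subtype.ext
          rw [Subgroup.coe_mul, he, he, he, Units.val_mul]
          exact Cfsg.Agent.Lib.Helper18.Ree7.eta_mul φ s.ne_zero s'.ne_zero
        e_x := fun s t u v => by
          apply Subtype.ext
          rw [Subgroup.coe_mul, Subgroup.coe_mul, he, hx, hx]
          exact Cfsg.Agent.Lib.Helper18.Ree27.eta_mul_reeU h3 s.ne_zero t u v
        three := Cfsg.Agent.Lib.Helper18.Ree20.three_eq_zero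
        h3 := h3
        hζ := exists_zeta hm hK φ hφ }
  · exact
      { f_x := fun σ t u v => by
          apply Subtype.ext
          apply Units.ext
          rw [hΦ σ (x t u v), hx, hx]
          exact (pFB K m φ hK hφ σ).1 t u v
        f_e := fun σ s s' hss => by
          apply Subtype.ext
          apply Units.ext
          rw [hΦ σ (e s), he, he, hss]
          exact (pFB K m φ hK hφ σ).2 (s : K) s.ne_zero }
  · intro g
    rw [Subgroup.mem_subgroupOf, Cfsg.Agent.Lib.Helper18.Ree4.mem_U_Gam Sg hφ h3]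
    constructor
    · rintro ⟨t, u, v, h⟩
      exact ⟨t, u, v, Subtype.ext (by rw [hx]; exact h)⟩
    · rintro ⟨t, u, v, rfl⟩
      exact ⟨t, u, v, hx t u v⟩
  · intro g
    rw [Subgroup.mem_subgroupOf, Cfsg.Agent.Lib.Helper18.Ree7.mem_H_Gam Sg hφ h3 hK rfl]
    constructor
    · rintro ⟨s, hs, h⟩
      exact ⟨Units.mk0 s hs, Subtype.ext (by rw [he]; exact h)⟩
    · rintro ⟨s, rfl⟩
      exact ⟨(s : K), s.ne_zero, he s⟩

end Cfsg.Agent.Lib.Helper42.ReeAutRee
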