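import Mathlib
import Cfsg.Agent.Lib.Helper42.ReeDegStmt
import Cfsg.Agent.Lib.Helper42.ReeRaw
import Cfsg.Agent.Lib.Helper90.ReeSpTRI
import Cfsg.Agent.Lib.Helper18.Ree27

/-!
# Minimal degree of a complex representation of the small Ree group: the Ree-specific input

The parametrization `Par` of `U¹` and `H¹` inside `twistedG2 K (3^m)` (from the Helper18 Ree
library) and the axioms `RAx` (from the parametrized pieces, the conjugacy of involutions, the
Sylow 2-subgroups and simplicity).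
-/

set_option autoImplicit false

namespace Cfsg.Agent.Lib.Helper42.ReeDegRee

open Cfsg.Agent.Lib.Helper42.ReeDegStmt

universe v

/-- the parametrization of `U¹` and `H¹` -/
theorem par {K : Type v} [Field K] [Fintype K] {m : ℕ}
    (hK : Fintype.card K = 3 ^ (2 * m + 1)) :
    ∃ (φ : K →+* K) (x : K → K → K → GL Cfsg.Lie.chevG2.Idx K)
      (e : K → GL Cfsg.Lie.chevG2.Idx K), Par (Cfsg.Lie.twistedG2 K (3 ^ m)) K φ x e := by
  have := Cfsg.Agent.Lib.Helper18.Ree4.charP3 hK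
  obtain ⟨φ, hφ, h3⟩ := Cfsg.Agent.Lib.Helper18.Ree4.exists_theta hK
  refine ⟨φ, Cfsg.Agent.Lib.Helper18.Ree2.reeU φ, Cfsg.Agent.Lib.Helper18.Ree7.eta φ, ?_⟩
  exact
    { x_mem := fun t u v => Cfsg.Agent.Lib.Helper18.Ree4.reeU_mem_Gam hφ t u v
      x_inj := fun t u v t' u' v' h => Cfsg.Agent.Lib.Helper18.Ree3.reeU_inj h
      x_mul := fun t u v t' u' v' => Cfsg.Agent.Lib.Helper18.Ree27.reeU_mul h3 t u v t' u' v'
      e_mem := fun s hs => Cfsg.Agent.Lib.Helper18.Ree11.eta_mem_Gam hφ h3 hK rfl hs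
      e_inj := fun s s' hs hs' h => Cfsg.Agent.Lib.Helper18.Ree7.eta_inj φ hs hs' h
      e_mul := fun s s' hs hs' => Cfsg.Agent.Lib.Helper18.Ree7.eta_mul φ hs hs'
      e_x := fun s hs t u v => Cfsg.Agent.Lib.Helper18.Ree27.eta_mul_reeU h3 hs t u v
      neg_one := by
        intro h
        have h30 : (3 : K) = 0 := Cfsg.Agent.Lib.Helper18.Ree20.three_eq_zero
        have : (1 : K) = 0 := by linear_combination h30 + h
        exact one_ne_zero this }

theorem mod4 (m : ℕ) : 3 ^ (2 * m + 1) * (3 ^ (2 * m + 1) - 1) % 4 = 2 := by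
  have h1 : 3 ^ (2 * m + 1) % 4 = 3 := by
    rw [pow_succ, pow_mul, Nat.mul_mod, Nat.pow_mod]
    norm_num
  generalize 3 ^ (2 * m + 1) = q at h1 ⊢
  have h2 : (q - 1) % 4 = 2 := by omega
  rw [Nat.mul_mod, h1, h2]

/-- a Klein four-group from a Sylow 2-subgroup of order 8 and exponent 2 -/
theorem klein_of {G : Type v} [Group G] (P : Subgroup G) (hc : Nat.card P = 8)
    (he : ∀ x ∈ P, x * x = 1) :
    ∃ a b : G, orderOf a = 2 ∧ orderOf b = 2 ∧ a ≠ b ∧ a * b = b * a := by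
  have : Finite P := Nat.finite_of_card_ne_zero (by rw [hc]; norm_num)
  haveI : Fintype P := Fintype.ofFinite P
  have h2 : 2 < Fintype.card P := by
    rw [← Nat.card_eq_fintype_card, hc]; norm_num
  obtain ⟨a, b, c, hab, hac, hbc⟩ := Fintype.two_lt_card_iff.mp h2
  have key : ∀ x y : P, x ≠ 1 → y ≠ 1 → x ≠ y →
      ∃ a b : G, orderOf a = 2 ∧ orderOf b = 2 ∧ a ≠ b ∧ a * b = b * a := by
    intro x y hx hy hxy
    have ho : ∀ z : P, z ≠ 1 → orderOf (z : G) = 2 := by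
      intro z hz
      apply orderOf_eq_prime
      · rw [pow_two]; exact he z z.2
      · intro h
        exact hz (Subtype.ext h)
    refine ⟨x, y, ho x hx, ho y hy, fun h => hxy (Subtype.ext h), ?_⟩
    have e1 : (x : G) * y * (x * y) = 1 := he _ (P.mul_mem x.2 y.2)
    have e2 : (x : G) * x = 1 := he x x.2
    have e3 : (y : G) * y = 1 := he y y.2
    calc (x : G) * y = (y * y) * (x * y) * (x * x) := by rw [e2, e3, one_mul, mul_one]
      _ = y * ((y * x) * (y * x)) * x := by group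
      _ = y * x * ((x * y) * (x * y)) := by
        have e4 : (y : G) * x * (y * x) = 1 := he _ (P.mul_mem y.2 x.2)
        rw [e4, mul_one]
        have e5 : (x : G) * y * (x * y) = x * y * (x * y) := rfl
        rw [e1, mul_one]
      _ = y * x := by rw [e1, mul_one]
  by_cases ha : a = 1
  · exact key b c (fun h => hab (ha.trans h.symm)) (fun h => hac (ha.trans h.symm)) hbc
  · by_cases hb : b = 1
    · exact key a c ha (fun h => hbc (hb.trans h.symm)) hac
    · exact key a b ha hb hab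

/-- the axioms for the Ree group -/
theorem rax (pS : ParSP.{v, v}) (pU : ParUP.{v, v}) (pH : ParHP.{v, v})
    {K : Type v} [Field K] [Fintype K] {m : ℕ} (hm : 1 ≤ m)
    (hK : Fintype.card K = 3 ^ (2 * m + 1)) :
    ∃ (Z A U H : Subgroup ↥(Cfsg.Lie.twistedG2 K (3 ^ m))) (t : ↥(Cfsg.Lie.twistedG2 K (3 ^ m))),
      RAx ↥(Cfsg.Lie.twistedG2 K (3 ^ m)) Z A U H t (3 ^ (2 * m + 1)) := by
  obtain ⟨φ, x, e, hpar⟩ := par hK
  obtain ⟨Z, A, U, hmem⟩ := pS _ K φ x e hpar
  have huf := pU _ K φ x e hpar Z A U hmem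
  obtain ⟨H, t, hhf⟩ := pH _ K φ x e hpar Z A U hmem
  rw [hK] at huf hhf
  have hraw := Cfsg.Agent.Lib.Helper42.ReeRaw.raw hm hK
  have htri := Cfsg.Agent.Lib.Helper90.ReeSpTRI.main _ _ _ K m hraw
  have := Cfsg.Agent.Lib.Helper18.Ree4.charP3 hK
  obtain ⟨φ', hφ', h3'⟩ := Cfsg.Agent.Lib.Helper18.Ree4.exists_theta hK
  obtain ⟨Sg⟩ := Cfsg.Agent.Lib.Helper18.Ree13.exists_sig φ'
    (Cfsg.Agent.Lib.Helper18.ReeG.graph_of_card hK)
  have hfin : Finite ↥(Cfsg.Lie.twistedG2 K (3 ^ m)) := inferInstance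
  obtain ⟨P⟩ : Nonempty (Sylow 2 ↥(Cfsg.Lie.twistedG2 K (3 ^ m))) := inferInstance
  have hsyl := Cfsg.Agent.Lib.Helper18.Ree24.sylow2 hφ' h3' hK rfl Sg P
  refine ⟨Z, A, U, H, t, ?_⟩
  exact
    { uf := huf
      hf := hhf
      invConj := fun s hs => htri.2 t s hhf.tInv hs
      klein := klein_of (P : Subgroup _) hsyl.1 hsyl.2
      simple := (Cfsg.Agent.S1073.result hm hK).1
      mod4 := mod4 m }

end Cfsg.Agent.Lib.Helper42.ReeDegRee
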