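import Mathlib
import Cfsg.Agent.Lib.Helper42.ReeSpStmt

/-!
# The small Ree groups by counting, second statement file (S1158, S2357, S2358)

Stronger forms of the ORB and DIO pieces of `ReeSpStmt` (normalizers and centralizers of the
cyclic Hall subgroups), the abstract pieces for the normalizer orders (S1158), the element
counts (S2357) and the conjugacy of the toral cyclic subgroups (S2358), and the assembly.
-/

set_option autoImplicit false

namespace Cfsg.Agent.Lib.Helper42.ReeSpStmt2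

open Cfsg.Agent.Lib.Helper42.ReeSpStmt

universe u v

/-! ## strong forms of ORB and DIO -/

/-- `OrbC` with the normalizers and the centralizers of the representatives -/
def OrbC2 (G : Type u) [Group G] (m : ℕ) : Prop :=
  ∃ (k : ℕ) (c n : Fin k → ℕ) (C : Fin k → Subgroup G),
    (∀ i, IsCyclic ↥(C i)) ∧ (∀ i, Nat.card ↥(C i) = c i) ∧ (∀ i, 1 < c i) ∧
    (∀ i, n i ∣ 6) ∧ (∀ i, n i * c i ∣ Nat.card G) ∧
    ∏ i, c i = qq m ^ 2 - qq m + 1 ∧
    ∑ i, (c i - 1) * (Nat.card G / (n i * c i)) = Nat.card {g : G // P3 G m g} ∧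
    (∀ g : G, P3 G m g → ∃ (i : Fin k) (x : G), x * g * x⁻¹ ∈ C i) ∧
    (∀ i, Nat.card ↥(Subgroup.normalizer (C i : Set G)) = n i * c i) ∧
    (∀ i, ∀ y ∈ C i, y ≠ 1 → Subgroup.centralizer ({y} : Set G) = C i)

/-- ORB, strong form -/
def Orb2 : Prop :=
  ∀ (G : Type u) [Group G] [Finite G] (U H A : Subgroup G) (K : Type v) [Field K] [Fintype K]
    (m : ℕ), Ax G U H A K m → HallC G m → OrbC2 G m

/-- DIO, strong form (pure arithmetic): moreover `n i = n j = 6` -/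
def Dio2 : Prop :=
  ∀ (m : ℕ), 1 ≤ m → ∀ (k : ℕ) (c n : Fin k → ℕ) (T : ℕ),
    (∀ i, 1 < c i) → (∀ i, n i ∣ 6) →
    (∀ i, n i * c i ∣ qq m ^ 3 * (qq m - 1) * (qq m ^ 3 + 1)) →
    ∏ i, c i = qq m ^ 2 - qq m + 1 →
    ∑ i, (c i - 1) * (qq m ^ 3 * (qq m - 1) * (qq m ^ 3 + 1) / (n i * c i)) = T →
    3 * T = qq m ^ 4 * (qq m ^ 2 - 1) * (qq m - 2) →
    ∃ i j : Fin k, c i = qq m + rr m + 1 ∧ c j = qq m - rr m + 1 ∧ (∀ l, l = i ∨ l = j) ∧
      n i = 6 ∧ n j = 6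

/-- the two cyclic Hall subgroups of orders `q ± r + 1`, with normalizers and centralizers -/
def FinC2 (G : Type u) [Group G] (m : ℕ) : Prop :=
  ∃ C₁ C₂ : Subgroup G, IsCyclic ↥C₁ ∧ IsCyclic ↥C₂ ∧ Nat.card ↥C₁ = qq m + rr m + 1 ∧
    Nat.card ↥C₂ = qq m - rr m + 1 ∧
    Nat.card ↥(Subgroup.normalizer (C₁ : Set G)) = 6 * (qq m + rr m + 1) ∧
    Nat.card ↥(Subgroup.normalizer (C₂ : Set G)) = 6 * (qq m - rr m + 1) ∧
    (∀ y ∈ C₁, y ≠ 1 → Subgroup.centralizer ({y} : Set G) = C₁) ∧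
    (∀ y ∈ C₂, y ≠ 1 → Subgroup.centralizer ({y} : Set G) = C₂) ∧
    ∀ g : G, P3 G m g → ∃ x : G, x * g * x⁻¹ ∈ C₁ ∨ x * g * x⁻¹ ∈ C₂

/-- the strong Hall data from the strong orbit decomposition and the arithmetic -/
theorem fin2_of {G : Type u} [Group G] {U H A : Subgroup G} {K : Type v} [Field K]
    [Fintype K] {m : ℕ} (hax : Ax G U H A K m) (ho : OrbC2 G m) (hd : Dio2)
    (hc : CountC G m) : FinC2 G m := by
  obtain ⟨k, c, n, C, hcyc, hcard, h1, hn, hdv, hprod, hsum, hcov, hN, hC⟩ := ho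
  simp only [hax.card] at hdv hsum
  obtain ⟨i, j, hi, hj, hall, hni, hnj⟩ := hd m hax.hm k c n _ h1 hn hdv hprod hsum hc
  refine ⟨C i, C j, hcyc i, hcyc j, by rw [hcard, hi], by rw [hcard, hj], ?_, ?_, hC i, hC j, ?_⟩
  · rw [hN, hni, hi]
  · rw [hN, hnj, hj]
  · intro g hg
    obtain ⟨l, x, hx⟩ := hcov g hg
    rcases hall l with rfl | rfl
    · exact ⟨x, Or.inl hx⟩
    · exact ⟨x, Or.inr hx⟩

theorem fin_of_fin2 {G : Type u} [Group G] {m : ℕ} (h : FinC2 G m) : FinC G m := by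
  obtain ⟨C₁, C₂, h1, h2, h3, h4, -, -, -, -, h9⟩ := h
  exact ⟨C₁, C₂, h1, h2, h3, h4, h9⟩

/-! ## S2358: conjugacy of the cyclic subgroups of toral order -/

/-- conclusion of S2358 -/
def ConjC (G : Type u) [Group G] (m : ℕ) : Prop :=
  ∀ d : ℕ, (d ∣ (qq m - 1) / 2 ∨ d ∣ (qq m + 1) / 4 ∨ d ∣ qq m - rr m + 1 ∨
      d ∣ qq m + rr m + 1) →
    ∀ A B : Subgroup G, IsCyclic A → IsCyclic B → Nat.card A = d → Nat.card B = d →
      ∃ g : G, B = A.map (MulAut.conj g).toMonoidHom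

/-- CONJ -/
def ConjP : Prop :=
  ∀ (G : Type u) [Group G] [Finite G] (U H A : Subgroup G) (K : Type v) [Field K] [Fintype K]
    (m : ℕ), Ax G U H A K m → OddHC G H m → OddAC G A m → FinC G m → ConjC G m

/-! ## S1158: the cyclic Hall subgroups and their normalizers -/

/-- a cyclic subgroup of order `k` with normalizer of order `n`, all of whose nontrivial
subgroups have the same normalizer -/
def NormOne (G : Type u) [Group G] (k n : ℕ) : Prop :=
  ∃ A : Subgroup G, IsCyclic A ∧ Nat.card A = k ∧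
    Nat.card (Subgroup.normalizer (A : Set G)) = n ∧
    ∀ A₀ : Subgroup G, A₀ ≤ A → A₀ ≠ ⊥ →
      Subgroup.normalizer (A₀ : Set G) = Subgroup.normalizer (A : Set G)

/-- conclusion of S1158 -/
def NormC (G : Type u) [Group G] (m : ℕ) : Prop :=
  ∀ kn ∈ ({((qq m - 1) / 2, 2 * (qq m - 1)), ((qq m + 1) / 4, 6 * (qq m + 1)),
        (qq m - rr m + 1, 6 * (qq m - rr m + 1)),
        (qq m + rr m + 1, 6 * (qq m + rr m + 1))} : Set (ℕ × ℕ)),
      ∃ A : Subgroup G, IsCyclic A ∧ Nat.card A = kn.1 ∧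
        Nat.card (Subgroup.normalizer (A : Set G)) = kn.2 ∧
        ∀ A₀ : Subgroup G, A₀ ≤ A → A₀ ≠ ⊥ →
          Subgroup.normalizer (A₀ : Set G) = Subgroup.normalizer (A : Set G)

/-- NRMH: the subgroup of order `(q-1)/2` of `H` -/
def NormHP : Prop :=
  ∀ (G : Type u) [Group G] [Finite G] (U H A : Subgroup G) (K : Type v) [Field K] [Fintype K]
    (m : ℕ), Ax G U H A K m → NHC G H m → NormOne G ((qq m - 1) / 2) (2 * (qq m - 1))

/-- NRMA: the subgroup `A` of order `(q+1)/4` -/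
def NormAP : Prop :=
  ∀ (G : Type u) [Group G] [Finite G] (U H A : Subgroup G) (K : Type v) [Field K] [Fintype K]
    (m : ℕ), Ax G U H A K m → NAC G A m → NormOne G ((qq m + 1) / 4) (6 * (qq m + 1))

/-- NRMF: the two Hall subgroups of orders `q ∓ r + 1` -/
def NormFP : Prop :=
  ∀ (G : Type u) [Group G] [Finite G] (m : ℕ), FinC2 G m →
    NormOne G (qq m - rr m + 1) (6 * (qq m - rr m + 1)) ∧
    NormOne G (qq m + rr m + 1) (6 * (qq m + rr m + 1))

theorem norm_of {G : Type u} [Group G] {m : ℕ}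
    (h1 : NormOne G ((qq m - 1) / 2) (2 * (qq m - 1)))
    (h2 : NormOne G ((qq m + 1) / 4) (6 * (qq m + 1)))
    (h3 : NormOne G (qq m - rr m + 1) (6 * (qq m - rr m + 1)) ∧
      NormOne G (qq m + rr m + 1) (6 * (qq m + rr m + 1))) : NormC G m := by
  intro kn hkn
  simp only [Set.mem_insert_iff, Set.mem_singleton_iff] at hkn
  rcases hkn with rfl | rfl | rfl | rfl
  · exact h1
  · exact h2
  · exact h3.1
  · exact h3.2

/-! ## S2357: the number of elements of each order -/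

/-- elements of order 3 and 9 -/
def Cnt3C (G : Type u) [Group G] (m : ℕ) : Prop :=
  Nat.card {g : G // orderOf g = 3} = (qq m ^ 2 - 1) * (qq m ^ 3 + 1) ∧
  Nat.card {g : G // orderOf g = 9} = qq m ^ 2 * (qq m - 1) * (qq m ^ 3 + 1)

/-- CNT3: every element of order 3 lies in exactly one of the `q³+1` conjugates of `U`, each
of which has `q²-1` of them; the other nonidentity 3-elements have order 9 -/
def Cnt3P : Prop :=
  ∀ (G : Type u) [Group G] [Finite G] (U H A : Subgroup G) (K : Type v) [Field K] [Fintype K]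
    (m : ℕ), Ax G U H A K m → SylNC G U H m → C3C G m →
      Nat.card {u : ↥U // orderOf u = 3} = qq m ^ 2 - 1 → Cnt3C G m

/-- elements of order `i ∣ q - 1`, `i > 2` -/
def CntHC (G : Type u) [Group G] (m : ℕ) : Prop :=
  ∀ i : ℕ, 2 < i → i ∣ qq m - 1 →
    2 * Nat.card {g : G // orderOf g = i} = Nat.totient i * qq m ^ 3 * (qq m ^ 3 + 1)

/-- CNTH -/
def CntHP : Prop :=
  ∀ (G : Type u) [Group G] [Finite G] (U H A : Subgroup G) (K : Type v) [Field K] [Fintype K]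
    (m : ℕ), Ax G U H A K m → NHC G H m → OddHC G H m → CntHC G m

/-- elements of order `i ∣ (q+1)/4`, `i > 1` -/
def CntAC (G : Type u) [Group G] (m : ℕ) : Prop :=
  ∀ i : ℕ, 1 < i → i ∣ (qq m + 1) / 4 →
    6 * Nat.card {g : G // orderOf g = i} =
      Nat.totient i * qq m ^ 3 * (qq m - 1) * (qq m ^ 2 - qq m + 1)

/-- CNTA -/
def CntAP : Prop :=
  ∀ (G : Type u) [Group G] [Finite G] (U H A : Subgroup G) (K : Type v) [Field K] [Fintype K]
    (m : ℕ), Ax G U H A K m → NAC G A m → OddAC G A m → CntAC G m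

/-- elements of order `2i`, `i ∣ (q+1)/4`, `i > 1`: three times as many as of order `i` -/
def Cnt2AC (G : Type u) [Group G] (m : ℕ) : Prop :=
  ∀ i : ℕ, 1 < i → i ∣ (qq m + 1) / 4 →
    Nat.card {g : G // orderOf g = 2 * i} = 3 * Nat.card {g : G // orderOf g = i}

/-- CNT2A -/
def Cnt2AP : Prop :=
  ∀ (G : Type u) [Group G] [Finite G] (U H A : Subgroup G) (K : Type v) [Field K] [Fintype K]
    (m : ℕ), Ax G U H A K m → OddAC G A m → Cnt2AC G m

/-- elements of order `i ∣ q ∓ r + 1`, `i > 1` -/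
def CntFC (G : Type u) [Group G] (m : ℕ) : Prop :=
  (∀ i : ℕ, 1 < i → i ∣ qq m - rr m + 1 →
    6 * Nat.card {g : G // orderOf g = i} =
      Nat.totient i * qq m ^ 3 * (qq m ^ 2 - 1) * (qq m + rr m + 1)) ∧
  (∀ i : ℕ, 1 < i → i ∣ qq m + rr m + 1 →
    6 * Nat.card {g : G // orderOf g = i} =
      Nat.totient i * qq m ^ 3 * (qq m ^ 2 - 1) * (qq m - rr m + 1))

/-- CNTF -/
def CntFP : Prop :=
  ∀ (G : Type u) [Group G] [Finite G] (U H A : Subgroup G) (K : Type v) [Field K] [Fintype K]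
    (m : ℕ), Ax G U H A K m → FinC2 G m → CntFC G m

/-- conclusion of S2357 -/
def CountsC (G : Type u) [Group G] (m : ℕ) : Prop :=
  Nat.card {g : G // orderOf g = 2} = (qq m) ^ 2 * ((qq m) ^ 2 - qq m + 1) ∧
  Nat.card {g : G // orderOf g = 3} = ((qq m) ^ 2 - 1) * ((qq m) ^ 3 + 1) ∧
  Nat.card {g : G // orderOf g = 6} = (qq m) ^ 2 * (qq m - 1) * ((qq m) ^ 3 + 1) ∧
  Nat.card {g : G // orderOf g = 9} = (qq m) ^ 2 * (qq m - 1) * ((qq m) ^ 3 + 1) ∧
  (∀ i : ℕ, 2 < i → i ∣ qq m - 1 →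
    2 * Nat.card {g : G // orderOf g = i} = Nat.totient i * (qq m) ^ 3 * ((qq m) ^ 3 + 1)) ∧
  (∀ i : ℕ, 1 < i → i ∣ (qq m + 1) / 4 →
    6 * Nat.card {g : G // orderOf g = i} =
        Nat.totient i * (qq m) ^ 3 * (qq m - 1) * ((qq m) ^ 2 - qq m + 1) ∧
      2 * Nat.card {g : G // orderOf g = 2 * i} =
        Nat.totient i * (qq m) ^ 3 * (qq m - 1) * ((qq m) ^ 2 - qq m + 1)) ∧
  (∀ i : ℕ, 1 < i → i ∣ qq m - rr m + 1 →
    6 * Nat.card {g : G // orderOf g = i} =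
      Nat.totient i * (qq m) ^ 3 * ((qq m) ^ 2 - 1) * (qq m + rr m + 1)) ∧
  (∀ i : ℕ, 1 < i → i ∣ qq m + rr m + 1 →
    6 * Nat.card {g : G // orderOf g = i} =
      Nat.totient i * (qq m) ^ 3 * ((qq m) ^ 2 - 1) * (qq m - rr m + 1))

theorem counts_of {G : Type u} [Group G] {m : ℕ} (h2 : C2C G m) (h6 : C6C G m)
    (h3 : Cnt3C G m) (hH : CntHC G m) (hA : CntAC G m) (hA2 : Cnt2AC G m) (hF : CntFC G m) :
    CountsC G m := by
  refine ⟨h2, h3.1, ?_, h3.2, hH, ?_, hF.1, hF.2⟩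
  · unfold C6C at h6
    rw [h6]; ring
  · intro i hi hdvd
    refine ⟨hA i hi hdvd, ?_⟩
    rw [hA2 i hi hdvd, ← hA i hi hdvd]; ring

/-! ## the translation piece for the elements of order 3 of `U` -/

/-- TR3 -/
def TR3 : Prop :=
  ∀ {Γ : Type u} [Group Γ] (R D Up : Subgroup Γ) (K : Type v) [Field K] [Fintype K] (m : ℕ),
    Raw R D Up K m → Nat.card {u : ↥(Usub R Up) // orderOf u = 3} = qq m ^ 2 - 1

/-! ## assembly -/

/-- the intermediate facts of the S1159 count -/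
structure Mid (G : Type u) [Group G] (U H A : Subgroup G) (m : ℕ) : Prop where
  syl : SylNC G U H m
  three : ThreeC G
  even : EvenC G m
  oddH : OddHC G H m
  oddA : OddAC G A m
  hall : HallC G m
  nh : NHC G H m
  na : NAC G A m
  c3 : C3C G m
  c2 : C2C G m
  c6 : C6C G m
  count : CountC G m

/-- the intermediate facts from the clean axioms and the S1159 pieces -/
theorem mid_of_ax (pTI : TISyl.{u}) (pSyl : Syl.{u, v}) (pThree : Three.{u, v})
    (pEven : EvenP.{u, v}) (pOddH : OddH.{u, v}) (pOddA : OddA.{u, v})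
    (pRC1 : RC1.{u, v}) (pRC2 : RC2.{u, v}) (pHall : Hall.{u, v})
    (pNH : NH.{u, v}) (pNA : NA.{u, v}) (pC3 : C3.{u, v}) (pC2 : C2.{u, v})
    (pC6 : C6.{u, v}) (pCT1 : CT1.{u, v}) (pCT2 : CT2.{u, v}) (pCE : CE.{u, v})
    (pCP : CP.{u, v})
    {G : Type u} [Group G] [Finite G] {U H A : Subgroup G} {K : Type v} [Field K]
    [Fintype K] {m : ℕ} (hax : Ax G U H A K m) : Mid G U H A m := by
  have hS := pSyl G U H A K m hax pTI
  have h3 := pThree G U H A K m hax hS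
  have hE := pEven G U H A K m hax
  have hH := pOddH G U H A K m hax
  have hA := pOddA G U H A K m hax
  have hr1 := pRC1 G K m hax.cardK hax.rep
  have hr2 := pRC2 G K m hax.cardK hax.rep
  have hHall := pHall G U H A K m hax h3 hE hH hA hr1 hr2
  have hNH := pNH G U H A K m hax pTI
  have hNA := pNA G U H A K m hax pTI
  have hc2 := pC2 G U H A K m hax
  have hc3 := pC3 G U H A K m hax hS
  have hc6 := pC6 G U H A K m hax hS h3 hc2
  have hc := count_of hax hc3 hc2 hc6 (pCT1 G U H A K m hax hNH) (pCT2 G U H A K m hax hNA)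
    (pCE G U H A K m hax h3 hE hH hA) (pCP G U H A K m hax hS h3 hH hA)
  exact ⟨hS, h3, hE, hH, hA, hHall, hNH, hNA, hc3, hc2, hc6, hc⟩

theorem finite_of_raw {Γ : Type u} [Group Γ] {R D Up : Subgroup Γ} {K : Type v} [Field K]
    [Fintype K] {m : ℕ} (hraw : Raw R D Up K m) : Finite ↥R :=
  Nat.finite_of_card_ne_zero (by
    rw [hraw.s1069]
    have h3 := three_le_qq m
    have h1 : 0 < 3 ^ (2 * m + 1) - 1 := by
      have : 3 ≤ 3 ^ (2 * m + 1) := h3
      omega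
    positivity)

/-- S2358 from the raw facts and the pieces -/
theorem conj_of_raw (pa : TRa.{u, v}) (p9 : TR9.{u, v}) (pi : TRi.{u, v}) (ph : TRh.{u, v})
    (pA : TRA.{u, v}) (pTI : TISyl.{u}) (pSyl : Syl.{u, v}) (pThree : Three.{u, v})
    (pEven : EvenP.{u, v}) (pOddH : OddH.{u, v}) (pOddA : OddA.{u, v})
    (pRC1 : RC1.{u, v}) (pRC2 : RC2.{u, v}) (pHall : Hall.{u, v})
    (pNH : NH.{u, v}) (pNA : NA.{u, v}) (pC3 : C3.{u, v}) (pC2 : C2.{u, v})
    (pC6 : C6.{u, v}) (pCT1 : CT1.{u, v}) (pCT2 : CT2.{u, v}) (pCE : CE.{u, v})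
    (pCP : CP.{u, v}) (pOrb : Orb.{u, v}) (pDio : Dio) (pConj : ConjP.{u, v})
    {Γ : Type u} [Group Γ] {R D Up : Subgroup Γ} {K : Type v} [Field K] [Fintype K] {m : ℕ}
    (hraw : Raw R D Up K m) : ConjC ↥R m := by
  obtain ⟨A, hax⟩ := ax_of_raw pa p9 pi ph pA hraw
  have : Finite ↥R := finite_of_raw hraw
  have hmid := mid_of_ax pTI pSyl pThree pEven pOddH pOddA pRC1 pRC2 pHall pNH pNA pC3 pC2
    pC6 pCT1 pCT2 pCE pCP hax
  have hF := fin_of hax (pOrb _ _ _ A K m hax hmid.hall) pDio hmid.count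
  exact pConj _ _ _ A K m hax hmid.oddH hmid.oddA hF

/-- S1158 from the raw facts and the pieces -/
theorem norm_of_raw (pa : TRa.{u, v}) (p9 : TR9.{u, v}) (pi : TRi.{u, v}) (ph : TRh.{u, v})
    (pA : TRA.{u, v}) (pTI : TISyl.{u}) (pSyl : Syl.{u, v}) (pThree : Three.{u, v})
    (pEven : EvenP.{u, v}) (pOddH : OddH.{u, v}) (pOddA : OddA.{u, v})
    (pRC1 : RC1.{u, v}) (pRC2 : RC2.{u, v}) (pHall : Hall.{u, v})
    (pNH : NH.{u, v}) (pNA : NA.{u, v}) (pC3 : C3.{u, v}) (pC2 : C2.{u, v})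
    (pC6 : C6.{u, v}) (pCT1 : CT1.{u, v}) (pCT2 : CT2.{u, v}) (pCE : CE.{u, v})
    (pCP : CP.{u, v}) (pOrb2 : Orb2.{u, v}) (pDio2 : Dio2) (pNH' : NormHP.{u, v})
    (pNA' : NormAP.{u, v}) (pNF : NormFP.{u})
    {Γ : Type u} [Group Γ] {R D Up : Subgroup Γ} {K : Type v} [Field K] [Fintype K] {m : ℕ}
    (hraw : Raw R D Up K m) : NormC ↥R m := by
  obtain ⟨A, hax⟩ := ax_of_raw pa p9 pi ph pA hraw
  have : Finite ↥R := finite_of_raw hraw
  have hmid := mid_of_ax pTI pSyl pThree pEven pOddH pOddA pRC1 pRC2 pHall pNH pNA pC3 pC2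
    pC6 pCT1 pCT2 pCE pCP hax
  have hF := fin2_of hax (pOrb2 _ _ _ A K m hax hmid.hall) pDio2 hmid.count
  exact norm_of (pNH' _ _ _ A K m hax hmid.nh) (pNA' _ _ _ A K m hax hmid.na) (pNF _ m hF)

/-- S2357 from the raw facts and the pieces -/
theorem counts_of_raw (pa : TRa.{u, v}) (p9 : TR9.{u, v}) (pi : TRi.{u, v})
    (ph : TRh.{u, v})
    (pA : TRA.{u, v}) (pTI : TISyl.{u}) (pSyl : Syl.{u, v}) (pThree : Three.{u, v})
    (pEven : EvenP.{u, v}) (pOddH : OddH.{u, v}) (pOddA : OddA.{u, v})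
    (pRC1 : RC1.{u, v}) (pRC2 : RC2.{u, v}) (pHall : Hall.{u, v})
    (pNH : NH.{u, v}) (pNA : NA.{u, v}) (pC3 : C3.{u, v}) (pC2 : C2.{u, v})
    (pC6 : C6.{u, v}) (pCT1 : CT1.{u, v}) (pCT2 : CT2.{u, v}) (pCE : CE.{u, v})
    (pCP : CP.{u, v}) (pOrb2 : Orb2.{u, v}) (pDio2 : Dio2) (p3 : TR3.{u, v})
    (pc3 : Cnt3P.{u, v}) (pcH : CntHP.{u, v}) (pcA : CntAP.{u, v}) (pc2A : Cnt2AP.{u, v})
    (pcF : CntFP.{u, v})
    {Γ : Type u} [Group Γ] {R D Up : Subgroup Γ} {K : Type v} [Field K] [Fintype K] {m : ℕ}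
    (hraw : Raw R D Up K m) : CountsC ↥R m := by
  obtain ⟨A, hax⟩ := ax_of_raw pa p9 pi ph pA hraw
  have : Finite ↥R := finite_of_raw hraw
  have hmid := mid_of_ax pTI pSyl pThree pEven pOddH pOddA pRC1 pRC2 pHall pNH pNA pC3 pC2
    pC6 pCT1 pCT2 pCE pCP hax
  have hF := fin2_of hax (pOrb2 _ _ _ A K m hax hmid.hall) pDio2 hmid.count
  exact counts_of hmid.c2 hmid.c6
    (pc3 _ _ _ A K m hax hmid.syl hmid.c3 (p3 R D Up K m hraw))
    (pcH _ _ _ A K m hax hmid.nh hmid.oddH) (pcA _ _ _ A K m hax hmid.na hmid.oddA)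
    (pc2A _ _ _ A K m hax hmid.oddA) (pcF _ _ _ A K m hax hF)

end Cfsg.Agent.Lib.Helper42.ReeSpStmt2
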